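import Mathlib
import Cfsg.Agent.H483.Rad23.Base
import Cfsg.Agent.H957.UFrame
import Cfsg.Agent.Schreier.PSU
import Cfsg.Agent.H471.TRowPSU
import Cfsg.Agent.S0283
import Cfsg.Agent.S0282

/-!
# S3832, `p = 2`: the row of `PSU_5(2)` (task 1540 of helper483)

An automorphism `x` of order two of `PSU_5(2)` fixes a non-isotropic point and acts non-trivially on the stabiliser `SU_4(2)`
of it.
-/

set_option autoImplicit false

namespace Cfsg.Agent.H519.RowU5

open Cfsg Subgroup
open Cfsg.Agent.LieClassical.HermBasic Cfsg.Agent.LieClassical.HermSiegel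
  Cfsg.Agent.ClassicalGeometry.UnitAutBasic Cfsg.Agent.ClassicalGeometry.PSUAutCount
  Cfsg.Agent.LieClassical.FieldTransfer
open Cfsg.Agent.Schreier.PSU (f₁ f₂ mapGU gm_mapGU conj_field toAut_eq)
open Cfsg.Agent.LieClassical.GUOrder (ext1 ext1_mulVec_zero ext1_mulVec_succ ext1_isom det_ext1 eq_ext1_of_fix
  submatrix_isom exists_gu_map)
open Cfsg.Agent.H459.Rad Cfsg.Agent.H483.Rad23
open scoped Matrix

variable {F : Type*} [Field F] {q m : ℕ}

/-! ### The subgroup `SU_m` of `SU_{m+1}` -/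

/-- the embedding -/
def emb (m : ℕ) (F : Type*) [Field F] (q : ℕ) : SU m F q →* SU (m + 1) F q where
  toFun g := mkSU (ext1 1 (mat g)) (by rw [det_ext1, det_mat, one_mul])
    (ext1_isom 1 (one_pow _) _ (fun u v => by
      have := herm_act g u v
      exact this))
  map_one' := by
    apply mat_injective
    rw [mat_mkSU, mat_one, mat_one]
    ext i j
    refine Fin.cases ?_ (fun i => ?_) i <;> refine Fin.cases ?_ (fun j => ?_) j <;>
      simp [ext1, Matrix.one_apply, Fin.succ_ne_zero, (Fin.succ_ne_zero _).symm]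
  map_mul' g h := by
    apply ext_act
    intro v
    rw [act_mul]
    funext i
    show (ext1 1 (mat (g * h)) *ᵥ v) i = (ext1 1 (mat g) *ᵥ (ext1 1 (mat h) *ᵥ v)) i
    refine Fin.cases ?_ (fun i => ?_) i
    · rw [ext1_mulVec_zero, ext1_mulVec_zero, ext1_mulVec_zero]
      ring
    · have h1 : (fun j : Fin m => (ext1 1 (mat h) *ᵥ v) j.succ) = mat h *ᵥ fun j => v j.succ :=
        funext fun j => ext1_mulVec_succ 1 (mat h) v j
      rw [ext1_mulVec_succ, ext1_mulVec_succ, mat_mul, ← Matrix.mulVec_mulVec, h1]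

theorem mat_emb (g : SU m F q) : mat (emb m F q g) = ext1 1 (mat g) := rfl

theorem act_emb_zero (g : SU m F q) (v : Fin (m + 1) → F) : act (emb m F q g) v 0 = v 0 := by
  show (ext1 1 (mat g) *ᵥ v) 0 = v 0
  rw [ext1_mulVec_zero, one_mul]

theorem act_emb_succ (g : SU m F q) (v : Fin (m + 1) → F) (i : Fin m) :
    act (emb m F q g) v i.succ = act g (fun j => v j.succ) i := ext1_mulVec_succ 1 (mat g) v i

theorem emb_injective : Function.Injective (emb m F q) := by
  intro g h hgh
  apply ext_act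
  intro v
  funext i
  have h1 := congrArg (fun x => act x (Fin.cons 0 v) i.succ) hgh
  simp only [act_emb_succ, Fin.cons_succ] at h1
  exact h1

variable [Fintype F]

/-- the embedding into `PSU` -/
def emP (m : ℕ) (F : Type*) [Field F] (q : ℕ) : SU m F q →* PSU (m + 1) F q := (pr (m + 1) F q).comp (emb m F q)

theorem emP_injective (hF : Fintype.card F = q ^ 2) (hm : 2 ≤ m) : Function.Injective (emP m F q) := by
  intro g h hgh
  obtain ⟨c, -, hc⟩ := exists_scalar_of_pr_eq hF (by omega) (show pr (m + 1) F q (emb m F q g) = pr (m + 1) F q (emb m F q h)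
    from hgh)
  have h1 := congrFun (hc (Pi.single 0 1)) 0
  rw [Pi.smul_apply, act_emb_zero, act_emb_zero, Pi.single_eq_same, smul_eq_mul, mul_one] at h1
  apply emb_injective
  apply ext_act
  intro v
  rw [hc v, ← h1, one_smul]

/-- it is a proper subgroup -/
theorem range_ne_top (hF : Fintype.card F = q ^ 2) (hm : 2 ≤ m) : (emP m F q).range ≠ ⊤ := by
  intro htop
  have hn : 3 ≤ m + 1 := by omega
  obtain ⟨b, hb⟩ := exists_norm_eq hF (c := (-1 : F)) (by rw [neg_pow_q hF, one_pow])
  -- the isotropic vector `e_0 + b e_1`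
  set v : Fin (m + 1) → F := fun i => if i.val = 0 then 1 else if i.val = 1 then b else 0 with hv
  have hiso : hermForm (m + 1) F q v v = 0 := by
    obtain ⟨l, rfl⟩ : ∃ l, m = l + 1 := ⟨m - 1, by omega⟩
    rw [Cfsg.Agent.LieClassical.SUBasic.hermForm_apply, Fin.sum_univ_succ, Fin.sum_univ_succ]
    have h0 : v 0 = 1 := by simp [hv]
    have h1 : v (Fin.succ 0) = b := by simp [hv]
    have h3 : ∀ i : Fin l, v (Fin.succ (Fin.succ i)) = 0 := by
      intro i
      simp [hv]
    rw [h0, h1]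
    simp only [h3, zero_mul, Finset.sum_const_zero, one_pow, mul_one, add_zero]
    rw [hb]
    ring
  have hmem : pr (m + 1) F q (T hF v) ∈ (emP m F q).range := by
    rw [htop]
    trivial
  obtain ⟨g, hg⟩ := hmem
  obtain ⟨c, -, hc⟩ := exists_scalar_of_pr_eq hF hn (show pr (m + 1) F q (emb m F q g) = pr (m + 1) F q (T hF v) from hg)
  have h1 := congrFun (hc (Pi.single 0 1)) ⟨1, by omega⟩
  have h2 : hermForm (m + 1) F q (Pi.single 0 1) v = 1 := by
    rw [herm_single_left]
    simp [hv]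
  have e1 : (⟨1, by omega⟩ : Fin (m + 1)) = Fin.succ ⟨0, by omega⟩ := rfl
  have h3 : act (emb m F q g) (Pi.single 0 1) ⟨1, by omega⟩ = 0 := by
    rw [e1, act_emb_succ]
    have : (fun j : Fin m => (Pi.single 0 1 : Fin (m + 1) → F) j.succ) = 0 := by
      funext j
      rw [Pi.single_eq_of_ne (Fin.succ_ne_zero j)]
      rfl
    rw [this, act_zero]
    rfl
  rw [act_T hF hiso, h2, mul_one, Pi.smul_apply, h3, smul_zero, Pi.add_apply, Pi.smul_apply, smul_eq_mul,
    Pi.single_eq_of_ne (by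
      intro h
      have := congrArg Fin.val h
      simp at this), zero_add] at h1
  have h4 : v ⟨1, by omega⟩ = b := by simp [hv]
  rw [h4] at h1
  rcases mul_eq_zero.1 h1 with h5 | h5
  · exact c0_ne_zero hF h5
  · rw [h5, zero_mul] at hb
    exact one_ne_zero (neg_eq_zero.1 hb.symm)

/-! ### Automorphisms fixing the first basis vector -/

/-- **The core.** -/
theorem scalar_of_rc (hF : Fintype.card F = q ^ 2) (hm : 4 ≤ m) [IsSimpleGroup (PSU m F q)] {A : Cfsg.GU (m + 1) F q}
    {ρ : F ≃+* F} (hA : gm A *ᵥ (Pi.single 0 1) = Pi.single 0 1) (hR : RC (toAut A ρ)) :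
    ρ = 1 ∧ ∃ c : F, gm A = ext1 1 (c • (1 : Matrix (Fin m) (Fin m) F)) := by
  have hfin : Finite (PSU (m + 1) F q) := inferInstance
  have hfin' : Finite (PSU m F q) := inferInstance
  have hext := eq_ext1_of_fix hF (gm A) (herm_gm A) hA
  set B0 := (gm A).submatrix Fin.succ Fin.succ with hB0
  have hB0i : ∀ u v : Fin m → F, hermForm m F q (B0 *ᵥ u) (B0 *ᵥ v) = hermForm m F q u v :=
    submatrix_isom hF B0 (by rw [← hext]; exact herm_gm A)
  obtain ⟨B1, hB1, hB⟩ := Cfsg.Agent.ClassicalGeometry.HermOrtho.exists_GU_of_isometry hF hB0i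
  let B : Cfsg.GU m F q := ⟨B1, hB1⟩
  have hB' : gm B = B0 := hB
  -- the action on the subgroup
  have hact : ∀ g : SU m F q, semiConj A ρ (emb m F q g) = emb m F q (semiConj B ρ g) := by
    intro g
    apply ext_act
    intro v
    have hv : v = gm A *ᵥ fun i => ρ ((fun j => ρ.symm ((gm A⁻¹ *ᵥ v) j)) i) := by
      simp only [RingEquiv.apply_symm_apply]
      rw [gm_mulVec_inv]
    generalize (fun j => ρ.symm ((gm A⁻¹ *ᵥ v) j)) = w at hv
    rw [hv, act_semiConj]
    funext i
    rw [hext]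
    refine Fin.cases ?_ (fun i => ?_) i
    · rw [act_emb_zero, ext1_mulVec_zero, ext1_mulVec_zero, act_emb_zero]
    · rw [act_emb_succ, ext1_mulVec_succ]
      have h1 : (fun j : Fin m => (ext1 1 B0 *ᵥ fun i => ρ (w i)) j.succ) = gm B *ᵥ fun i => ρ (w i.succ) := by
        funext j
        rw [ext1_mulVec_succ, hB']
      rw [h1]
      have h2 := act_semiConj B ρ g (fun i => w i.succ)
      rw [h2, hB']
      congr 2
      funext j
      rw [act_emb_succ]
  -- the criterion
  let e : SU m F q ≃* (emP m F q).range := MonoidHom.ofInjective (emP_injective hF (by omega))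
  let f : (emP m F q).range →* PSU m F q := (pr m F q).comp e.symm.toMonoidHom
  have hf : Function.Surjective f := pr_surjective.comp e.symm.surjective
  have hx : ∀ k ∈ (emP m F q).range, toAut A ρ k ∈ (emP m F q).range := by
    rintro _ ⟨g, rfl⟩
    exact ⟨semiConj B ρ g, by
      show pr (m + 1) F q (emb m F q (semiConj B ρ g)) = toAut A ρ (pr (m + 1) F q (emb m F q g))
      rw [toAut_pr, hact]⟩
  have hns : ¬ Group.IsSolvable (PSU m F q) := by
    obtain ⟨k, rfl⟩ : ∃ k, m = k + 3 := ⟨m - 3, by omega⟩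
    intro hs
    exact H471.TRowPSU.not_comm (k := k) hF ⟨⟨(IsSimpleGroup.comm_iff_isSolvable).2 hs⟩⟩
  have key := fun k => hR.map_eq (range_ne_top hF (by omega)) hx f hf (rad_eq_bot_of_simple hns) k
  have h1 : toAut B ρ = toAut (1 : Cfsg.GU m F q) 1 := by
    ext y
    obtain ⟨g, rfl⟩ := pr_surjective y
    have h2 := key (e g)
    have h3 : (⟨toAut A ρ (e g), hx _ (e g).2⟩ : (emP m F q).range) = e (semiConj B ρ g) := by
      apply Subtype.ext
      show toAut A ρ (pr (m + 1) F q (emb m F q g)) = pr (m + 1) F q (emb m F q (semiConj B ρ g))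
      rw [toAut_pr, hact]
    rw [h3] at h2
    have h4 : ∀ g, f (e g) = pr m F q g := fun g => by
      show pr m F q (e.symm (e g)) = _
      rw [MulEquiv.symm_apply_apply]
    rw [h4, h4] at h2
    rw [toAut_pr, h2, toAut_eq, map_one, map_one, mul_one, MulAut.one_apply]
  obtain ⟨h5, c, hc, h6⟩ := eq_of_toAut_eq hF (by omega) h1
  refine ⟨h5.symm, c⁻¹, ?_⟩
  have hc0 : c ≠ 0 := by
    rintro rfl
    rw [zero_mul] at hc
    exact zero_ne_one hc
  rw [hext, ← hB']
  congr 1
  rw [gm_one] at h6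
  rw [h6, smul_smul, inv_mul_cancel₀ hc0, one_smul]

/-! ### The square -/

omit [Fintype F] in
theorem toAut_mul_self (A : Cfsg.GU m F q) (ρ : F ≃+* F) :
    toAut A ρ * toAut A ρ = toAut (A * mapGU ρ A) (ρ * ρ) := by
  rw [toAut_eq, toAut_eq, map_mul, map_mul, ← conj_field]
  group

omit [Fintype F] in
theorem toAut_conj (h A : Cfsg.GU m F q) (ρ : F ≃+* F) :
    (f₁ h : MulAut (PSU m F q)) * toAut A ρ * (f₁ h)⁻¹ = toAut (h * A * mapGU ρ h⁻¹) ρ := by
  rw [toAut_eq, toAut_eq, map_mul, map_mul, ← conj_field, map_inv]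
  group

theorem exists_sq (hF : Fintype.card F = q ^ 2) (hm : 3 ≤ m) {A : Cfsg.GU m F q} {ρ : F ≃+* F}
    (h : toAut A ρ * toAut A ρ = 1) : (∀ x, ρ (ρ x) = x) ∧ ∃ d : F, d * d ^ q = 1 ∧
      ∀ v : Fin m → F, (gm A *ᵥ fun i => ρ ((gm A *ᵥ fun j => ρ (v j)) i)) = d • v := by
  rw [toAut_mul_self] at h
  have h1 : toAut (A * mapGU ρ A) (ρ * ρ) = toAut (1 : Cfsg.GU m F q) 1 := by
    rw [h, toAut_eq, map_one, map_one, mul_one]
  obtain ⟨h2, c, hc, h3⟩ := eq_of_toAut_eq hF hm h1
  have hρ : ∀ x, ρ (ρ x) = x := fun x => congrArg (fun τ : F ≃+* F => τ x) h2.symm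
  have hc0 : c ≠ 0 := by
    rintro rfl
    rw [zero_mul] at hc
    exact zero_ne_one hc
  refine ⟨hρ, c⁻¹, by rw [inv_pow, ← mul_inv, hc, inv_one], fun v => ?_⟩
  have h4 : (fun i => ρ ((gm A *ᵥ fun j => ρ (v j)) i)) = gm (mapGU ρ A) *ᵥ v := by
    rw [← gm_mapGU]
    congr 1
    funext i
    exact hρ _
  rw [gm_one] at h3
  have h5 : v = c • (gm (A * mapGU ρ A) *ᵥ v) := by
    rw [← Matrix.smul_mulVec, ← h3, Matrix.one_mulVec]
  rw [h4, Matrix.mulVec_mulVec, ← gm_mul]
  conv_rhs => rw [h5]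
  rw [smul_smul, inv_mul_cancel₀ hc0, one_smul]

/-! ### Alternating matrices of odd size -/

/-- the universal alternating matrix -/
noncomputable def uni (n : ℕ) : Matrix (Fin n) (Fin n) (MvPolynomial (Fin n × Fin n) ℤ) :=
  Matrix.of fun i j => if i < j then MvPolynomial.X (i, j) else if j < i then -MvPolynomial.X (j, i) else 0

theorem det_uni {n : ℕ} (hn : Odd n) : (uni n).det = 0 := by
  have h1 : (uni n).transpose = -uni n := by
    ext i j
    simp only [Matrix.transpose_apply, Matrix.neg_apply, uni, Matrix.of_apply]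
    rcases lt_trichotomy i j with h | h | h
    · rw [if_neg (not_lt.2 h.le), if_pos h, if_pos h]
    · subst h
      simp
    · rw [if_pos h, if_neg (not_lt.2 h.le), if_pos h, neg_neg]
  have h2 : (uni n).det = -(uni n).det := by
    conv_lhs => rw [← Matrix.det_transpose, h1, Matrix.det_neg, Fintype.card_fin, hn.neg_one_pow, neg_one_mul]
  have h3 : (2 : MvPolynomial (Fin n × Fin n) ℤ) * (uni n).det = 0 := by
    linear_combination h2
  rcases mul_eq_zero.1 h3 with h4 | h4
  · exfalso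
    have h5 : (2 : MvPolynomial (Fin n × Fin n) ℤ) = MvPolynomial.C 2 := by simp
    rw [h5, MvPolynomial.C_eq_zero] at h4
    exact two_ne_zero h4
  · exact h4

omit [Fintype F] in
theorem det_alt {n : ℕ} (hn : Odd n) (A : Matrix (Fin n) (Fin n) F) (h0 : ∀ i, A i i = 0)
    (h1 : ∀ i j, A j i = -A i j) : A.det = 0 := by
  let φ : MvPolynomial (Fin n × Fin n) ℤ →+* F := MvPolynomial.eval₂Hom (Int.castRingHom F) fun p => A p.1 p.2
  have h2 : A = φ.mapMatrix (uni n) := by
    ext i j
    rw [RingHom.mapMatrix_apply, Matrix.map_apply, uni, Matrix.of_apply]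
    rcases lt_trichotomy i j with h | h | h
    · rw [if_pos h]
      simp [φ]
    · subst h
      rw [if_neg (lt_irrefl _), if_neg (lt_irrefl _), map_zero, h0]
    · rw [if_neg (not_lt.2 h.le), if_pos h, map_neg]
      simp [φ, h1 j i]
  rw [h2, ← RingHom.map_det, det_uni hn, map_zero]

/-! ### Fixed vectors, `q = 2` -/

section two

variable (hF : Fintype.card F = 2 ^ 2)

include hF

theorem add_self (x : F) : x + x = 0 := by
  have hc : CharP F 2 := by
    obtain ⟨p, hp⟩ := CharP.exists F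
    obtain ⟨k, hprime, hcard⟩ := FiniteField.card F p
    have h1 : p ∣ 2 ^ 2 := by
      rw [← hF, hcard]
      exact dvd_pow_self p k.ne_zero
    have h2 : p = 2 := (Nat.prime_dvd_prime_iff_eq hprime Nat.prime_two).1 (hprime.dvd_of_dvd_pow h1)
    rwa [h2] at hp
  exact CharTwo.add_self_eq_zero x

theorem eq_of_sq {t : F} (h : t ^ 2 = t) : t = 0 ∨ t = 1 := by
  have h1 : t * (t - 1) = 0 := by linear_combination h
  rcases mul_eq_zero.1 h1 with h2 | h2
  · exact Or.inl h2
  · exact Or.inr (sub_eq_zero.1 h2)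

theorem eq_frob {ρ : F ≃+* F} (hρ : ρ ≠ 1) (x : F) : ρ x = x ^ 2 := by
  have hp : Fact (Nat.Prime 2) := ⟨Nat.prime_two⟩
  have h1 : Nat.card (F ≃+* F) = 2 := Lib.FieldAutCard.card_ringAut (p := 2) (f := 2) (by norm_num) hF
  obtain ⟨y, -, hy⟩ := (Nat.card_eq_two_iff' (1 : F ≃+* F)).1 h1
  have h2 : conj hF ≠ 1 := by
    intro h
    obtain ⟨z, hz⟩ := exists_not_fixed hF
    exact hz (congrArg (fun τ : F ≃+* F => τ z) h)
  have h3 : ρ = conj hF := (hy ρ hρ).trans (hy _ h2).symm
  rw [h3]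
  rfl

/-- linear involutions -/
theorem exists_fixed_lin {n : ℕ} (hn : Odd n) {A : Cfsg.GU n F 2} (hA : ∀ v : Fin n → F, gm A *ᵥ (gm A *ᵥ v) = v) :
    ∃ v : Fin n → F, hermForm n F 2 v v = 1 ∧ gm A *ᵥ v = v := by
  classical
  let L : (Fin n → F) →ₗ[F] (Fin n → F) := Matrix.mulVecLin (gm A) + LinearMap.id
  have hL : ∀ v, L v = gm A *ᵥ v + v := fun v => rfl
  have hker : ∀ v, v ∈ LinearMap.ker L ↔ gm A *ᵥ v = v := by
    intro v
    rw [LinearMap.mem_ker, hL]
    constructor
    · intro h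
      funext i
      have h1 := congrFun h i
      have h2 := add_self hF (v i)
      rw [Pi.add_apply, Pi.zero_apply] at h1
      linear_combination h1 - h2
    · intro h
      rw [h]
      funext i
      exact add_self hF (v i)
  have hle : LinearMap.range L ≤ LinearMap.ker L := by
    rintro _ ⟨v, rfl⟩
    rw [hker, hL, Matrix.mulVec_add, hA, add_comm]
  have h1 := LinearMap.finrank_range_add_finrank_ker L
  have h2 := Submodule.finrank_mono hle
  rw [Module.finrank_fintype_fun_eq_card, Fintype.card_fin] at h1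
  by_contra hcon
  push Not at hcon
  have h3 : ∀ u ∈ LinearMap.ker L, ∀ v ∈ LinearMap.ker L, hermForm n F 2 u v = 0 := by
    intro u hu v hv
    refine Cfsg.Agent.ClassicalGeometry.HermOrtho.herm_eq_zero_of_isotropic hF (LinearMap.ker L) ?_ hu hv
    intro w hw
    have h4 : hermForm n F 2 w w ^ 2 = hermForm n F 2 w w := herm_self_pow hF w
    rcases eq_of_sq hF h4 with h5 | h5
    · exact h5
    · exact absurd ((hker w).1 hw) (hcon w h5)
  have h4 := Cfsg.Agent.H957.Uni.two_mul_finrank_le hF h3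
  obtain ⟨k, hk⟩ := hn
  omega

/-- semilinear involutions -/
theorem exists_fixed_semi {n : ℕ} (hn : Odd n) {A : Cfsg.GU n F 2} {ρ : F ≃+* F} (hρ : ρ ≠ 1)
    (hA : ∀ v : Fin n → F, (gm A *ᵥ fun i => ρ ((gm A *ᵥ fun j => ρ (v j)) i)) = v) :
    ∃ v : Fin n → F, hermForm n F 2 v v = 1 ∧ (gm A *ᵥ fun i => ρ (v i)) = v := by
  classical
  by_contra hcon
  push Not at hcon
  set s : (Fin n → F) → (Fin n → F) := fun v => gm A *ᵥ fun i => ρ (v i) with hs
  have hss : ∀ v, s (s v) = v := hA
  have hsa : ∀ u v, s (u + v) = s u + s v := by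
    intro u v
    show (gm A *ᵥ fun i => ρ ((u + v) i)) = (gm A *ᵥ fun i => ρ (u i)) + gm A *ᵥ fun i => ρ (v i)
    rw [← Matrix.mulVec_add]
    congr 1
    funext i
    rw [Pi.add_apply, Pi.add_apply, map_add]
  have hsm : ∀ (c : F) (v), s (c • v) = (c ^ 2) • s v := by
    intro c v
    show (gm A *ᵥ fun i => ρ ((c • v) i)) = (c ^ 2) • (gm A *ᵥ fun i => ρ (v i))
    rw [← Matrix.mulVec_smul]
    congr 1
    funext i
    rw [Pi.smul_apply, Pi.smul_apply, smul_eq_mul, smul_eq_mul, map_mul, eq_frob hF hρ c]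
  have hsh : ∀ u v, hermForm n F 2 (s u) (s v) = hermForm n F 2 u v ^ 2 := by
    intro u v
    rw [hs]
    rw [herm_semi, eq_frob hF hρ]
  -- `h(w, s w) ^ 2 = h(w, s w)`
  have h1 : ∀ w, hermForm n F 2 w (s w) ^ 2 = hermForm n F 2 w (s w) := by
    intro w
    have h2 : s (w + s w) = w + s w := by rw [hsa, hss, add_comm]
    have h3 : hermForm n F 2 (w + s w) (w + s w) = 0 := by
      rcases eq_of_sq hF (herm_self_pow hF (w + s w)) with h4 | h4
      · exact h4
      · exact absurd h2 (hcon _ h4)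
    rw [herm_add_left, herm_add_right hF, herm_add_right hF, hsh, herm_self_pow hF, herm_swap hF w (s w)] at h3
    have h4 := add_self hF (hermForm n F 2 w w)
    have h5 := add_self hF (hermForm n F 2 w (s w))
    linear_combination h3 - h4 - h5
  obtain ⟨ω, hω⟩ := exists_not_fixed hF
  have h2 : ∀ w, hermForm n F 2 w (s w) = 0 := by
    intro w
    have h3 := h1 (ω • w)
    rw [hsm, herm_smul_left, herm_smul_right, mul_pow, mul_pow, h1 w] at h3
    have h4 : ω ^ 4 = ω := by
      have := FiniteField.pow_card ω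
      rwa [hF] at this
    have h5 : ((ω ^ 2) ^ 2) = ω := by rw [← pow_mul]; exact h4
    rw [h5] at h3
    have h6 : hermForm n F 2 w (s w) * (ω ^ 2 * (ω ^ 2 - 1)) = 0 := by
      linear_combination h3
    rcases mul_eq_zero.1 h6 with h7 | h7
    · exact h7
    · exfalso
      rcases mul_eq_zero.1 h7 with h8 | h8
      · have h9 : ω = 0 := pow_eq_zero_iff (two_ne_zero) |>.1 h8
        rw [h9] at hω
        exact hω (zero_pow_q hF)
      · have h9 : (ω - 1) * (ω - 1) = 0 := by
          have := add_self hF (ω - 1)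
          linear_combination h8 - this
        have h10 : ω = 1 := by
          rcases mul_eq_zero.1 h9 with h | h <;> exact sub_eq_zero.1 h
        rw [h10, one_pow] at hω
        exact hω rfl
  -- the matrix is alternating
  have hse : ∀ i j, s (Pi.single j 1) i = gm A i j := by
    intro i j
    show (gm A *ᵥ fun l => ρ ((Pi.single j 1 : Fin n → F) l)) i = _
    have : (fun l => ρ ((Pi.single j 1 : Fin n → F) l)) = Pi.single j 1 := by
      funext l
      by_cases hl : l = j
      · subst hl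
        rw [Pi.single_eq_same, map_one]
      · rw [Pi.single_eq_of_ne hl, map_zero]
    rw [this, Matrix.mulVec_single_one]
    rfl
  have hhe : ∀ i j, hermForm n F 2 (Pi.single i 1) (s (Pi.single j 1)) = gm A i j ^ 2 := by
    intro i j
    rw [herm_single_left, hse, one_mul]
  have h3 : ∀ i, gm A i i = 0 := by
    intro i
    have h4 := h2 (Pi.single i 1)
    rw [hhe] at h4
    exact (pow_eq_zero_iff two_ne_zero).1 h4
  have h4 : ∀ i j, gm A j i = -gm A i j := by
    intro i j
    have h5 := h2 (Pi.single i 1 + Pi.single j 1)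
    rw [hsa, herm_add_left, herm_add_right hF, herm_add_right hF, h2, h2, hhe, hhe, zero_add, add_zero] at h5
    have h6 : (gm A i j + gm A j i) ^ 2 = 0 := by
      have h7 := add_self hF (gm A i j * gm A j i)
      linear_combination h5 + h7
    have h7 := (pow_eq_zero_iff two_ne_zero).1 h6
    linear_combination h7
  have h5 := det_alt hn (gm A) h3 h4
  have h6 : (gm A).det * (gm A⁻¹).det = 1 := by rw [← Matrix.det_mul, gm_mul_inv, Matrix.det_one]
  rw [h5, zero_mul] at h6
  exact zero_ne_one h6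

/-- an automorphism of order two fixes a vector of norm one -/
theorem exists_fixed {n : ℕ} (hn : Odd n) (hn3 : 3 ≤ n) {A : Cfsg.GU n F 2} {ρ : F ≃+* F}
    (h : toAut A ρ * toAut A ρ = 1) : ∃ B : Cfsg.GU n F 2, toAut B ρ = toAut A ρ ∧
      ∃ v : Fin n → F, hermForm n F 2 v v = 1 ∧ (gm B *ᵥ fun i => ρ (v i)) = v := by
  obtain ⟨-, d, hd, hv⟩ := exists_sq hF hn3 h
  by_cases hρ : ρ = 1
  · subst hρ
    have hv' : ∀ v : Fin n → F, gm A *ᵥ (gm A *ᵥ v) = d • v := hv
    refine ⟨sc n ⟨d, hd⟩ * A, toAut_sc_mul _ _ _, ?_⟩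
    have h1 : ∀ v : Fin n → F, gm (sc n ⟨d, hd⟩ * A) *ᵥ (gm (sc n ⟨d, hd⟩ * A) *ᵥ v) = v := by
      intro v
      rw [gm_sc_mul, Matrix.smul_mulVec, Matrix.smul_mulVec, Matrix.mulVec_smul, hv', smul_smul, smul_smul]
      have : d * d * d = 1 := by linear_combination hd
      show (d * d * d) • v = v
      rw [this, one_smul]
    exact exists_fixed_lin hF hn h1
  · refine ⟨A, rfl, ?_⟩
    -- `s (d • v) = d • s v`
    have hd0 : d ≠ 0 := by
      rintro rfl
      rw [zero_mul] at hd
      exact zero_ne_one hd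
    have h1 : ρ d = d := by
      obtain ⟨w, hw⟩ : ∃ w : Fin n → F, w ≠ 0 := ⟨Pi.single ⟨0, by omega⟩ 1, by
        intro h
        have := congrFun h ⟨0, by omega⟩
        rw [Pi.single_eq_same] at this
        exact one_ne_zero this⟩
      set s : (Fin n → F) → (Fin n → F) := fun v => gm A *ᵥ fun i => ρ (v i) with hs
      have hss : ∀ v, s (s v) = d • v := hv
      have hsm : ∀ (c : F) (v), s (c • v) = (ρ c) • s v := by
        intro c v
        show (gm A *ᵥ fun i => ρ ((c • v) i)) = (ρ c) • (gm A *ᵥ fun i => ρ (v i))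
        rw [← Matrix.mulVec_smul]
        congr 1
        funext i
        rw [Pi.smul_apply, Pi.smul_apply, smul_eq_mul, smul_eq_mul, map_mul]
      have h2 : s (s (s w)) = d • s w := hss (s w)
      have h3 : s (s (s w)) = ρ d • s w := by rw [hss w, hsm]
      have h4 : s w ≠ 0 := by
        intro h
        have h5 := hss w
        rw [h] at h5
        have h6 : s 0 = 0 := by
          have := hsm 0 0
          rw [map_zero, zero_smul, zero_smul] at this
          exact this
        rw [h6] at h5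
        exact (smul_ne_zero hd0 hw) h5.symm
      obtain ⟨i, hi⟩ := Function.ne_iff.1 h4
      have h5 := congrFun (h2.symm.trans h3) i
      rw [Pi.smul_apply, Pi.smul_apply, smul_eq_mul, smul_eq_mul] at h5
      exact (mul_right_cancel₀ hi h5).symm
    rw [eq_frob hF hρ] at h1
    rcases eq_of_sq hF h1 with h2 | h2
    · exact absurd h2 hd0
    · subst h2
      exact exists_fixed_semi hF hn hρ fun v => by rw [hv v, one_smul]

/-- **No radical automorphisms of order two.** -/
theorem noRC (hm : Even m) (hm4 : 4 ≤ m) : NoRC 2 (PSU (m + 1) F 2) := by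
  have hsim : IsSimpleGroup (PSU m F 2) := Cfsg.Agent.S0283.result hF m (by omega) (by omega)
  have hfin : Finite (PSU (m + 1) F 2) := inferInstance
  intro x hx hR
  obtain ⟨A0, ρ, rfl⟩ := Cfsg.Agent.ClassicalGeometry.PSUAutMain.exists_toAut hF (by omega) (by omega) x
  have hsq : toAut A0 ρ * toAut A0 ρ = 1 := by
    have := pow_orderOf_eq_one (toAut A0 ρ)
    rwa [hx, pow_two] at this
  obtain ⟨A, hA, v, hv1, hv⟩ := exists_fixed hF hm.add_one (by omega) hsq
  rw [← hA] at hx hR hsq
  have he0 : hermForm (m + 1) F 2 (Pi.single 0 1) (Pi.single 0 1) = 1 := by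
    rw [herm_single_left, Pi.single_eq_same, one_pow, one_mul]
  obtain ⟨g, hg⟩ := exists_gu_map hF hv1 he0
  have hg' : gm g *ᵥ v = Pi.single 0 1 := hg
  have hy : H459.Rad.tr (f₁ g : MulAut (PSU (m + 1) F 2)) (toAut A ρ) = toAut (g * A * mapGU ρ g⁻¹) ρ := by
    rw [← toAut_conj]
    rfl
  have hR' := hR.tr (f₁ g : MulAut (PSU (m + 1) F 2))
  rw [hy] at hR'
  have ho := orderOf_tr (f₁ g : MulAut (PSU (m + 1) F 2)) (toAut A ρ)
  rw [hy, hx] at ho
  have hfix : gm (g * A * mapGU ρ g⁻¹) *ᵥ (Pi.single 0 1) = Pi.single 0 1 := by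
    have h1 : (Pi.single 0 1 : Fin (m + 1) → F) = fun i => ρ ((Pi.single 0 1 : Fin (m + 1) → F) i) := by
      funext i
      by_cases hi : i = 0
      · subst hi
        rw [Pi.single_eq_same, map_one]
      · rw [Pi.single_eq_of_ne hi, map_zero]
    conv_lhs => rw [h1]
    rw [gm_mul, gm_mul, ← Matrix.mulVec_mulVec, gm_mapGU, ← hg', gm_inv_mulVec, ← Matrix.mulVec_mulVec, hv]
  obtain ⟨hρ, c, hc⟩ := scalar_of_rc hF hm4 hfix hR'
  subst hρ
  set B := g * A * mapGU 1 g⁻¹ with hB
  have hsq' : toAut B 1 * toAut B 1 = 1 := by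
    have := pow_orderOf_eq_one (toAut B 1)
    rwa [ho, pow_two] at this
  obtain ⟨-, d, -, hd⟩ := exists_sq hF (by omega) hsq'
  have hd' : ∀ v : Fin (m + 1) → F, gm B *ᵥ (gm B *ᵥ v) = d • v := hd
  have h1 : d = 1 := by
    have h2 := congrFun (hd' (Pi.single 0 1)) 0
    rw [hfix, hfix, Pi.smul_apply, Pi.single_eq_same, smul_eq_mul, mul_one] at h2
    exact h2.symm
  have h2 : c * c = 1 := by
    have h3 := congrFun (hd' (Fin.cons 0 (fun _ => 1))) (Fin.succ ⟨0, by omega⟩)
    rw [hc, ext1_mulVec_succ, Matrix.smul_mulVec, Matrix.one_mulVec, Pi.smul_apply, ext1_mulVec_succ, Matrix.smul_mulVec,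
      Matrix.one_mulVec, Pi.smul_apply, Pi.smul_apply, Fin.cons_succ, h1, smul_eq_mul, smul_eq_mul, smul_eq_mul, mul_one,
      mul_one] at h3
    exact h3
  have h3 : c = 1 := by
    have h4 := add_self hF (c - 1)
    have h5 : (c - 1) * (c - 1) = 0 := by
      have := add_self hF (c - 1)
      linear_combination h2 - this
    rcases mul_eq_zero.1 h5 with h | h <;> exact sub_eq_zero.1 h
  have h4 : gm B = gm (1 : Cfsg.GU (m + 1) F 2) := by
    rw [hc, h3, one_smul, gm_one]
    ext i j
    refine Fin.cases ?_ (fun i => ?_) i <;> refine Fin.cases ?_ (fun j => ?_) j <;>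
      simp [ext1, Matrix.one_apply, Fin.succ_ne_zero, (Fin.succ_ne_zero _).symm]
  have h5 : B = 1 := by
    apply Subtype.ext
    apply Units.ext
    exact h4
  rw [h5] at ho
  have h6 : (toAut (1 : Cfsg.GU (m + 1) F 2) 1 : MulAut (PSU (m + 1) F 2)) = 1 := by
    rw [toAut_eq, map_one, map_one, mul_one]
  rw [h6, orderOf_one] at ho
  omega

end two

/-- **`PSU_5(2)`** -/
theorem row2_psu52 {K : Type*} [Group K] [Finite K] [IsSimpleGroup K] {F : Type} [Field F] [Fintype F]
    (hF : Fintype.card F = 4) (e : Nonempty (K ≃* Cfsg.PSU 5 F 2)) : Cfsg.Agent.H483.Rad23.Row23 2 K := by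
  obtain ⟨e⟩ := e
  have hF' : Fintype.card F = 2 ^ 2 := hF
  have hfin : Finite (PSU 5 F 2) := Finite.of_equiv _ e.toEquiv
  exact ((noRC hF' (m := 4) (by decide) (by norm_num)).congr e).row

end Cfsg.Agent.H519.RowU5
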