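import Mathlib
import Cfsg.Agent.H5.Piv.Base
import Cfsg.Agent.H208.QuadPSU

/-!
# The pivot lemma of S2888 for `PSU_4(3)` (task 1474 of helper5)
-/

set_option autoImplicit false

namespace Cfsg.Agent.H519.PivPsu

open Cfsg Cfsg.Agent.LieClassical.HermBasic Cfsg.Agent.LieClassical.HermSiegel
  Cfsg.Agent.LieClassical.HermGen Cfsg.Agent.LieClassical.SUBasic
  Cfsg.Agent.ClassicalGeometry.PSUAutBasic Cfsg.Agent.ClassicalGeometry.PSUAutSylow
open Cfsg.Agent.H5.Piv

variable {F : Type*} [Field F] [Fintype F] {n : ℕ}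

/-- the parameters -/
abbrev V : Type := ZMod 3 × ZMod 3 × ZMod 3 × ZMod 3

section

variable (hF : Fintype.card F = 3 ^ 2) {ι : ZMod 3 →+* F} {e e2 : Fin n → F}

omit [Fintype F] in
theorem iota_cube (ι : ZMod 3 →+* F) (x : ZMod 3) : ι x ^ 3 = ι x := by
  rw [← map_pow, ZMod.pow_card]

omit [Fintype F] in
theorem skew (ι : ZMod 3 →+* F) {μ : F} (hμ : μ + μ ^ 3 = 0) (x : ZMod 3) : μ * ι x + (μ * ι x) ^ 3 = 0 := by
  rw [mul_pow, iota_cube, ← add_mul, hμ, zero_mul]

omit [Fintype F] in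
theorem sieg (he : hermForm n F 3 e e = 0) (he2 : hermForm n F 3 e2 e2 = 0) (hee : hermForm n F 3 e2 e = 0) {a : F}
    (ha : a + a ^ 3 = 0) (w : F) : IsSiegel 3 e ((-w ^ 3) • e2) a :=
  ⟨he, by rw [herm_smul_left, hee, mul_zero], by
    rw [herm_smul_left, herm_smul_right, he2, mul_zero, mul_zero, add_zero, ha]⟩

/-- the elements of the unipotent radical of the stabiliser of `⟨e, e2⟩` -/
def gg (he : hermForm n F 3 e e = 0) (he2 : hermForm n F 3 e2 e2 = 0) (hee : hermForm n F 3 e2 e = 0) {a c : F}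
    (ha : a + a ^ 3 = 0) (hc : c + c ^ 3 = 0) (w : F) : SU n F 3 :=
  siegel hF e ((-w ^ 3) • e2) a (sieg he he2 hee ha w) * transv hF e2 he2 c hc

theorem act_gg (he : hermForm n F 3 e e = 0) (he2 : hermForm n F 3 e2 e2 = 0) (hee : hermForm n F 3 e2 e = 0) {a c : F}
    (ha : a + a ^ 3 = 0) (hc : c + c ^ 3 = 0) (w : F) (x : Fin n → F) :
    act (gg hF he he2 hee ha hc w) x = x + (a * hermForm n F 3 x e + w * hermForm n F 3 x e2) • e +
      (c * hermForm n F 3 x e2 - w ^ 3 * hermForm n F 3 x e) • e2 := by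
  have hw : (-w ^ 3) ^ 3 = -w := by
    rw [neg_pow_q hF, pow_q_pow_q hF]
  rw [gg, act_mul, act_transv, act_siegel]
  simp only [herm_add_left, herm_smul_left, herm_smul_right, hee, he2, mul_zero, add_zero, hw]
  funext i
  simp only [Pi.add_apply, Pi.smul_apply, smul_eq_mul]
  ring

/-- the elements, as a homomorphism -/
def GG (ι : ZMod 3 →+* F) {μ : F} (hμ : μ + μ ^ 3 = 0) (I : F) (he : hermForm n F 3 e e = 0)
    (he2 : hermForm n F 3 e2 e2 = 0) (hee : hermForm n F 3 e2 e = 0) : Multiplicative V →* SU n F 3 :=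
  MonoidHom.mk' (fun v => gg hF he he2 hee (skew ι hμ (Multiplicative.toAdd v).1)
    (skew ι hμ (Multiplicative.toAdd v).2.1)
    (μ * (ι (Multiplicative.toAdd v).2.2.1 + I * ι (Multiplicative.toAdd v).2.2.2))) (by
    intro v w
    have hee' : hermForm n F 3 e e2 = 0 := herm_eq_zero_swap hF hee
    apply ext_act
    intro x
    rw [act_mul, act_gg, act_gg, act_gg]
    simp only [herm_add_left, herm_smul_left, hee, he2, he, hee', mul_zero, add_zero, toAdd_mul, Prod.fst_add,
      Prod.snd_add, map_add]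
    have h1 : (μ * (ι (Multiplicative.toAdd v).2.2.1 + ι (Multiplicative.toAdd w).2.2.1 +
        I * (ι (Multiplicative.toAdd v).2.2.2 + ι (Multiplicative.toAdd w).2.2.2))) ^ 3 =
        (μ * (ι (Multiplicative.toAdd v).2.2.1 + I * ι (Multiplicative.toAdd v).2.2.2)) ^ 3 +
        (μ * (ι (Multiplicative.toAdd w).2.2.1 + I * ι (Multiplicative.toAdd w).2.2.2)) ^ 3 := by
      rw [← add_pow_q hF]
      congr 1
      ring
    rw [h1]
    funext i
    simp only [Pi.add_apply, Pi.smul_apply, smul_eq_mul]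
    ring)

theorem act_GG (ι : ZMod 3 →+* F) {μ : F} (hμ : μ + μ ^ 3 = 0) (I : F) (he : hermForm n F 3 e e = 0)
    (he2 : hermForm n F 3 e2 e2 = 0) (hee : hermForm n F 3 e2 e = 0) (v : V) (x : Fin n → F) :
    act (GG hF ι hμ I he he2 hee (Multiplicative.ofAdd v)) x = x +
      (μ * ι v.1 * hermForm n F 3 x e + μ * (ι v.2.2.1 + I * ι v.2.2.2) * hermForm n F 3 x e2) • e +
      (μ * ι v.2.1 * hermForm n F 3 x e2 - (μ * (ι v.2.2.1 + I * ι v.2.2.2)) ^ 3 * hermForm n F 3 x e) • e2 :=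
  act_gg hF he he2 hee (skew ι hμ v.1) (skew ι hμ v.2.1) _ x

end

/-- the finite check -/
theorem check : ∀ A C α β : ZMod 3, A = 0 ∨ ∃ x y : ZMod 3, (x * x + y * y) * A + C + x * α + y * β = 0 := by
  decide

/-- a homomorphism of `V` onto `ZMod 3` -/
theorem exists_zero (f : V →+ ZMod 3) : f (1, 0, 0, 0) = 0 ∨ ∃ x y : ZMod 3, f (x * x + y * y, 1, x, y) = 0 := by
  have hlin : ∀ a c x y : ZMod 3, f (a, c, x, y) = a * f (1, 0, 0, 0) + c * f (0, 1, 0, 0) + x * f (0, 0, 1, 0) +
      y * f (0, 0, 0, 1) := by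
    intro a c x y
    let g := AddMonoidHom.toZModLinearMap 3 f
    have h1 : ∀ v, g v = f v := fun v => rfl
    have h2 : ((a, c, x, y) : V) = a • ((1, 0, 0, 0) : V) + c • ((0, 1, 0, 0) : V) + x • ((0, 0, 1, 0) : V) +
        y • ((0, 0, 0, 1) : V) := by
      ext <;> simp
    rw [← h1, h2, map_add, map_add, map_add, map_smul, map_smul, map_smul, map_smul]
    rfl
  rcases check (f (1, 0, 0, 0)) (f (0, 1, 0, 0)) (f (0, 0, 1, 0)) (f (0, 0, 0, 1)) with h | ⟨x, y, h⟩
  · exact Or.inl h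
  · refine Or.inr ⟨x, y, ?_⟩
    rw [hlin, one_mul]
    exact h

theorem exists_sqrt (hF : Fintype.card F = 3 ^ 2) : ∃ I : F, I * I = -1 := by
  have h1 : IsSquare (-1 : F) := by
    rw [FiniteField.isSquare_neg_one_iff, hF]
    norm_num
  obtain ⟨I, hI⟩ := h1
  exact ⟨I, hI.symm⟩

/-- the pivot for the image of a transvection -/
theorem piv_transv (hF : Fintype.card F = 3 ^ 2) (hn : 4 ≤ n) {u : Fin n → F} (hu0 : u ≠ 0)
    (hu : hermForm n F 3 u u = 0) {μ : F} (hμ : μ + μ ^ 3 = 0) (hμ0 : pr n F 3 (transv hF u hu μ hμ) ≠ 1) :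
    Piv 3 (pr n F 3 (transv hF u hu μ hμ)) := by
  obtain ⟨e, f, H⟩ := exists_frame (F := F) (q := 3) (n := n) hF (by omega)
  have hij : (⟨0, by omega⟩ : Fin n) ≠ ⟨1, by omega⟩ := by
    intro h
    have := congrArg Fin.val h
    simp at this
  obtain ⟨a, b, s, t, -, ha, hb, haa, hbb, hab⟩ := exists_hyp_pair (q := 3) hF hij
  have m0 : (Pi.single (⟨0, by omega⟩ : Fin n) (1 : F) : Fin n → F) ∈ coordSub F n (n - 2) :=
    single_mem_coordSub (by simp; omega) 1
  have m1 : (Pi.single (⟨1, by omega⟩ : Fin n) (1 : F) : Fin n → F) ∈ coordSub F n (n - 2) :=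
    single_mem_coordSub (by simp; omega) 1
  have haV : a ∈ coordSub F n (n - 2) := by
    rw [ha]; exact Submodule.add_mem _ m0 (Submodule.smul_mem _ _ m1)
  have hbV : b ∈ coordSub F n (n - 2) := by
    rw [hb]; exact Submodule.add_mem _ m0 (Submodule.smul_mem _ _ haV)
  have hae := ((H.mem a).1 haV).1
  have hbe := ((H.mem b).1 hbV).1
  have he0 : e ≠ 0 := by
    intro h; have := H.ef; rw [h, herm_zero_left] at this; exact zero_ne_one this
  have hee := H.ee
  have hea : hermForm n F 3 e a = 0 := herm_eq_zero_swap hF hae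
  have heb : hermForm n F 3 e b = 0 := herm_eq_zero_swap hF hbe
  -- conjugate `u` to `e`
  obtain ⟨g, -, hg⟩ := exists_map_iso hF (n := n) (k := n) (by omega) le_rfl (mem_coordSub_top u) (mem_coordSub_top e)
    hu0 he0 hu H.ee
  have hconj : ∀ (g : SU n F 3) (u v : Fin n → F) (hu : hermForm n F 3 u u = 0) (hv : hermForm n F 3 v v = 0),
      act g u = v → g * transv hF u hu μ hμ * g⁻¹ = transv hF v hv μ hμ := by
    intro g u v hu hv hg
    rw [transv, transv, conj_siegel]
    exact siegel_congr hF _ _ hg (act_zero g) rfl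
  apply piv_conj (pr n F 3 g)
  rw [← map_inv, ← map_mul, ← map_mul, hconj g u e hu H.ee hg]
  have hz1 : pr n F 3 (transv hF e H.ee μ hμ) ≠ 1 := by
    intro h
    apply hμ0
    rw [← hconj g u e hu H.ee hg, map_mul, map_mul, map_inv] at h
    calc pr n F 3 (transv hF u hu μ hμ) = (pr n F 3 g)⁻¹ * (pr n F 3 g * pr n F 3 (transv hF u hu μ hμ) *
        (pr n F 3 g)⁻¹) * pr n F 3 g := by group
      _ = 1 := by rw [h]; group
  -- the group `E`
  have hchar : CharP F 3 := by
    obtain ⟨p, hp⟩ := CharP.exists F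
    obtain ⟨k, hprime, hcard⟩ := FiniteField.card F p
    have h1 : p ∣ 3 ^ 2 := by
      rw [← hF, hcard]
      exact dvd_pow_self p k.ne_zero
    have h2 : p = 3 := (Nat.prime_dvd_prime_iff_eq hprime Nat.prime_three).1 (hprime.dvd_of_dvd_pow h1)
    rwa [h2] at hp
  let ι : ZMod 3 →+* F := ZMod.castHom (dvd_refl 3) F
  obtain ⟨I, hI⟩ := exists_sqrt hF
  let φ : Multiplicative V →* PSU n F 3 := (pr n F 3).comp (GG hF ι hμ I hee haa hae)
  have hφz : φ (Multiplicative.ofAdd ((1, 0, 0, 0) : V)) = pr n F 3 (transv hF e H.ee μ hμ) := by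
    show pr n F 3 (GG hF ι hμ I hee haa hae (Multiplicative.ofAdd ((1, 0, 0, 0) : V))) = _
    congr 1
    apply ext_act
    intro x
    rw [act_GG, act_transv]
    simp
  refine ⟨φ.range, ⟨⟨⟨?_⟩⟩, ?_⟩, ?_, ?_⟩
  · rintro ⟨_, v, rfl⟩ ⟨_, w, rfl⟩
    apply Subtype.ext
    show φ v * φ w = φ w * φ v
    rw [← map_mul, mul_comm, map_mul]
  · rintro _ ⟨v, rfl⟩
    rw [← map_pow]
    have : v ^ 3 = 1 := by
      show Multiplicative.ofAdd (3 • Multiplicative.toAdd v) = 1
      have h3 : ∀ w : V, (3 : ℕ) • w = 0 := by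
        intro w
        have h03 : (3 : ZMod 3) = 0 := rfl
        ext <;> simp [h03]
      rw [h3]
      rfl
    rw [this, map_one]
  · intro h
    apply hz1
    rw [← hφz]
    have h1 : φ (Multiplicative.ofAdd ((1, 0, 0, 0) : V)) ∈ φ.range := ⟨_, rfl⟩
    rw [h] at h1
    exact (Subgroup.mem_bot).1 h1
  · intro B hB hi
    have h1 : (B.comap φ).index = 3 := by rw [Subgroup.index_comap, hi]
    have hn3 : Nat.card (Multiplicative V ⧸ B.comap φ) = 3 := h1
    have : Fact (Nat.Prime 3) := ⟨Nat.prime_three⟩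
    have hc3 : Nat.card (Multiplicative (ZMod 3)) = 3 := by
      rw [Nat.card_eq_fintype_card]
      rfl
    let θ : (Multiplicative V ⧸ B.comap φ) ≃* Multiplicative (ZMod 3) := mulEquivOfPrimeCardEq hn3 hc3
    let χ : Multiplicative V →* Multiplicative (ZMod 3) := θ.toMonoidHom.comp (QuotientGroup.mk' _)
    have hχ : ∀ v, χ v = 1 → φ v ∈ B := by
      intro v hv
      have h2 : (QuotientGroup.mk' (B.comap φ)) v = 1 := by
        apply θ.injective
        rw [map_one]
        exact hv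
      exact Subgroup.mem_comap.1 ((QuotientGroup.eq_one_iff v).1 h2)
    let f' : V →+ ZMod 3 := AddMonoidHom.mk' (fun v => Multiplicative.toAdd (χ (Multiplicative.ofAdd v))) (fun v w => by
      rw [ofAdd_add, map_mul, toAdd_mul])
    have hf' : ∀ v, f' v = 0 → φ (Multiplicative.ofAdd v) ∈ B := by
      intro v hv
      apply hχ
      exact hv
    rcases exists_zero f' with h2 | ⟨x, y, h2⟩
    · refine ⟨_, hf' _ h2, 1, ?_⟩
      rw [hφz, one_mul, inv_one, mul_one]
      exact Subgroup.mem_zpowers _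
    · -- the transvection with centre `(x + I y) e + a`
      set w : F := ι x + I * ι y with hw
      have hIc : I ^ 3 = -I := by
        calc I ^ 3 = (I * I) * I := by ring
          _ = -I := by rw [hI]; ring
      have hw3 : w ^ 3 = ι x - I * ι y := by
        rw [hw, add_pow_q hF, mul_pow, iota_cube, iota_cube, hIc]
        ring
      have hN : w * w ^ 3 = ι (x * x + y * y) := by
        rw [hw3, hw, map_add, map_mul, map_mul]
        linear_combination (-(ι y * ι y)) * hI
      have hv : hermForm n F 3 (w • e + a) (w • e + a) = 0 := by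
        rw [herm_add_left, herm_add_right hF, herm_add_right hF, herm_smul_left, herm_smul_left, herm_smul_right,
          herm_smul_right, hee, hea, hae, haa]
        ring
      have hv0 : w • e + a ≠ 0 := by
        intro h
        have h3 : hermForm n F 3 (w • e + a) b = 1 := by
          rw [herm_add_left, herm_smul_left, heb, hab]
          ring
        rw [h, herm_zero_left] at h3
        exact zero_ne_one h3
      have hGe : GG hF ι hμ I hee haa hae (Multiplicative.ofAdd ((x * x + y * y, 1, x, y) : V)) =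
          transv hF (w • e + a) hv μ hμ := by
        apply ext_act
        intro z
        rw [act_GG, act_transv]
        have hm3 : μ ^ 3 = -μ := by linear_combination hμ
        have h3 : (μ * (ι x + I * ι y)) ^ 3 = -μ * w ^ 3 := by rw [mul_pow, hm3, ← hw]
        show z + (μ * ι (x * x + y * y) * hermForm n F 3 z e + μ * (ι x + I * ι y) * hermForm n F 3 z a) • e +
          (μ * ι 1 * hermForm n F 3 z a - (μ * (ι x + I * ι y)) ^ 3 * hermForm n F 3 z e) • a = _
        rw [h3, ← hN, ← hw, map_one, herm_add_right hF, herm_smul_right]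
        funext i
        simp only [Pi.add_apply, Pi.smul_apply, smul_eq_mul]
        ring
      obtain ⟨g', -, hg'⟩ := exists_map_iso hF (n := n) (k := n) (by omega) le_rfl (mem_coordSub_top (w • e + a))
        (mem_coordSub_top e) hv0 he0 hv H.ee
      refine ⟨_, hf' _ h2, pr n F 3 g', ?_⟩
      have h3 : pr n F 3 g' * φ (Multiplicative.ofAdd ((x * x + y * y, 1, x, y) : V)) * (pr n F 3 g')⁻¹ =
          pr n F 3 (transv hF e H.ee μ hμ) := by
        show pr n F 3 g' * pr n F 3 (GG hF ι hμ I hee haa hae _) * (pr n F 3 g')⁻¹ = _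
        rw [hGe, ← map_inv, ← map_mul, ← map_mul, hconj g' _ e hv H.ee hg']
      rw [h3]
      exact Subgroup.mem_zpowers _

/-- **The pivot lemma for `PSU_n(3)`, `n ≥ 4`.** -/
theorem piv_psu (hF : Fintype.card F = 3 ^ 2) (hn : 4 ≤ n) : LP 3 (PSU n F 3) := by
  have h3p : Fact (Nat.Prime 3) := ⟨Nat.prime_three⟩
  have hchar : CharP F 3 := by
    obtain ⟨p, hp⟩ := CharP.exists F
    obtain ⟨k, hprime, hcard⟩ := FiniteField.card F p
    have h1 : p ∣ 3 ^ 2 := by
      rw [← hF, hcard]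
      exact dvd_pow_self p k.ne_zero
    have h2 : p = 3 := (Nat.prime_dvd_prime_iff_eq hprime Nat.prime_three).1 (hprime.dvd_of_dvd_pow h1)
    rwa [h2] at hp
  intro P z hz hzp hc
  have hzP := H208.QuadBase.mem_sylow P hzp hc
  obtain ⟨S, hS⟩ := exists_sylow_lift 3 P
  obtain ⟨u, hu0, hu, hfix⟩ := exists_fixed 3 hF (by omega) S.isPGroup'
  have h1 := cent_sylow 3 hF (by omega) S hu0 hu hfix
  have h3 : z ∈ cent ((S : Subgroup (SU n F 3)).map (pr n F 3)) := by
    rw [hS]
    refine ⟨hzP, ?_⟩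
    exact Subgroup.mem_centralizer_iff.2 hc
  rw [h1] at h3
  obtain ⟨_, ⟨μ, hμ, rfl⟩, rfl⟩ := h3
  exact piv_transv hF hn hu0 hu hμ hz

theorem piv_psu4 {F : Type} [Field F] [Fintype F] (hF : Fintype.card F = 3 ^ 2) :
    Cfsg.Agent.H5.Piv.LP 3 (PSU 4 F 3) := piv_psu hF le_rfl

end Cfsg.Agent.H519.PivPsu
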