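import Cfsg.Agent.H672.Over
import Cfsg.Agent.Lib.MinNormalNonabelian
import Cfsg.Agent.H591.Cliff
import Cfsg.Agent.H686.CharKit

/-!
# S4898: the reduction to almost simple groups (task 1843 of helper638)

`five_multi_row` : `M` a non-abelian, non-simple minimal normal subgroup of `G`; the normalizer `N` of a simple factor `S` of
`M` acts on `S` as an almost simple group `A`; the irreducible characters of `A` not trivial on `S` induce irreducible
characters of `G`.
-/

set_option autoImplicit false
set_option linter.unusedSectionVars false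

namespace Cfsg.Agent.H519.FiveMulti

open Cfsg Subgroup Cfsg.Agent.Lib.MinNormalNonabelian Cfsg.Agent.Lib.MinNormal Cfsg.Agent.Characters.Core
open Cfsg.Agent.OddOrderCharacters.PF9.CliffGen (resTo resTo_apply constituent_ker exists_hom_of_ker)
open Cfsg.Agent.OddOrderCharacters.IndRes (conjFn_apply')
open Cfsg.Agent.OddOrderCharacters.NormalInduced

universe u

/-- a constituent which is non-trivial at `s` -/
theorem exists_constituent_ne {N : Type u} [Group N] [Fintype N] {ψ : N → ℂ} (hψ : IsCharacter N ψ) {s : N}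
    (hs : ψ s ≠ ψ 1) : ∃ θ : N → ℂ, IsIrrCharacter N θ ∧ classInner ψ θ ≠ 0 ∧ θ s ≠ θ 1 := by
  classical
  have := finite_irr (G := N)
  have := Fintype.ofFinite (IrrCharacter N)
  obtain ⟨c, hc, hc'⟩ := CharDeep.CliffordCorr.exists_nat_coeffs hψ
  by_contra hcon
  push Not at hcon
  apply hs
  rw [hc]
  simp only [Finset.sum_apply, Pi.smul_apply, smul_eq_mul]
  refine Finset.sum_congr rfl fun η _ => ?_
  by_cases h0 : c η = 0
  · rw [h0]
    simp
  · rw [hcon η η.2 (by rw [hc']; exact_mod_cast h0)]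

variable {G : Type u} [Group G]

/-- a member of `minSet M` other than `S` commutes with `S` -/
theorem commute_of_ne {M S T : Subgroup G} (hS : S ∈ minSet M) (hT : T ∈ minSet M) (hne : T ≠ S) {s t : G}
    (hs : s ∈ S) (ht : t ∈ T) : Commute s t := by
  obtain ⟨h1, h2, h3, h4⟩ := hS
  obtain ⟨k1, k2, k3, k4⟩ := hT
  have hn : M ≤ normalizer ((S ⊓ T : Subgroup G) : Set G) := le_normalizer_inf h3 k3
  have hd : Disjoint S T := by
    rcases h4 _ inf_le_left hn with h | h
    · exact disjoint_iff.2 h
    · have h5 : S ≤ T := inf_eq_left.1 h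
      rcases k4 _ h5 h3 with h6 | h6
      · exact absurd h6 h2
      · exact absurd h6.symm hne
  exact commute_of_disjoint (h1.trans k3) (k1.trans h3) hd hs ht

theorem mem_normalizer_of_map {S : Subgroup G} {g : G} (h : S.map (MulAut.conj g).toMonoidHom = S) :
    g ∈ normalizer (S : Set G) := by
  rw [mem_normalizer_iff]
  intro x
  constructor
  · intro hx
    rw [← h]
    exact ⟨x, hx, rfl⟩
  · intro hx
    rw [← h] at hx
    obtain ⟨s, hs, hsx⟩ := hx
    have h1 : g * s * g⁻¹ = g * x * g⁻¹ := hsx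
    have h2 : s = x := by simpa using h1
    rwa [← h2]

variable [Finite G]

/-- **Irreducibility of the induced characters.** -/
theorem irr_ind {M : Subgroup G} [M.Normal] {S : Subgroup G} (hS : S ∈ minSet M)
    {ψ : normalizer (S : Set G) → ℂ} [Fintype G] (hψ : IsIrrCharacter (normalizer (S : Set G)) ψ)
    (hC : ∀ c : normalizer (S : Set G), (c : G) ∈ centralizer (S : Set G) → ψ c = ψ 1)
    (hK : ∃ s : normalizer (S : Set G), (s : G) ∈ S ∧ ψ s ≠ ψ 1) :
    IsIrrCharacter G (indFun (normalizer (S : Set G)) ψ) := by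
  classical
  have hMN : M ≤ normalizer (S : Set G) := hS.2.2.1
  have : Fintype M := Fintype.ofFinite _
  have : Fintype (normalizer (S : Set G)) := Fintype.ofFinite _
  obtain ⟨s, hs, hψs⟩ := hK
  have hsM : (s : G) ∈ M := hS.1 hs
  have hres : IsCharacter M (resTo hMN ψ) :=
    isCharacter_comp (Subgroup.inclusion hMN) (isIrr_isCharacter hψ)
  obtain ⟨θ, hθ, h0, hθs⟩ := exists_constituent_ne hres (s := ⟨s, hsM⟩) (by
    rw [resTo_apply, resTo_apply]
    exact hψs)
  refine H591.Cliff.irr_ind hθ ?_ hMN hψ h0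
  intro g hg
  by_contra hgN
  apply hθs
  have hT : S.map (MulAut.conj g).toMonoidHom ∈ minSet M := map_conj_mem_minSet hS g
  have hne : S.map (MulAut.conj g).toMonoidHom ≠ S := fun h => hgN (mem_normalizer_of_map h)
  have hgs : g * s * g⁻¹ ∈ centralizer (S : Set G) := by
    rw [mem_centralizer_iff]
    intro x hx
    exact commute_of_ne hS hT hne hx ⟨s, hs, rfl⟩
  have h1 := congrFun hg ⟨s, hsM⟩
  rw [conjFn_apply'] at h1
  rw [← h1]
  refine constituent_ker hres hθ h0 ?_
  rw [resTo_apply, resTo_apply]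
  exact hC _ hgs

/-! ### The almost simple group -/

instance centralizer_normal (S : Subgroup G) :
    ((centralizer (S : Set G)).subgroupOf (normalizer (S : Set G))).Normal := by
  constructor
  intro c hc n
  rw [mem_subgroupOf, mem_centralizer_iff] at hc ⊢
  intro x hx
  have h1 : (n : G)⁻¹ * x * n ∈ S := by
    have := (mem_normalizer_iff.1 (inv_mem n.2) x).1 hx
    rwa [inv_inv] at this
  have h2 := hc _ h1
  show x * ((n : G) * c * (n : G)⁻¹) = ((n : G) * c * (n : G)⁻¹) * x
  calc x * ((n : G) * c * (n : G)⁻¹) = n * (((n : G)⁻¹ * x * n) * c) * (n : G)⁻¹ := by group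
    _ = n * (c * ((n : G)⁻¹ * x * n)) * (n : G)⁻¹ := by rw [h2]
    _ = ((n : G) * c * (n : G)⁻¹) * x := by group

/-- the almost simple group -/
abbrev AA (S : Subgroup G) : Type u :=
  ↥(normalizer (S : Set G)) ⧸ (centralizer (S : Set G)).subgroupOf (normalizer (S : Set G))

/-- the embedding of `S` -/
def emS (S : Subgroup G) : S →* AA S :=
  (QuotientGroup.mk' _).comp (Subgroup.inclusion le_normalizer)

theorem emS_apply (S : Subgroup G) (s : S) : emS S s = QuotientGroup.mk' _ ⟨(s : G), le_normalizer s.2⟩ := rfl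

theorem emS_normal (S : Subgroup G) : (emS S).range.Normal := by
  constructor
  rintro _ ⟨s, rfl⟩ a
  obtain ⟨n, rfl⟩ := QuotientGroup.mk'_surjective _ a
  refine ⟨⟨(n : G) * s * (n : G)⁻¹, (mem_normalizer_iff.1 n.2 _).1 s.2⟩, ?_⟩
  rw [emS_apply, emS_apply, ← map_inv, ← map_mul, ← map_mul]
  rfl

theorem emS_injective {S : Subgroup G} (hc : ∀ z ∈ S, (∀ t ∈ S, Commute z t) → z = 1) :
    Function.Injective (emS S) := by
  rw [injective_iff_map_eq_one]
  intro s hs
  rw [emS_apply, QuotientGroup.mk'_apply, QuotientGroup.eq_one_iff, mem_subgroupOf, mem_centralizer_iff] at hs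
  apply Subtype.ext
  exact hc s s.2 fun t ht => (hs t ht).symm

theorem emS_centralizer {S : Subgroup G} (hc : ∀ z ∈ S, (∀ t ∈ S, Commute z t) → z = 1) :
    centralizer ((emS S).range : Set (AA S)) = ⊥ := by
  rw [eq_bot_iff]
  intro a ha
  obtain ⟨n, rfl⟩ := QuotientGroup.mk'_surjective _ a
  rw [mem_bot, QuotientGroup.mk'_apply, QuotientGroup.eq_one_iff, mem_subgroupOf, mem_centralizer_iff]
  intro s hs
  rw [mem_centralizer_iff] at ha
  have h1 := ha (emS S ⟨s, hs⟩) ⟨_, rfl⟩
  have h2 : emS S ⟨(n : G) * s * (n : G)⁻¹, (mem_normalizer_iff.1 n.2 _).1 hs⟩ = emS S ⟨s, hs⟩ := by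
    have h3 : emS S ⟨(n : G) * s * (n : G)⁻¹, (mem_normalizer_iff.1 n.2 _).1 hs⟩ =
        QuotientGroup.mk' _ n * emS S ⟨s, hs⟩ * (QuotientGroup.mk' _ n)⁻¹ := by
      rw [emS_apply, emS_apply, ← map_inv, ← map_mul, ← map_mul]
      rfl
    rw [h3, ← h1]
    group
  have h3 := congrArg Subtype.val (emS_injective hc h2)
  have h4 : (n : G) * s * (n : G)⁻¹ = s := h3
  show s * (n : G) = n * s
  nth_rewrite 1 [← h4]
  group

/-- **The reduction.** -/
theorem five_multi_row (M : Subgroup G) [M.Normal]
    (hmin : ∀ K : Subgroup G, K.Normal → K ≤ M → K = ⊥ ∨ K = M) (hna : ¬ ∀ x ∈ M, ∀ y ∈ M, Commute x y)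
    (S : Subgroup G) (hS : S ∈ minSet M) (hne : S ≠ M)
    (hrow : ∀ (A : Type u) [Group A] [Finite A] (K : Subgroup A), K.Normal → Subgroup.centralizer (K : Set A) = ⊥ →
      Nonempty (K ≃* S) → 5 ≤ (charDegrees A).ncard ∧ ∀ a b : A, a * b * a⁻¹ * b⁻¹ ∈ K) :
    5 ≤ (charDegrees G).ncard := by
  classical
  have : Fintype G := Fintype.ofFinite _
  have hcS := (nonabelian_structure M hmin hna).2.2.2.2.1 S hS
  obtain ⟨h5, hab⟩ := hrow (AA S) (emS S).range (emS_normal S) (emS_centralizer hcS)
    ⟨(MonoidHom.ofInjective (emS_injective hcS)).symm⟩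
  -- the index
  have hidx : 2 ≤ (normalizer (S : Set G)).index := by
    have h0 : (normalizer (S : Set G)).index ≠ 0 := index_ne_zero_of_finite
    have h1 : (normalizer (S : Set G)).index ≠ 1 := by
      intro h1
      have h2 := index_eq_one.1 h1
      have hn : S.Normal := normalizer_eq_top_iff.1 h2
      rcases hmin S hn hS.1 with h | h
      · exact hS.2.1 h
      · exact hne h
    omega
  have hfin : Finite (IrrCharacter G) := finite_irr
  have hfinD : (charDegrees G).Finite := by
    have : charDegrees G = Set.range fun χ : IrrCharacter G => charDegree (χ : G → ℂ) := rfl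
    rw [this]
    exact Set.finite_range _
  -- the map
  have hmap : ∀ d ∈ charDegrees (AA S), d ≠ 1 → (normalizer (S : Set G)).index * d ∈ charDegrees G := by
    rintro _ ⟨χ, rfl⟩ hd
    have hψ : IsIrrCharacter (normalizer (S : Set G)) ((χ : AA S → ℂ) ∘ QuotientGroup.mk' _) :=
      isIrr_comp _ (QuotientGroup.mk'_surjective _) χ.2
    have hi := irr_ind hS hψ (by
      intro c hc
      have h1 : QuotientGroup.mk' ((centralizer (S : Set G)).subgroupOf (normalizer (S : Set G))) c = 1 :=
        (QuotientGroup.eq_one_iff c).2 hc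
      show (χ : AA S → ℂ) (QuotientGroup.mk' _ c) = (χ : AA S → ℂ) (QuotientGroup.mk' _ 1)
      rw [h1, map_one]) (by
      by_contra hcon
      push Not at hcon
      apply hd
      obtain ⟨f, hf⟩ := exists_hom_of_ker χ.2 (by
        intro y hy
        have h1 : commutator (AA S) ≤ (emS S).range := by
          rw [commutator_eq_closure, closure_le]
          rintro _ ⟨a, b, rfl⟩
          exact hab a b
        obtain ⟨s, rfl⟩ := h1 hy
        have h2 := hcon ⟨(s : G), le_normalizer s.2⟩ s.2
        exact h2)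
      refine H672.charDegree_of_eq ?_
      rw [hf]
      simp)
    refine ⟨⟨_, hi⟩, H672.charDegree_of_eq ?_⟩
    show indFun (normalizer (S : Set G)) _ 1 = _
    rw [CharactersDeep.NormalInd.indFun_one, Nat.cast_mul, H672.coe_charDegree χ.2]
    rfl
  have hone : ∀ d ∈ charDegrees (AA S), 0 < d := by
    rintro _ ⟨χ, rfl⟩
    exact H672.charDegree_pos χ.2
  have h1G : 1 ∈ charDegrees G := by
    have h1 : IsIrrCharacter G (fun _ : G => (1 : ℂ)) := isIrr_one
    exact ⟨⟨_, h1⟩, H672.charDegree_of_eq (by simp)⟩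
  refine h5.trans (Set.ncard_le_ncard_of_injOn (fun d => if d = 1 then 1 else (normalizer (S : Set G)).index * d)
    ?_ ?_ hfinD)
  · intro d hd
    show (if d = 1 then 1 else _) ∈ charDegrees G
    split_ifs with h
    · exact h1G
    · exact hmap d hd h
  · intro a ha b hb hfab
    have ha0 := hone a ha
    have hb0 := hone b hb
    simp only at hfab
    split_ifs at hfab with h1 h2 h2
    · rw [h1, h2]
    · exfalso
      have : 2 * 1 ≤ (normalizer (S : Set G)).index * b := Nat.mul_le_mul hidx hb0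
      omega
    · exfalso
      have : 2 * 1 ≤ (normalizer (S : Set G)).index * a := Nat.mul_le_mul hidx ha0
      omega
    · exact Nat.eq_of_mul_eq_mul_left (by omega) hfab

end Cfsg.Agent.H519.FiveMulti
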