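import Cfsg.Agent.Lib.Cores
import Cfsg.Agent.S0023
import Mathlib.GroupTheory.SchurZassenhaus
import Mathlib.GroupTheory.SemidirectProduct

/-!
# Coprime automorphisms all of whose commutators have odd order: reduction to simple groups

* `OddC α` : all the elements `g⁻¹ α(g)` have odd order;
* `Res G` : for every coprime automorphism `α` of `G` with `OddC α` the elements `g⁻¹ α(g)` lie in `O(G)`;
* `fix_two` : such an automorphism centralises all its invariant `2`-subgroups;
* `exists_inv_sylow` : a coprime automorphism leaves a Sylow `p`-subgroup invariant;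
* `reduce` : `Res` for all the groups, from the non-abelian simple groups.
-/

set_option autoImplicit false

namespace Cfsg.Agent.H519.CopRed

open Subgroup Cfsg Cfsg.Agent.Lib.Cores

universe u

/-- All the elements `g⁻¹ α(g)` have odd order. -/
def OddC {G : Type*} [Group G] (α : MulAut G) : Prop := ∀ g : G, Odd (orderOf (g⁻¹ * α g))

/-- The property of S4110. -/
def Res (G : Type*) [Group G] : Prop :=
  ∀ α : MulAut G, (orderOf α).Coprime (Nat.card G) → OddC α → ∀ g, g⁻¹ * α g ∈ pPrimeCore 2 G

section Restr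

variable {G : Type*} [Group G] (α : MulAut G)

/-- The restriction of an automorphism to an invariant subgroup. -/
noncomputable def restr (H : Subgroup G) (h : H.map α.toMonoidHom = H) : MulAut H :=
  (α.subgroupMap H).trans (MulEquiv.subgroupCongr h)

theorem coe_restr (H : Subgroup G) (h : H.map α.toMonoidHom = H) (x : H) :
    (restr α H h x : G) = α x := rfl

theorem coe_restr_pow (H : Subgroup G) (h : H.map α.toMonoidHom = H) (n : ℕ) (x : H) :
    (((restr α H h) ^ n) x : G) = (α ^ n) (x : G) := by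
  induction n generalizing x with
  | zero => rfl
  | succ n ih =>
    rw [pow_succ, pow_succ, MulAut.mul_apply, MulAut.mul_apply, ih, coe_restr]

theorem orderOf_restr_dvd (H : Subgroup G) (h : H.map α.toMonoidHom = H) :
    orderOf (restr α H h) ∣ orderOf α := by
  apply orderOf_dvd_of_pow_eq_one
  ext x
  rw [coe_restr_pow, pow_orderOf_eq_one]
  rfl

theorem map_eq_of_le [Finite G] {H : Subgroup G} (h : ∀ x ∈ H, α x ∈ H) : H.map α.toMonoidHom = H := by
  have hle : H.map α.toMonoidHom ≤ H := by
    rintro _ ⟨x, hx, rfl⟩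
    exact h x hx
  apply eq_of_le_of_card_ge hle
  exact le_of_eq (Nat.card_congr (H.equivMapOfInjective α.toMonoidHom α.injective).toEquiv)

theorem mem_of_map_eq {H : Subgroup G} (h : H.map α.toMonoidHom = H) {x : G} (hx : x ∈ H) : α x ∈ H := by
  rw [← h]
  exact ⟨x, hx, rfl⟩

variable {α}

theorem OddC.restr (ho : OddC α) (H : Subgroup G) (h : H.map α.toMonoidHom = H) : OddC (restr α H h) := by
  intro x
  have h1 : ((x⁻¹ * CopRed.restr α H h x : H) : G) = (x : G)⁻¹ * α x := rfl
  rw [← Subgroup.orderOf_coe, h1]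
  exact ho x

theorem coprime_restr [Finite G] (hc : (orderOf α).Coprime (Nat.card G)) (H : Subgroup G)
    (h : H.map α.toMonoidHom = H) : (orderOf (restr α H h)).Coprime (Nat.card H) :=
  (hc.coprime_dvd_left (orderOf_restr_dvd α H h)).coprime_dvd_right (card_subgroup_dvd_card H)

/-- the property of the subgroup `H` applied to the restriction -/
theorem Res.sub [Finite G] {H : Subgroup G} (hR : Res H) (hc : (orderOf α).Coprime (Nat.card G)) (ho : OddC α)
    (h : H.map α.toMonoidHom = H) {x : G} (hx : x ∈ H) : x⁻¹ * α x ∈ (pPrimeCore 2 H).map H.subtype :=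
  ⟨_, hR (restr α H h) (coprime_restr hc H h) (ho.restr H h) ⟨x, hx⟩, rfl⟩

end Restr

section Quot

variable {G : Type*} [Group G] (α : MulAut G)

/-- The automorphism of a quotient by an invariant normal subgroup. -/
noncomputable def quot (N : Subgroup G) [N.Normal] (h : N.map α.toMonoidHom = N) : MulAut (G ⧸ N) :=
  QuotientGroup.congr N N α h

theorem quot_mk (N : Subgroup G) [N.Normal] (h : N.map α.toMonoidHom = N) (x : G) :
    quot α N h (QuotientGroup.mk x) = QuotientGroup.mk (α x) := rfl

theorem quot_pow_mk (N : Subgroup G) [N.Normal] (h : N.map α.toMonoidHom = N) (n : ℕ) (x : G) :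
    ((quot α N h) ^ n) (QuotientGroup.mk x) = QuotientGroup.mk ((α ^ n) x) := by
  induction n generalizing x with
  | zero => rfl
  | succ n ih => rw [pow_succ, pow_succ, MulAut.mul_apply, MulAut.mul_apply, quot_mk, ih]

theorem orderOf_quot_dvd (N : Subgroup G) [N.Normal] (h : N.map α.toMonoidHom = N) :
    orderOf (quot α N h) ∣ orderOf α := by
  apply orderOf_dvd_of_pow_eq_one
  ext x
  obtain ⟨x, rfl⟩ := QuotientGroup.mk_surjective x
  rw [quot_pow_mk, pow_orderOf_eq_one]
  rfl

variable {α}

theorem OddC.quot (ho : OddC α) (N : Subgroup G) [N.Normal] (h : N.map α.toMonoidHom = N) :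
    OddC (quot α N h) := by
  intro x
  obtain ⟨x, rfl⟩ := QuotientGroup.mk_surjective x
  have h1 : (QuotientGroup.mk x)⁻¹ * CopRed.quot α N h (QuotientGroup.mk x) =
      QuotientGroup.mk' N (x⁻¹ * α x) := rfl
  rw [h1]
  exact Odd.of_dvd_nat (ho x) (orderOf_map_dvd _ _)

theorem coprime_quot [Finite G] (hc : (orderOf α).Coprime (Nat.card G)) (N : Subgroup G) [N.Normal]
    (h : N.map α.toMonoidHom = N) : (orderOf (quot α N h)).Coprime (Nat.card (G ⧸ N)) :=
  (hc.coprime_dvd_left (orderOf_quot_dvd α N h)).coprime_dvd_right (card_quotient_dvd_card N)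

theorem Res.quot [Finite G] {N : Subgroup G} [N.Normal] (hR : Res (G ⧸ N)) (hc : (orderOf α).Coprime (Nat.card G))
    (ho : OddC α) (h : N.map α.toMonoidHom = N) (x : G) :
    x⁻¹ * α x ∈ (pPrimeCore 2 (G ⧸ N)).comap (QuotientGroup.mk' N) :=
  hR (CopRed.quot α N h) (coprime_quot hc N h) (ho.quot N h) (QuotientGroup.mk x)

end Quot

section Basic

variable {G : Type*} [Group G] {α : MulAut G}

/-- a commutator `g⁻¹ α(g)` fixed by a coprime automorphism `α` is trivial -/
theorem eq_one_of_fixed [Finite G] (hc : (orderOf α).Coprime (Nat.card G)) {g : G}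
    (h : α (g⁻¹ * α g) = g⁻¹ * α g) : g⁻¹ * α g = 1 := by
  set c := g⁻¹ * α g with hcdef
  have h1 : ∀ n : ℕ, (α ^ n) g = g * c ^ n := by
    intro n
    induction n with
    | zero => simp
    | succ n ih =>
      rw [pow_succ', MulAut.mul_apply, ih, map_mul, map_pow, h, pow_succ', ← mul_assoc]
      congr 1
      rw [hcdef]; group
  have h2 : c ^ orderOf α = 1 := by
    have h3 := h1 (orderOf α)
    rw [pow_orderOf_eq_one] at h3
    exact (mul_eq_left (a := g)).1 h3.symm
  have h3 : orderOf c = 1 :=
    Nat.eq_one_of_dvd_coprimes hc (orderOf_dvd_of_pow_eq_one h2) (orderOf_dvd_natCard c)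
  exact orderOf_eq_one_iff.1 h3

/-- invariant `2`-subgroups are centralised -/
theorem fix_two (ho : OddC α) {H : Subgroup G} (h : ∀ x ∈ H, α x ∈ H) (h2 : IsPGroup 2 H) :
    ∀ x ∈ H, α x = x := by
  intro x hx
  have h1 : x⁻¹ * α x ∈ H := mul_mem (inv_mem hx) (h x hx)
  obtain ⟨k, hk⟩ := h2 ⟨_, h1⟩
  have hk' : (x⁻¹ * α x) ^ 2 ^ k = 1 := by simpa using congrArg Subtype.val hk
  have h3 : orderOf (x⁻¹ * α x) = 1 := by
    have h4 := orderOf_dvd_of_pow_eq_one hk'
    exact Nat.eq_one_of_dvd_coprimes ((Nat.coprime_two_right.2 (ho x)).pow_right k) dvd_rfl h4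
  exact (eq_inv_of_mul_eq_one_right (orderOf_eq_one_iff.1 h3)).trans (inv_inv x)

/-- A coprime automorphism leaves a Sylow subgroup invariant. -/
theorem exists_inv_sylow [Finite G] (hc : (orderOf α).Coprime (Nat.card G)) (p : ℕ) [Fact p.Prime] :
    ∃ P : Sylow p G, ∀ x ∈ P, α x ∈ P := by
  classical
  -- the semidirect product with the group generated by `α`
  have hA : Finite (Subgroup.zpowers α) := inferInstance
  have hΓ : Finite (G ⋊[(Subgroup.zpowers α).subtype] Subgroup.zpowers α) :=
    Finite.of_equiv _ SemidirectProduct.equivProd.symm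
  set iG : G →* (G ⋊[(Subgroup.zpowers α).subtype] Subgroup.zpowers α) := SemidirectProduct.inl with hiGd
  set iA : Subgroup.zpowers α →* (G ⋊[(Subgroup.zpowers α).subtype] Subgroup.zpowers α) :=
    SemidirectProduct.inr with hiAd
  have hiG : Function.Injective iG := SemidirectProduct.inl_injective
  have hiA : Function.Injective iA := SemidirectProduct.inr_injective
  have hconj : ∀ (a : Subgroup.zpowers α) (g : G), iA a * iG g * (iA a)⁻¹ = iG ((a : MulAut G) g) := by
    intro a g
    have h1 := (SemidirectProduct.inl_aut (φ := (Subgroup.zpowers α).subtype) a g).symm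
    rw [map_inv] at h1
    exact h1
  have hn : iA.range ≤ Subgroup.normalizer (iG.range : Set _) := by
    rintro _ ⟨a, rfl⟩
    rw [Subgroup.mem_normalizer_iff]
    intro x
    constructor
    · rintro ⟨g, rfl⟩
      exact ⟨_, (hconj a g).symm⟩
    · rintro ⟨g, hg⟩
      refine ⟨((a⁻¹ : Subgroup.zpowers α) : MulAut G) g, ?_⟩
      rw [← hconj a⁻¹ g, hg, map_inv]
      group
  have hcA : Nat.card iA.range = orderOf α := by
    rw [← Nat.card_zpowers, ← Nat.card_congr (MonoidHom.ofInjective hiA).toEquiv]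
  have hcG : Nat.card iG.range = Nat.card G := by
    rw [← Nat.card_congr (MonoidHom.ofInjective hiG).toEquiv]
  have hsolv : Group.IsSolvable iA.range := by
    have h1 : IsMulCommutative (Subgroup.zpowers α) := inferInstance
    have h2 : Group.IsSolvable (Subgroup.zpowers α) := Group.isSolvable_of_comm fun a b => h1.is_comm.comm a b
    exact Group.isSolvable_of_surjective iA.rangeRestrict_surjective
  obtain ⟨P, hP⟩ := S0023.result iA.range iG.range hn (by rw [hcA, hcG]; exact hc) (Or.inl hsolv) p
  let e : G ≃* iG.range := MonoidHom.ofInjective hiG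
  have he : ∀ g, ((e g : iG.range) : G ⋊[(Subgroup.zpowers α).subtype] Subgroup.zpowers α) = iG g := fun g => rfl
  refine ⟨P.comapOfInjective e.toMonoidHom e.injective fun y _ => ⟨e.symm y, e.apply_symm_apply y⟩, fun x hx => ?_⟩
  have hx' : e x ∈ P := hx
  have h1 : iG x ∈ (P : Subgroup iG.range).map iG.range.subtype := ⟨_, hx', rfl⟩
  have h2 := ((Subgroup.mem_normalizer_iff.1 (hP ⟨⟨α, Subgroup.mem_zpowers α⟩, rfl⟩)) (iG x)).1 h1
  rw [hconj] at h2
  obtain ⟨y, hy, hy2⟩ := h2
  have h3 : y = e (α x) := Subtype.ext hy2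
  rw [h3] at hy
  exact hy

end Basic

section Reduction

variable {G : Type*} [Group G] {α : MulAut G}

theorem eq_of_inv_mul_eq_one {g : G} (h : g⁻¹ * α g = 1) : α g = g :=
  (eq_inv_of_mul_eq_one_right h).trans (inv_inv g)

/-- `α` is trivial on the invariant normal subgroups for which the theorem holds, if `O(G) = 1` -/
theorem trivial_on [Finite G] (hO : pPrimeCore 2 G = ⊥) (hc : (orderOf α).Coprime (Nat.card G)) (ho : OddC α)
    {N : Subgroup G} (hN : N.Normal) (h : N.map α.toMonoidHom = N) (hR : Res N) : ∀ x ∈ N, α x = x := by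
  intro x hx
  have h1 := hR.sub hc ho h hx
  rw [map_subtype_pPrimeCore 2 hN, hO, inf_bot_eq, mem_bot] at h1
  exact eq_of_inv_mul_eq_one h1

theorem map_centralizer {N : Subgroup G} (h : ∀ x ∈ N, α x = x) {c : G}
    (hc : c ∈ centralizer (N : Set G)) : α c ∈ centralizer (N : Set G) := by
  rw [mem_centralizer_iff] at hc ⊢
  intro n hn
  have h1 := congrArg α (hc n hn)
  rw [map_mul, map_mul, h n hn] at h1
  exact h1

theorem mem_centralizer_of_trivial {N : Subgroup G} (hN : N.Normal) (h : ∀ x ∈ N, α x = x) (g : G) :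
    g⁻¹ * α g ∈ centralizer (N : Set G) := by
  rw [mem_centralizer_iff]
  intro n hn
  have h1 := h _ (hN.conj_mem n hn g)
  rw [map_mul, map_mul, map_inv, h n hn] at h1
  have h2 : n = g⁻¹ * (α g * n * (α g)⁻¹) * g := by rw [h1]; group
  calc n * (g⁻¹ * α g) = (g⁻¹ * (α g * n * (α g)⁻¹) * g) * (g⁻¹ * α g) := by rw [← h2]
    _ = g⁻¹ * α g * n := by group

/-- a normal subgroup whose order is odd -/
theorem eq_bot_of_odd (hO : pPrimeCore 2 G = ⊥) {N : Subgroup G} (hN : N.Normal) (h : (Nat.card N).Coprime 2) :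
    N = ⊥ := by
  rw [eq_bot_iff, ← hO]
  exact le_pPrimeCore hN h

/-- a central extension of a group of odd order, `O(G) = 1` -/
theorem eq_top_of_central [Finite G] (hO : pPrimeCore 2 G = ⊥) {N : Subgroup G} [hN : N.Normal]
    (hC : N ≤ center G) (hq : (Nat.card (G ⧸ N)).Coprime 2) : N = ⊤ := by
  have hpr : ∀ q : ℕ, q.Prime → q ∣ Nat.card N → q = 2 := by
    intro q hq hd
    by_contra hne
    have : Fact q.Prime := ⟨hq⟩
    obtain ⟨x, hx⟩ := exists_prime_orderOf_dvd_card' q hd
    have h1 : (Subgroup.zpowers (x : G)).Normal := by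
      constructor
      intro y hy g
      have h2 : y ∈ center G := (Subgroup.zpowers_le.2 (hC x.2)) hy
      have h3 : g * y * g⁻¹ = y := by rw [mem_center_iff.1 h2 g]; group
      rwa [h3]
    have h2 : (Subgroup.zpowers (x : G)) = ⊥ := by
      apply eq_bot_of_odd hO h1
      rw [Nat.card_zpowers, Subgroup.orderOf_coe, hx]
      exact (Nat.coprime_primes hq Nat.prime_two).2 hne
    have h3 : (x : G) = 1 := Subgroup.zpowers_eq_bot.1 h2
    have h4 : x = 1 := Subtype.ext h3
    rw [h4, orderOf_one] at hx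
    exact hq.one_lt.ne hx
  have hcop : (Nat.card N).Coprime N.index := by
    rw [Nat.coprime_iff_gcd_eq_one]
    by_contra h1
    obtain ⟨q, hq1, hq2⟩ := Nat.exists_prime_and_dvd h1
    have h2 := hpr q hq1 (hq2.trans (Nat.gcd_dvd_left _ _))
    subst h2
    have h3 : 2 ∣ N.index := hq2.trans (Nat.gcd_dvd_right _ _)
    rw [Subgroup.index_eq_card] at h3
    have h4 := Nat.dvd_gcd h3 (dvd_refl 2)
    rw [hq] at h4
    omega
  obtain ⟨H, hH⟩ := Subgroup.exists_right_complement'_of_coprime hcop
  have hHn : H.Normal := by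
    constructor
    intro y hy g
    obtain ⟨⟨n, h⟩, hnh⟩ := hH.2 g
    have h1 : (n : G) * h = g := hnh
    rw [← h1]
    have h2 : (n : G) * h * y * ((n : G) * h)⁻¹ = (n : G) * (h * y * (h : G)⁻¹) * (n : G)⁻¹ := by group
    have h3 : (h : G) * y * (h : G)⁻¹ ∈ H := mul_mem (mul_mem h.2 hy) (inv_mem h.2)
    have h4 : (n : G) * (h * y * (h : G)⁻¹) * (n : G)⁻¹ = h * y * (h : G)⁻¹ := by
      rw [← mem_center_iff.1 (hC n.2)]; group
    rw [h2, h4]
    exact h3
  have hHb : H = ⊥ := by
    apply eq_bot_of_odd hO hHn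
    have h1 := hH.card_mul
    rw [← Subgroup.card_mul_index N] at h1
    have h2 : Nat.card H = N.index := Nat.eq_of_mul_eq_mul_left Nat.card_pos h1
    rw [h2, Subgroup.index_eq_card]
    exact hq
  rw [hHb] at hH
  exact Subgroup.isComplement'_bot_right.1 hH

/-- the step with an invariant normal subgroup -/
theorem trivial_of_normal [Finite G] (hO : pPrimeCore 2 G = ⊥) (hc : (orderOf α).Coprime (Nat.card G))
    (ho : OddC α) (IHs : ∀ H : Subgroup G, H ≠ ⊤ → Res H)
    (IHq : ∀ N : Subgroup G, ∀ _ : N.Normal, N ≠ ⊥ → Res (G ⧸ N)) {N : Subgroup G} (hN : N.Normal)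
    (h : N.map α.toMonoidHom = N) (h1 : N ≠ ⊥) (h2 : N ≠ ⊤) (g : G) : g⁻¹ * α g = 1 := by
  have ht := trivial_on hO hc ho hN h (IHs N h2)
  have hmem := mem_centralizer_of_trivial hN ht g
  by_cases hC : centralizer (N : Set G) = ⊤
  · have hcen : N ≤ center G := by
      intro n hn
      rw [mem_center_iff]
      intro x
      have h3 : x ∈ centralizer (N : Set G) := hC ▸ mem_top x
      exact (mem_centralizer_iff.1 h3 n hn).symm
    set K := (pPrimeCore 2 (G ⧸ N)).comap (QuotientGroup.mk' N) with hK
    have hKn : K.Normal := (pPrimeCore_normal 2).comap _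
    have hmem2 : g⁻¹ * α g ∈ K := (IHq N hN h1).quot hc ho h g
    by_cases hKt : K = ⊤
    · exfalso
      apply h2
      apply eq_top_of_central hO hcen
      have h3 : pPrimeCore 2 (G ⧸ N) = ⊤ := by
        rw [← Subgroup.map_comap_eq_self_of_surjective (QuotientGroup.mk'_surjective N) (pPrimeCore 2 (G ⧸ N)),
          ← hK, hKt, ← MonoidHom.range_eq_map, MonoidHom.range_eq_top]
        exact QuotientGroup.mk'_surjective N
      exact (pPrimeCore_eq_top_iff 2).1 h3
    · have hKi : K.map α.toMonoidHom = K := by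
        apply map_eq_of_le
        intro x hx
        have h3 : (pPrimeCore 2 (G ⧸ N)).map (quot α N h).toMonoidHom = pPrimeCore 2 (G ⧸ N) :=
          map_equiv_pPrimeCore (quot α N h) 2
        change (QuotientGroup.mk (α x) : G ⧸ N) ∈ pPrimeCore 2 (G ⧸ N)
        rw [← quot_mk α N h, ← h3]
        exact ⟨_, hx, rfl⟩
      have h4 := trivial_on hO hc ho hKn hKi (IHs K hKt)
      exact eq_one_of_fixed hc (h4 _ hmem2)
  · have hCn : (centralizer (N : Set G)).Normal := inferInstance
    have hCi : (centralizer (N : Set G)).map α.toMonoidHom = centralizer (N : Set G) :=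
      map_eq_of_le α fun x hx => map_centralizer ht hx
    have h4 := trivial_on hO hc ho hCn hCi (IHs _ hC)
    exact eq_one_of_fixed hc (h4 _ hmem)

/-- A Sylow subgroup meets every normal subgroup of order divisible by `p`. -/
theorem sylow_inf_ne_bot [Finite G] {p : ℕ} [hp : Fact p.Prime] (P : Sylow p G) {M : Subgroup G} (hM : M.Normal)
    (hd : p ∣ Nat.card M) : ∃ x ∈ P, x ∈ M ∧ x ≠ 1 := by
  obtain ⟨x, hx⟩ := exists_prime_orderOf_dvd_card' p hd
  have h1 : IsPGroup p (Subgroup.zpowers (x : G)) := by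
    apply IsPGroup.of_card (n := 1)
    rw [Nat.card_zpowers, Subgroup.orderOf_coe, hx, pow_one]
  obtain ⟨Q, hQ⟩ := h1.exists_le_sylow
  obtain ⟨g, hg⟩ := MulAction.exists_smul_eq G Q P
  refine ⟨g * x * g⁻¹, ?_, hM.conj_mem _ x.2 g, ?_⟩
  · rw [← hg]
    exact Subgroup.smul_mem_pointwise_smul (x : G) (MulAut.conj g) (Q : Subgroup G)
      (hQ (Subgroup.mem_zpowers _))
  · intro h2
    have h3 : (x : G) = 1 := by
      have h4 : (x : G) = g⁻¹ * (g * x * g⁻¹) * g := by group
      rw [h4, h2]; group
    have h4 : x = 1 := Subtype.ext h3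
    rw [h4, orderOf_one] at hx
    exact hp.1.one_lt.ne hx

/-- **Reduction to the non-abelian simple groups.** -/
theorem reduce (hs : ∀ (K : Type u) [Group K] [Finite K] [IsSimpleGroup K], ¬ IsMulCommutative K →
      (∀ H : Subgroup K, H ≠ ⊤ → Res H) → Res K) :
    ∀ (G : Type u) [Group G] [Finite G], Res G := by
  have key : ∀ n : ℕ, ∀ (G : Type u) [Group G] [Finite G], Nat.card G = n → Res G := by
    intro n
    induction n using Nat.strong_induction_on with
    | _ n ih =>
    intro G _ _ hn
    have IHs : ∀ H : Subgroup G, H ≠ ⊤ → Res H := by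
      intro H hH
      refine ih (Nat.card H) ?_ H rfl
      rw [← hn]
      exact lt_of_le_of_ne (Nat.le_of_dvd Nat.card_pos (card_subgroup_dvd_card H))
        fun h => hH (Subgroup.eq_top_of_card_eq H h)
    have IHq : ∀ N : Subgroup G, ∀ _ : N.Normal, N ≠ ⊥ → Res (G ⧸ N) := by
      intro N hN hne
      refine ih (Nat.card (G ⧸ N)) ?_ (G ⧸ N) rfl
      rw [← hn, ← Subgroup.index_eq_card, ← N.card_mul_index]
      have h1 : 1 < Nat.card N := by
        rw [Subgroup.one_lt_card_iff_ne_bot]; exact hne
      have h2 : 0 < N.index := Nat.pos_of_ne_zero Subgroup.index_ne_zero_of_finite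
      nlinarith
    intro α hc ho g
    by_cases hO : pPrimeCore 2 G = ⊥
    · rw [hO, mem_bot]
      by_cases hex : ∃ N : Subgroup G, N.Normal ∧ N.map α.toMonoidHom = N ∧ N ≠ ⊥ ∧ N ≠ ⊤
      · obtain ⟨N, hN, h1, h2, h3⟩ := hex
        exact trivial_of_normal hO hc ho IHs IHq hN h1 h2 h3 g
      · obtain ⟨P, hP⟩ := exists_inv_sylow hc 2
        have hPf := fix_two ho hP P.isPGroup'
        -- `G` is simple
        have hsimp : ∀ M : Subgroup G, M.Normal → M = ⊥ ∨ M = ⊤ := by
          by_contra hcon
          push Not at hcon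
          obtain ⟨M0, hM0, hM1, hM2⟩ := hcon
          obtain ⟨M, hM⟩ := Set.Finite.exists_minimal (s := {M : Subgroup G | M.Normal ∧ M ≠ ⊥ ∧ M ≠ ⊤})
            (Set.toFinite _) ⟨M0, hM0, hM1, hM2⟩
          obtain ⟨⟨hMn, hMb, hMt⟩, hmin⟩ := hM
          have hn2 : (M.map α.toMonoidHom).Normal := hMn.map _ α.surjective
          have hn3 : (M ⊓ M.map α.toMonoidHom).Normal := inferInstance
          have h4 : M ⊓ M.map α.toMonoidHom = ⊥ := by
            by_contra h5
            have h6 : M ≤ M ⊓ M.map α.toMonoidHom :=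
              hmin ⟨hn3, h5, fun h7 => hMt (top_le_iff.1 (h7 ▸ inf_le_left))⟩ inf_le_left
            have h7 : M = M.map α.toMonoidHom := by
              apply eq_of_le_of_card_ge (h6.trans inf_le_right)
              exact le_of_eq (Nat.card_congr (M.equivMapOfInjective α.toMonoidHom α.injective).toEquiv).symm
            exact hex ⟨M, hMn, h7.symm, hMb, hMt⟩
          apply hMb
          apply eq_bot_of_odd hO hMn
          rw [Nat.coprime_comm, Nat.Prime.coprime_iff_not_dvd Nat.prime_two]
          intro hd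
          obtain ⟨x, hxP, hxM, hx1⟩ := sylow_inf_ne_bot P hMn hd
          apply hx1
          rw [← mem_bot, ← h4]
          exact ⟨hxM, ⟨x, hxM, hPf x hxP⟩⟩
        rcases subsingleton_or_nontrivial G with hss | hnt
        · exact Subsingleton.elim _ _
        have hsG : IsSimpleGroup G := ⟨fun M hM => hsimp M hM⟩
        by_cases hab : IsMulCommutative G
        · have hPn : (P : Subgroup G).Normal := by
            constructor
            intro x hx y
            rw [hab.is_comm.comm y x, mul_inv_cancel_right]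
            exact hx
          rcases hsimp P hPn with h1 | h1
          · have h2 : pPrimeCore 2 G = ⊤ := by
              rw [pPrimeCore_eq_top_iff, Nat.coprime_comm, Nat.Prime.coprime_iff_not_dvd Nat.prime_two]
              intro hd
              exact P.ne_bot_of_dvd_card hd h1
            rw [hO] at h2
            exact absurd h2 bot_ne_top
          · have h2 : α g = g := hPf g (by
              change g ∈ (P : Subgroup G)
              rw [h1]; exact mem_top g)
            rw [h2, inv_mul_cancel]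
        · have h1 := hs G hab IHs α hc ho g
          rwa [hO, mem_bot] at h1
    · have h1 := (IHq _ (pPrimeCore_normal 2) hO).quot hc ho (map_equiv_pPrimeCore α 2) g
      rwa [comap_mk_pPrimeCore 2 (pPrimeCore_coprime 2)] at h1
  intro G _ _
  exact key _ G rfl

end Reduction

end Cfsg.Agent.H519.CopRed
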