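import Cfsg.Agent.Nodes.LeviDec
import Cfsg.Agent.KFacts.RgdDiag

/-!
# The gallery lemma (S3828, for helper534)

`R : RGD cs h p T n X` a finite root group datum with `GG = Y`, `l` a list containing every node. Every `g : Y` is conjugate
to an element of a cell `B v B`, `v` the product of a sublist of `l`.

Proof: let `E i` be the panel operator on the functions `Y / B → ZMod p` (the sum over the panel), `A` the product of the
`E i`, `i ∈ l`. A large power of `A` is the operator `J` (the sum over all chambers), so `ρ g * A` is `J` plus a nilpotent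
operator, and its trace is the trace of `J`, which is one.
-/

set_option autoImplicit false
set_option linter.unusedSectionVars false

namespace Cfsg.Agent.H519.Gallery

open CoxeterSystem Cfsg.Agent.ChevalleyStructure.CoxeterGeom Cfsg.Agent.Tits.Roots Cfsg.Agent.Tits.Core
  Cfsg.Agent.Tits.Exchange Cfsg.Agent.Nodes.Reps Cfsg.Agent.Nodes.BNOf Cfsg.Agent.Nodes.StabComb
  Cfsg.Agent.Nodes.Bruhat Cfsg.Agent.Nodes.LeviDec

/-! ### Linear algebra -/

section lin

variable {Ω F : Type*} [Fintype Ω] [Field F]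

/-- the sum operator -/
def JJ (Ω F : Type*) [Fintype Ω] [Field F] : (Ω → F) →ₗ[F] (Ω → F) where
  toFun f := fun _ => ∑ a, f a
  map_add' f g := by
    funext _
    simp [Finset.sum_add_distrib]
  map_smul' c f := by
    funext _
    simp [Finset.mul_sum]

theorem JJ_apply (f : Ω → F) (a : Ω) : JJ Ω F f a = ∑ a, f a := rfl

theorem trace_eq [DecidableEq Ω] (N : (Ω → F) →ₗ[F] (Ω → F)) :
    LinearMap.trace F (Ω → F) N = ∑ a, N (Pi.single a 1) a := by
  rw [LinearMap.trace_eq_matrix_trace F (Pi.basisFun F Ω) N, Matrix.trace]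
  refine Finset.sum_congr rfl fun a _ => ?_
  rw [Matrix.diag_apply, LinearMap.toMatrix_apply, Pi.basisFun_apply, Pi.basisFun_repr]

theorem exists_diag [Nonempty Ω] [DecidableEq Ω] (N : (Ω → F) →ₗ[F] (Ω → F)) {k0 : ℕ} (hk : ∀ k, k0 ≤ k → N ^ k = JJ Ω F) :
    ∃ a, N (Pi.single a 1) a ≠ 0 := by
  have h1 : N * JJ Ω F = JJ Ω F := by
    rw [← hk k0 le_rfl, ← pow_succ', hk _ (by omega), hk _ le_rfl]
  have h2 : JJ Ω F * N = JJ Ω F := by
    rw [← hk k0 le_rfl, ← pow_succ, hk _ (by omega), hk _ le_rfl]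
  have h3 : JJ Ω F * JJ Ω F = JJ Ω F := by
    nth_rewrite 1 [← hk k0 le_rfl]
    rw [← hk k0 le_rfl, ← pow_add, hk _ (by omega), hk _ le_rfl]
  have h4 : ∀ m : ℕ, (N - JJ Ω F) ^ (m + 1) = N ^ (m + 1) - JJ Ω F := by
    intro m
    induction m with
    | zero => rw [zero_add, pow_one, pow_one]
    | succ m ih =>
      have h5 : ∀ j : ℕ, N ^ j * JJ Ω F = JJ Ω F := by
        intro j
        induction j with
        | zero => rw [pow_zero, one_mul]
        | succ j ihj => rw [pow_succ, mul_assoc, h1, ihj]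
      rw [pow_succ, ih, sub_mul, mul_sub, mul_sub, h2, h3, h5, sub_self, sub_zero, ← pow_succ]
  have hnil : IsNilpotent (N - JJ Ω F) := ⟨k0 + 1, by rw [h4, hk _ (by omega), sub_self]⟩
  have htr : LinearMap.trace F (Ω → F) (N - JJ Ω F) = 0 :=
    (LinearMap.isNilpotent_trace_of_isNilpotent hnil).eq_zero
  rw [map_sub, sub_eq_zero, trace_eq, trace_eq] at htr
  obtain ⟨a0⟩ := (inferInstance : Nonempty Ω)
  have hJ : ∀ a b : Ω, JJ Ω F (Pi.single a 1) b = 1 := by
    intro a b
    rw [JJ_apply, Finset.sum_pi_single']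
    simp
  have hcard : ((Fintype.card Ω : ℕ) : F) = 1 := by
    have h5 := congrArg (fun L : (Ω → F) →ₗ[F] (Ω → F) => L (Pi.single a0 1) a0) h3
    simp only [Module.End.mul_apply] at h5
    rw [hJ, JJ_apply, Finset.sum_congr rfl fun a _ => hJ a0 a, Finset.sum_const, Finset.card_univ, nsmul_eq_mul,
      mul_one] at h5
    exact h5
  by_contra hcon
  push Not at hcon
  rw [Finset.sum_congr rfl fun a _ => hcon a, Finset.sum_const_zero, Finset.sum_congr rfl fun a _ => hJ a a,
    Finset.sum_const, Finset.card_univ, nsmul_eq_mul, mul_one, hcard] at htr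
  exact zero_ne_one htr

end lin

/-! ### Descents -/

section desc

variable {I W : Type*} [Group W] {M : CoxeterMatrix I} (cs : CoxeterSystem M W)

open Classical in
/-- the shorter one of `w` and `w s_i` -/
noncomputable def D (i : I) (w : W) : W := if cs.length (w * cs.simple i) < cs.length w then w * cs.simple i else w

/-- the iteration over a list -/
noncomputable def DL : List I → W → W
  | [], w => w
  | i :: l, w => DL l (D cs i w)

theorem D_lt {i : I} {w : W} (h : cs.length (w * cs.simple i) < cs.length w) : D cs i w = w * cs.simple i := if_pos h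
theorem D_not {i : I} {w : W} (h : ¬ cs.length (w * cs.simple i) < cs.length w) : D cs i w = w := if_neg h

theorem D_le (i : I) (w : W) : cs.length (D cs i w) ≤ cs.length w := by
  by_cases h : cs.length (w * cs.simple i) < cs.length w
  · rw [D_lt cs h]; exact h.le
  · rw [D_not cs h]

theorem DL_le (l : List I) : ∀ w : W, cs.length (DL cs l w) ≤ cs.length w := by
  induction l with
  | nil => intro w; exact le_rfl
  | cons i l ih => intro w; exact (ih _).trans (D_le cs i w)

theorem DL_lt (l : List I) : ∀ w : W, ∀ i ∈ l, cs.length (w * cs.simple i) < cs.length w →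
    cs.length (DL cs l w) < cs.length w := by
  induction l with
  | nil => intro w i hi; exact absurd hi List.not_mem_nil
  | cons j l ih =>
    intro w i hi h
    by_cases hj : cs.length (w * cs.simple j) < cs.length w
    · show cs.length (DL cs l (D cs j w)) < _
      rw [D_lt cs hj]
      exact (DL_le cs l _).trans_lt hj
    · show cs.length (DL cs l (D cs j w)) < _
      rw [D_not cs hj]
      rcases List.mem_cons.1 hi with rfl | hi
      · exact absurd h hj
      · exact ih w i hi h

theorem DL_one (l : List I) : DL cs l 1 = 1 := by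
  have h := DL_le cs l 1
  rw [cs.length_one, Nat.le_zero, cs.length_eq_zero_iff] at h
  exact h

theorem iter_le {l : List I} (hl : ∀ i, i ∈ l) (k : ℕ) : ∀ w : W, cs.length w ≤ k → (DL cs l)^[k] w = 1 := by
  induction k with
  | zero =>
    intro w hw
    rw [Nat.le_zero, cs.length_eq_zero_iff] at hw
    exact hw
  | succ k ih =>
    intro w hw
    rw [Function.iterate_succ_apply]
    apply ih
    by_cases h1 : w = 1
    · rw [h1, DL_one, cs.length_one]; omega
    · obtain ⟨i, hi⟩ := cs.exists_rightDescent_of_ne_one h1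
      have := DL_lt cs l w i (hl i) hi
      omega

/-- a word for `w⁻¹` -/
theorem exists_word (l : List I) : ∀ w : W, DL cs l w = 1 → ∃ l' : List I, l'.Sublist l ∧ w⁻¹ = cs.wordProd l' ∧
    cs.length w = l'.length := by
  induction l with
  | nil =>
    intro w hw
    have hw' : w = 1 := hw
    exact ⟨[], List.Sublist.refl _, by rw [hw', inv_one, cs.wordProd_nil], by rw [hw', cs.length_one]; rfl⟩
  | cons i l ih =>
    intro w hw
    obtain ⟨l', h1, h2, h3⟩ := ih (D cs i w) hw
    by_cases hi : cs.length (w * cs.simple i) < cs.length w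
    · rw [D_lt cs hi] at h2 h3
      refine ⟨i :: l', h1.cons_cons i, ?_, ?_⟩
      · rw [cs.wordProd_cons, ← h2, mul_inv_rev, cs.inv_simple, ← mul_assoc, cs.simple_mul_simple_self, one_mul]
      · rw [List.length_cons, ← h3]
        have := cs.length_mul_simple w i
        omega
    · rw [D_not cs hi] at h2 h3
      exact ⟨l', h1.cons i, h2, h3⟩

end desc

/-! ### The panel operators -/

section panel

variable {I W Y : Type*} [Fintype I] [DecidableEq I] [Group W] [Group Y] {M : CoxeterMatrix I}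
  {cs : CoxeterSystem M W} {A : I → I → ℤ} {h : IsCartan M A} {p : ℕ} {T : Subgroup Y} {n : I → Y}
  {X : (I → ℤ) → Subgroup Y}

/-- the chambers -/
abbrev Ch (cs : CoxeterSystem M W) (h : IsCartan M A) (T : Subgroup Y) (X : (I → ℤ) → Subgroup Y) : Type _ :=
  Y ⧸ RGD.B cs h T X

/-- the panel of a chamber -/
def pan (cs : CoxeterSystem M W) (h : IsCartan M A) (T : Subgroup Y) (X : (I → ℤ) → Subgroup Y) (i : I) :
    Ch cs h T X → Y ⧸ PJ cs h T X {i} := Subgroup.quotientMapOfLE B_le_PJ

theorem pan_mk (i : I) (y : Y) : pan cs h T X i (y : Ch cs h T X) = (y : Y ⧸ PJ cs h T X {i}) := rfl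

theorem pan_smul (i : I) (g : Y) (a : Ch cs h T X) : pan cs h T X i (g • a) = g • pan cs h T X i a := by
  obtain ⟨y, rfl⟩ := QuotientGroup.mk_surjective a
  rfl

variable [Fintype (Ch cs h T X)] {F : Type*} [Field F]

open Classical in
/-- the panel operator -/
noncomputable def E (cs : CoxeterSystem M W) (h : IsCartan M A) (T : Subgroup Y) (X : (I → ℤ) → Subgroup Y)
    [Fintype (Ch cs h T X)] (F : Type*) [Field F] (i : I) : (Ch cs h T X → F) →ₗ[F] (Ch cs h T X → F) where
  toFun f := fun a => ∑ b, if pan cs h T X i b = pan cs h T X i a then f b else 0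
  map_add' f g := by
    funext a
    rw [Pi.add_apply, ← Finset.sum_add_distrib]
    refine Finset.sum_congr rfl fun b _ => ?_
    split_ifs
    · rfl
    · rw [add_zero]
  map_smul' c f := by
    funext a
    rw [RingHom.id_apply, Pi.smul_apply, smul_eq_mul, Finset.mul_sum]
    refine Finset.sum_congr rfl fun b _ => ?_
    split_ifs
    · rfl
    · rw [mul_zero]

open Classical in
theorem E_apply (i : I) (f : Ch cs h T X → F) (a : Ch cs h T X) :
    E cs h T X F i f a = ∑ b, if pan cs h T X i b = pan cs h T X i a then f b else 0 := rfl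

theorem E_congr (i : I) (f : Ch cs h T X → F) {a a' : Ch cs h T X} (ha : pan cs h T X i a = pan cs h T X i a') :
    E cs h T X F i f a = E cs h T X F i f a' := by
  classical
  rw [E_apply, E_apply, ha]

/-- the action of the group -/
def rho (cs : CoxeterSystem M W) (h : IsCartan M A) (T : Subgroup Y) (X : (I → ℤ) → Subgroup Y)
    (F : Type*) [Field F] (g : Y) : (Ch cs h T X → F) →ₗ[F] (Ch cs h T X → F) where
  toFun f := fun a => f (g⁻¹ • a)
  map_add' _ _ := rfl
  map_smul' _ _ := rfl

theorem rho_apply (g : Y) (f : Ch cs h T X → F) (a : Ch cs h T X) : rho cs h T X F g f a = f (g⁻¹ • a) := rfl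

theorem rho_mul (g g' : Y) : rho cs h T X F (g * g') = rho cs h T X F g * rho cs h T X F g' := by
  ext f a
  simp [rho, mul_smul]

theorem rho_one : rho cs h T X F (1 : Y) = 1 := by
  ext f a
  simp [rho]

theorem rho_pow (g : Y) (k : ℕ) : rho cs h T X F g ^ k = rho cs h T X F (g ^ k) := by
  induction k with
  | zero => rw [pow_zero, pow_zero, rho_one]
  | succ k ih => rw [pow_succ, pow_succ, rho_mul, ih]

theorem rho_JJ (g : Y) : rho cs h T X F g * JJ (Ch cs h T X) F = JJ (Ch cs h T X) F := rfl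

theorem rho_E (g : Y) (i : I) : rho cs h T X F g * E cs h T X F i = E cs h T X F i * rho cs h T X F g := by
  classical
  apply LinearMap.ext
  intro f
  funext a
  rw [Module.End.mul_apply, Module.End.mul_apply, rho_apply, E_apply, E_apply]
  refine Fintype.sum_equiv (MulAction.toPerm g) _ _ fun b => ?_
  rw [rho_apply]
  have e1 : (MulAction.toPerm g : Equiv.Perm (Ch cs h T X)) b = g • b := rfl
  rw [e1, inv_smul_smul, pan_smul, pan_smul]
  have e2 : pan cs h T X i b = g⁻¹ • pan cs h T X i a ↔ g • pan cs h T X i b = pan cs h T X i a :=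
    eq_inv_smul_iff
  by_cases hb : pan cs h T X i b = g⁻¹ • pan cs h T X i a
  · rw [if_pos hb, if_pos (e2.1 hb)]
  · rw [if_neg hb, if_neg fun h' => hb (e2.2 h')]

/-- the product of the panel operators -/
noncomputable def EL (cs : CoxeterSystem M W) (h : IsCartan M A) (T : Subgroup Y) (X : (I → ℤ) → Subgroup Y)
    [Fintype (Ch cs h T X)] (F : Type*) [Field F] (l : List I) : (Ch cs h T X → F) →ₗ[F] (Ch cs h T X → F) :=
  (l.map (E cs h T X F)).prod

theorem rho_EL (g : Y) (l : List I) : rho cs h T X F g * EL cs h T X F l = EL cs h T X F l * rho cs h T X F g := by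
  induction l with
  | nil => rw [EL, List.map_nil, List.prod_nil, mul_one, one_mul]
  | cons i l ih =>
    have e : EL cs h T X F (i :: l) = E cs h T X F i * EL cs h T X F l := by
      rw [EL, List.map_cons, List.prod_cons]; rfl
    rw [e, ← mul_assoc, rho_E, mul_assoc, ih, mul_assoc]

variable (R : RGD cs h p T n X) [Finite W]

include R

theorem mem_P_iff {i : I} {g : Y} : (g ∈ PJ cs h T X {i} ∧ g ∉ RGD.B cs h T X) ↔ Cell R.nsys cs h X (cs.simple i) g := by
  constructor
  · rintro ⟨h1, h2⟩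
    obtain ⟨w, hw, hc⟩ := (mem_PJ_iff_cell R).1 h1
    rcases KFacts.RgdDiag.mem_WJ_singleton hw with rfl | rfl
    · exact absurd hc.mem_of_one h2
    · exact hc
  · intro hc
    refine ⟨(mem_PJ_iff_cell R).2 ⟨_, simple_mem_WJ cs (Set.mem_singleton i), hc⟩, fun hB => ?_⟩
    have h1 := Cell.unique R hc (cell_one_of_mem hB)
    have h2 := cs.length_simple i
    rw [h1, cs.length_one] at h2
    exact absurd h2 (by decide)

/-- `P_i = B ∪ X_i n_i B` -/
theorem exists_form {i : I} {x : Y} (hx : Cell R.nsys cs h X (cs.simple i) x) :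
    ∃ u ∈ X (sr i), ∃ b ∈ RGD.B cs h T X, x = u * n i * b := by
  obtain ⟨b₁, hb₁, k, hk, b₂, hb₂, rfl⟩ := hx
  obtain ⟨v, hv, u, hu, t, ht, rfl⟩ := R.mem_B' i hb₁
  have h1 : (n i)⁻¹ * k ∈ T := (rp_simple cs R.nsys i).unique hk
  have hn : n i ∈ Subgroup.normalizer (RGD.Sup X (RGD.PosNe cs h i) : Set Y) := by
    rw [mem_normalizer_iff_cj]; exact R.cj_n_V i
  have h2 : u⁻¹ * v * u ∈ RGD.Sup X (RGD.PosNe cs h i) := by
    have := (Subgroup.mem_normalizer_iff.1 (inv_mem (R.X_le_normalizer_V i hu)) v).1 hv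
    rwa [inv_inv] at this
  have h3 : (n i)⁻¹ * (u⁻¹ * v * u) * n i ∈ RGD.Sup X (RGD.PosNe cs h i) := by
    have := (Subgroup.mem_normalizer_iff.1 (inv_mem hn) _).1 h2
    rwa [inv_inv] at this
  have h4 : (n i)⁻¹ * t * n i ∈ T := by
    have := (Subgroup.mem_normalizer_iff.1 (inv_mem (R.nsys.norm i)) t).1 ht
    rwa [inv_inv] at this
  have hVB : RGD.Sup X (RGD.PosNe cs h i) ≤ RGD.B cs h T X :=
    (RGD.Sup_mono (S := RGD.PosNe cs h i) (S' := RGD.Pos cs h) fun _ hz => ⟨hz.1, hz.2.1⟩).trans RGD.U_le_B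
  refine ⟨u, hu, ((n i)⁻¹ * (u⁻¹ * v * u) * n i) * ((n i)⁻¹ * t * n i) * ((n i)⁻¹ * k) * b₂, ?_, by group⟩
  exact mul_mem (mul_mem (mul_mem (hVB h3) (RGD.T_le_B h4)) (RGD.T_le_B h1)) hb₂

theorem eq_one_of_conj {i : I} {u : Y} (hu : u ∈ X (sr i)) (hB : (n i)⁻¹ * u * n i ∈ RGD.B cs h T X) : u = 1 := by
  have hk : Rp cs R.nsys (cs.simple i) (n i)⁻¹ := by
    have := (rp_simple cs R.nsys i).inv
    rwa [inv_simple] at this
  exact eq_one_of_conj_mem_B R hu hk (by rwa [inv_inv])

theorem cell_u {i : I} {u : Y} (hu : u ∈ X (sr i)) : Cell R.nsys cs h X (cs.simple i) (u * n i) :=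
  (cell_of_rp (rp_simple cs R.nsys i)).mul_left (RGD.X_le_B (isRoot_sr cs h i) (sr_nonneg i) hu)

/-- **the sum over a panel** -/
theorem E_mk (i : I) [Fintype (X (sr i))] (f : Ch cs h T X → F) (y : Y) :
    E cs h T X F i f (y : Ch cs h T X) = f (y : Ch cs h T X) + ∑ u : X (sr i), f ((y * u * n i : Y) : Ch cs h T X) := by
  classical
  have hset : (Finset.univ.filter fun b : Ch cs h T X => pan cs h T X i b = pan cs h T X i (y : Ch cs h T X)) =
      insert (y : Ch cs h T X) (Finset.univ.image fun u : X (sr i) => ((y * u * n i : Y) : Ch cs h T X)) := by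
    ext b
    obtain ⟨z, rfl⟩ := QuotientGroup.mk_surjective b
    rw [Finset.mem_filter, Finset.mem_insert, Finset.mem_image, pan_mk, pan_mk, eq_comm (a := (z : Y ⧸ PJ cs h T X {i})),
      QuotientGroup.eq]
    constructor
    · rintro ⟨-, hz⟩
      by_cases hB : y⁻¹ * z ∈ RGD.B cs h T X
      · left
        exact (QuotientGroup.eq.2 hB).symm
      · right
        obtain ⟨u, hu, b, hb, e⟩ := exists_form R ((mem_P_iff R).1 ⟨hz, hB⟩)
        refine ⟨⟨u, hu⟩, Finset.mem_univ _, QuotientGroup.eq.2 ?_⟩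
        have : (y * u * n i)⁻¹ * z = b := by
          have h1 : z = y * (u * n i * b) := by rw [← e]; group
          rw [h1]; group
        show (y * u * n i)⁻¹ * z ∈ _
        rw [this]; exact hb
    · rintro (hz | ⟨u, -, hz⟩)
      · exact ⟨Finset.mem_univ _, B_le_PJ (QuotientGroup.eq.1 hz.symm)⟩
      · refine ⟨Finset.mem_univ _, ?_⟩
        have h1 := QuotientGroup.eq.1 hz
        have h2 : (u : Y) * n i ∈ PJ cs h T X {i} := ((mem_P_iff R).2 (cell_u R u.2)).1
        have e : y⁻¹ * z = (u * n i) * ((y * u * n i)⁻¹ * z) := by group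
        rw [e]
        exact mul_mem h2 (B_le_PJ h1)
  rw [E_apply, ← Finset.sum_filter, hset, Finset.sum_insert, Finset.sum_image]
  · intro u _ u' _ huu
    have h1 := QuotientGroup.eq.1 huu
    have e : (y * u * n i)⁻¹ * (y * u' * n i) = (n i)⁻¹ * ((u : Y)⁻¹ * u') * n i := by group
    rw [e] at h1
    have h2 := eq_one_of_conj R (mul_mem (inv_mem u.2) u'.2) h1
    exact Subtype.ext (inv_mul_eq_one.1 h2)
  · intro hy
    obtain ⟨u, -, hu⟩ := Finset.mem_image.1 hy
    have h1 := QuotientGroup.eq.1 hu.symm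
    have e : y⁻¹ * (y * u * n i) = u * n i := by group
    rw [e] at h1
    exact ((mem_P_iff R).2 (cell_u R u.2)).2 h1

/-! ### cells -/

/-- the cell of an element -/
noncomputable def cl (hG : GG cs h T X = ⊤) (g : Y) : W :=
  ((mem_GG R).1 (show g ∈ GG cs h T X by rw [hG]; trivial)).choose

variable (hG : GG cs h T X = ⊤)

theorem cl_spec (g : Y) : Cell R.nsys cs h X (cl R hG g) g :=
  ((mem_GG R).1 (show g ∈ GG cs h T X by rw [hG]; trivial)).choose_spec

theorem cl_eq {w : W} {g : Y} (hc : Cell R.nsys cs h X w g) : cl R hG g = w := Cell.unique R (cl_spec R hG g) hc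

theorem cl_mul {g b : Y} (hb : b ∈ RGD.B cs h T X) : cl R hG (g * b) = cl R hG g :=
  cl_eq R hG ((cl_spec R hG g).mul_right hb)

open Classical in
/-- the indicator function of the chambers at distance in `S` from `z` -/
noncomputable def FS (F : Type*) [Field F] (z : Y) (S : Set W) : Ch cs h T X → F :=
  fun a => if cl R hG (z⁻¹ * a.out) ∈ S then 1 else 0

open Classical in
theorem FS_mk (z : Y) (S : Set W) (y : Y) :
    FS R hG F z S (y : Ch cs h T X) = if cl R hG (z⁻¹ * y) ∈ S then 1 else 0 := by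
  have h1 : (y : Y)⁻¹ * (y : Ch cs h T X).out ∈ RGD.B cs h T X := by
    rw [← QuotientGroup.eq, QuotientGroup.out_eq']
  have h2 : cl R hG (z⁻¹ * (y : Ch cs h T X).out) = cl R hG (z⁻¹ * y) := by
    have h3 := cl_mul R hG (g := z⁻¹ * y) h1
    rw [← h3]
    congr 1
    group
  rw [FS, h2]

theorem FS_one [DecidableEq (Ch cs h T X)] (z : Y) :
    FS R hG F z {1} = Pi.single (z : Ch cs h T X) 1 := by
  classical
  funext a
  obtain ⟨y, rfl⟩ := QuotientGroup.mk_surjective a
  rw [FS_mk, Pi.single_apply]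
  have h1 : cl R hG (z⁻¹ * y) ∈ ({1} : Set W) ↔ (y : Ch cs h T X) = (z : Ch cs h T X) := by
    rw [Set.mem_singleton_iff, eq_comm (a := (y : Ch cs h T X)), QuotientGroup.eq]
    constructor
    · intro h2
      have h3 := cl_spec R hG (z⁻¹ * y)
      rw [h2] at h3
      exact h3.mem_of_one
    · intro h2
      exact cl_eq R hG (cell_one_of_mem h2)
  by_cases h2 : (y : Ch cs h T X) = (z : Ch cs h T X)
  · rw [if_pos (h1.2 h2), if_pos h2]
  · rw [if_neg fun h3 => h2 (h1.1 h3), if_neg h2]

variable [Fact p.Prime] [CharP F p] [Finite Y]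

open Classical in
/-- the panel operator on indicator functions, at the nearest chamber -/
theorem E_FS_near (i : I) (z y : Y) (S : Set W)
    (hlt : ¬ cs.length (cl R hG (z⁻¹ * y) * cs.simple i) < cs.length (cl R hG (z⁻¹ * y))) :
    E cs h T X F i (FS R hG F z S) (y : Ch cs h T X) = if cl R hG (z⁻¹ * y) ∈ S then 1 else 0 := by
  have : Fintype (X (sr i)) := Fintype.ofFinite _
  rw [E_mk R, FS_mk]
  have h1 : ∀ u : X (sr i), FS R hG F z S ((y * u * n i : Y) : Ch cs h T X) =
      if cl R hG (z⁻¹ * y) * cs.simple i ∈ S then 1 else 0 := by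
    intro u
    rw [FS_mk]
    have h2 := Cell.mul_of_length R (v := cl R hG (z⁻¹ * y)) (w := cs.simple i) (a := z⁻¹ * y) (b := u * n i) (by
      rw [cs.length_simple]
      have := cs.length_mul_simple (cl R hG (z⁻¹ * y)) i
      omega) (cl_spec R hG _) (cell_u R u.2)
    have e : z⁻¹ * (y * u * n i) = z⁻¹ * y * (u * n i) := by group
    rw [e, cl_eq R hG h2]
  rw [Finset.sum_congr rfl fun u _ => h1 u, Finset.sum_const, Finset.card_univ, nsmul_eq_mul]
  have h2 : ((Fintype.card (X (sr i)) : ℕ) : F) = 0 := by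
    rw [CharP.cast_eq_zero_iff F p, ← Nat.card_eq_fintype_card]
    obtain ⟨k, hk⟩ := (R.pgrp i).exists_card_eq
    rw [hk]
    refine dvd_pow_self p ?_
    rintro rfl
    rw [pow_zero] at hk
    obtain ⟨u, hu, hu1⟩ := exists_ne_one R i
    have h3 : X (sr i) = ⊥ := Subgroup.eq_bot_of_card_eq _ hk
    rw [h3, Subgroup.mem_bot] at hu
    exact hu1 hu
  rw [h2, zero_mul, add_zero]

theorem E_FS (i : I) (z : Y) (S : Set W) : E cs h T X F i (FS R hG F z S) = FS R hG F z {w | D cs i w ∈ S} := by
  classical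
  funext a
  obtain ⟨y, rfl⟩ := QuotientGroup.mk_surjective a
  rw [FS_mk]
  by_cases hlt : cs.length (cl R hG (z⁻¹ * y) * cs.simple i) < cs.length (cl R hG (z⁻¹ * y))
  · -- the nearest chamber
    obtain ⟨b₁, hb₁, k, hk, b₂, hb₂, e⟩ := cl_spec R hG (z⁻¹ * y)
    have hni : n i ∈ PJ cs h T X {i} := ((mem_P_iff R).2 (cell_of_rp (rp_simple cs R.nsys i))).1
    set y0 := y * (b₂⁻¹ * (n i)⁻¹) with hy0
    have h1 : z⁻¹ * y0 = b₁ * (k * (n i)⁻¹) := by
      rw [hy0, ← mul_assoc, e]; group
    have h2 : Cell R.nsys cs h X (cl R hG (z⁻¹ * y) * cs.simple i) (z⁻¹ * y0) := by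
      rw [h1]
      refine (cell_of_rp ?_).mul_left hb₁
      have := hk.mul (rp_simple cs R.nsys i).inv
      rwa [inv_simple] at this
    have h3 := cl_eq R hG h2
    have h4 : pan cs h T X i (y : Ch cs h T X) = pan cs h T X i (y0 : Ch cs h T X) := by
      rw [pan_mk, pan_mk, QuotientGroup.eq, hy0, inv_mul_cancel_left]
      exact mul_mem (inv_mem (B_le_PJ hb₂)) (inv_mem hni)
    rw [E_congr i _ h4, E_FS_near R hG i z y0 S (by
      rw [h3, mul_assoc, cs.simple_mul_simple_self, mul_one]
      omega), h3, Set.mem_ofPred_eq, D_lt cs hlt]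
  · rw [E_FS_near R hG i z y S hlt, Set.mem_ofPred_eq, D_not cs hlt]

theorem EL_FS (l : List I) : ∀ (z : Y) (S : Set W),
    EL cs h T X F l (FS R hG F z S) = FS R hG F z {w | DL cs l w ∈ S} := by
  induction l with
  | nil => intro z S; rfl
  | cons i l ih =>
    intro z S
    have e : EL cs h T X F (i :: l) = E cs h T X F i * EL cs h T X F l := by
      rw [EL, List.map_cons, List.prod_cons]; rfl
    rw [e, Module.End.mul_apply, ih, E_FS R hG]
    rfl

theorem EL_pow_FS (l : List I) (k : ℕ) : ∀ (z : Y) (S : Set W),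
    (EL cs h T X F l ^ k) (FS R hG F z S) = FS R hG F z {w | (DL cs l)^[k] w ∈ S} := by
  induction k with
  | zero => intro z S; rfl
  | succ k ih =>
    intro z S
    rw [pow_succ', Module.End.mul_apply, ih, EL_FS R hG]
    congr 1

include hG in
/-- large powers -/
theorem EL_pow_eq {l : List I} (hl : ∀ i, i ∈ l) : ∃ k0, ∀ k, k0 ≤ k → EL cs h T X F l ^ k = JJ (Ch cs h T X) F := by
  classical
  have : Fintype W := Fintype.ofFinite W
  refine ⟨∑ w : W, cs.length w, fun k hk => ?_⟩
  have hlen : ∀ w : W, cs.length w ≤ k := fun w =>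
    (Finset.single_le_sum (f := fun w : W => cs.length w) (fun _ _ => Nat.zero_le _) (Finset.mem_univ w)).trans hk
  refine LinearMap.pi_ext' fun a => LinearMap.ext_ring ?_
  obtain ⟨z, rfl⟩ := QuotientGroup.mk_surjective a
  show (EL cs h T X F l ^ k) (Pi.single (z : Ch cs h T X) 1) = JJ (Ch cs h T X) F (Pi.single (z : Ch cs h T X) 1)
  rw [← FS_one R hG, EL_pow_FS R hG, FS_one R hG]
  have h1 : {w : W | (DL cs l)^[k] w ∈ ({1} : Set W)} = Set.univ := by
    ext w
    simp [iter_le cs hl k w (hlen w)]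
  funext b
  rw [h1, JJ_apply, Finset.sum_pi_single']
  obtain ⟨y, rfl⟩ := QuotientGroup.mk_surjective b
  rw [FS_mk]
  simp

end panel

/-! ### The gallery lemma -/

section main

variable {I W Y : Type*} [Fintype I] [DecidableEq I] [Group W] [Group Y] {M : CoxeterMatrix I}
  {cs : CoxeterSystem M W} {A : I → I → ℤ} {h : IsCartan M A} {p : ℕ} {T : Subgroup Y} {n : I → Y}
  {X : (I → ℤ) → Subgroup Y}

/-- **The gallery lemma.** Every element is conjugate to an element of a cell over the product of a sublist of `l`. -/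
theorem gallery [Finite W] [Finite Y] [Fact p.Prime] (R : RGD cs h p T n X) (hG : GG cs h T X = ⊤) {l : List I}
    (hl : ∀ i, i ∈ l) (g : Y) : ∃ (z : Y) (l' : List I), l'.Sublist l ∧ cs.length (cs.wordProd l') = l'.length ∧
      Cell R.nsys cs h X (cs.wordProd l') (z⁻¹ * g * z) := by
  classical
  have : Fintype (Ch cs h T X) := Fintype.ofFinite _
  have hp := Fact.out (p := p.Prime)
  obtain ⟨k0, hk0⟩ := EL_pow_eq (F := ZMod p) R hG hl
  have hcomm : Commute (rho cs h T X (ZMod p) g) (EL cs h T X (ZMod p) l) := rho_EL g l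
  obtain ⟨a, ha⟩ := exists_diag (rho cs h T X (ZMod p) g * EL cs h T X (ZMod p) l) (k0 := k0) (fun k hk => by
    rw [hcomm.mul_pow, hk0 k hk, rho_pow, rho_JJ])
  obtain ⟨z, rfl⟩ := QuotientGroup.mk_surjective a
  rw [Module.End.mul_apply, rho_apply, ← FS_one R hG, EL_FS R hG] at ha
  have e : g⁻¹ • (z : Ch cs h T X) = ((g⁻¹ * z : Y) : Ch cs h T X) := rfl
  rw [e, FS_mk] at ha
  have h1 : DL cs l (cl R hG (z⁻¹ * (g⁻¹ * z))) = 1 := by
    by_contra h2
    apply ha
    rw [if_neg]
    exact h2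
  obtain ⟨l', h2, h3, h4⟩ := exists_word cs l _ h1
  refine ⟨z, l', h2, ?_, ?_⟩
  · rw [← h3, cs.length_inv, h4]
  · rw [← h3]
    have h5 := (cl_spec R hG (z⁻¹ * (g⁻¹ * z))).inv
    have e2 : (z⁻¹ * (g⁻¹ * z))⁻¹ = z⁻¹ * g * z := by group
    rwa [e2] at h5

end main

end Cfsg.Agent.H519.Gallery
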