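import Cfsg.Agent.Solvable.Glauberman
import Cfsg.Agent.H519.CopRed

/-!
# Glauberman's lemma for one automorphism acting on a set

`exists_fixed_in_orbit` : `τ` an automorphism of `G`, `θ` a permutation of the `G`-set `C` with `θ (g c) = τ(g) θ(c)`, `K` a
`τ`-invariant subgroup of order prime to that of `τ`. If `θ` preserves the orbit `K c`, it fixes a point of it.
-/

set_option autoImplicit false

namespace Cfsg.Agent.H519.Glaub

open scoped Pointwise

variable {C : Type*} [Finite C] {G : Type*} [Group G] [MulAction G C]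

theorem exists_fixed_in_orbit (τ : MulAut G) (θ : Equiv.Perm C)
    (h : ∀ (g : G) (c : C), θ (g • c) = τ g • θ c) (K : Subgroup G) (hK : K.map τ.toMonoidHom = K) {n : ℕ}
    (hcop : n.Coprime (Nat.card K)) (hθ : θ ^ n = 1) (x : C) (hx : ∃ k ∈ K, θ x = k • x) :
    ∃ k ∈ K, θ (k • x) = k • x := by
  classical
  set Kb : Subgroup (Equiv.Perm C) := K.map (MulAction.toPermHom G C) with hKb
  have hconj : ∀ k : G, θ * MulAction.toPermHom G C k * θ⁻¹ = MulAction.toPermHom G C (τ k) := by
    intro k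
    ext c
    change θ (k • (θ⁻¹ c)) = τ k • c
    rw [h]
    congr 1
    exact θ.apply_symm_apply c
  have hnorm : θ ∈ Subgroup.normalizer (Kb : Set (Equiv.Perm C)) := by
    rw [Subgroup.mem_normalizer_iff]
    intro f
    constructor
    · rintro ⟨k, hk, rfl⟩
      exact ⟨τ k, CopRed.mem_of_map_eq τ hK hk, (hconj k).symm⟩
    · rintro ⟨k', hk', hf⟩
      have hk'' : k' ∈ K.map τ.toMonoidHom := hK.symm ▸ hk'
      obtain ⟨k, hk, rfl⟩ := hk''
      refine ⟨k, hk, ?_⟩
      have h1 : θ * MulAction.toPermHom G C k * θ⁻¹ = θ * f * θ⁻¹ := (hconj k).trans hf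
      have h2 := mul_right_cancel h1
      exact mul_left_cancel h2
  have hA : Subgroup.zpowers θ ≤ Subgroup.normalizer (Kb : Set (Equiv.Perm C)) := by
    rw [Subgroup.zpowers_le]
    exact hnorm
  have hc : (Nat.card (Subgroup.zpowers θ)).Coprime (Nat.card Kb) := by
    rw [Nat.card_zpowers]
    exact (hcop.coprime_dvd_left (orderOf_dvd_of_pow_eq_one hθ)).coprime_dvd_right (Subgroup.card_map_dvd _ _)
  have hsol : Group.IsSolvable (Subgroup.zpowers θ) := by
    have h1 : IsMulCommutative (Subgroup.zpowers θ) := inferInstance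
    exact Group.isSolvable_of_comm fun a b => h1.is_comm.comm a b
  -- the orbit is invariant
  have horb : θ • (MulAction.orbit Kb x : Set C) = MulAction.orbit Kb x := by
    have hsub : θ • (MulAction.orbit Kb x : Set C) ⊆ MulAction.orbit Kb x := by
      rintro _ ⟨_, ⟨⟨f, k, hk, rfl⟩, rfl⟩, rfl⟩
      obtain ⟨k0, hk0, hx0⟩ := hx
      refine ⟨⟨MulAction.toPermHom G C (τ k * k0), τ k * k0, mul_mem (CopRed.mem_of_map_eq τ hK hk) hk0, rfl⟩, ?_⟩
      change (τ k * k0) • x = θ (k • x)
      rw [h, hx0, mul_smul]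
    apply Set.eq_of_subset_of_ncard_le hsub _ (Set.toFinite _)
    exact le_of_eq (Set.ncard_image_of_injective (MulAction.orbit Kb x : Set C) θ.injective).symm
  have hAorb : ∀ a ∈ Subgroup.zpowers θ, ∃ k ∈ Kb, a • x = k • x := by
    intro a ha
    have h1 : Subgroup.zpowers θ ≤ MulAction.stabilizer (Equiv.Perm C) (MulAction.orbit Kb x : Set C) := by
      rw [Subgroup.zpowers_le]
      exact MulAction.mem_stabilizer_iff.2 horb
    have h2 := MulAction.mem_stabilizer_iff.1 (h1 ha)
    have h3 : a • x ∈ (MulAction.orbit Kb x : Set C) := by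
      rw [← h2]
      exact ⟨x, MulAction.mem_orbit_self x, rfl⟩
    obtain ⟨⟨k, hk⟩, hk2⟩ := h3
    exact ⟨k, hk, hk2.symm⟩
  obtain ⟨f, ⟨k, hk, rfl⟩, hf⟩ := Solvable.Glauberman.exists_smul_fixed (Subgroup.zpowers θ) Kb hA hc (Or.inl hsol) x
    hAorb
  exact ⟨k, hk, hf θ (Subgroup.mem_zpowers θ)⟩

end Cfsg.Agent.H519.Glaub
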