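import Cfsg.Agent.H519.LieTriv
import Cfsg.Agent.H505.OddInn
import Cfsg.Agent.Mrg.Omega.ML.LieRow.Lie
import Cfsg.Agent.OddHalf.Known
import Cfsg.Agent.S0205
import Cfsg.Agent.S0252
import Cfsg.Agent.S0254

/-!
# Coprime automorphisms with commutators of odd order: the known simple groups

* `eq_one_of_oddInn` : coprime automorphisms of simple groups whose automorphisms of odd prime order are inner;
* `triv_of_known` : the known simple groups.
-/

set_option autoImplicit false

namespace Cfsg.Agent.H519.KnownTriv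

open Subgroup Cfsg Cfsg.Agent.H519.CopRed
open Cfsg.Agent.BpSpor.Inn (OddInn)

theorem center_eq_bot {K : Type*} [Group K] [IsSimpleGroup K] (hna : ¬ IsMulCommutative K) : center K = ⊥ := by
  rcases IsSimpleGroup.eq_bot_or_eq_top_of_normal (center K) inferInstance with h | h
  · exact h
  · exact absurd (isMulCommutative_iff.2 fun a b => by
      have : b ∈ center K := by rw [h]; trivial
      exact mem_center_iff.1 this a) hna

theorem even_card {K : Type*} [Group K] [Finite K] [IsSimpleGroup K] (hna : ¬ IsMulCommutative K) :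
    2 ∣ Nat.card K := by
  rw [← even_iff_two_dvd]
  by_contra h
  have h1 : Group.IsSolvable K := S0205.result (Nat.not_even_iff_odd.1 h)
  exact hna (isMulCommutative_iff.2 fun a b => ((IsSimpleGroup.comm_iff_isSolvable (G := K)).2 h1) a b)

/-- an inner automorphism of order prime to the order of the group is trivial -/
theorem conj_eq_one {K : Type*} [Group K] [Finite K] (g : K)
    (hc : (orderOf (MulAut.conj g)).Coprime (Nat.card K)) : MulAut.conj g = 1 := by
  have h1 : orderOf (MulAut.conj g) ∣ orderOf g := orderOf_map_dvd _ _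
  have h2 := Nat.eq_one_of_dvd_coprimes hc dvd_rfl (h1.trans (orderOf_dvd_natCard g))
  exact orderOf_eq_one_iff.1 h2

theorem eq_one_of_oddInn {K : Type*} [Group K] [Finite K] [IsSimpleGroup K] (hna : ¬ IsMulCommutative K)
    (h : OddInn K) (α : MulAut K) (hc : (orderOf α).Coprime (Nat.card K)) : α = 1 := by
  by_contra hne
  have hfin : Finite (MulAut K) := DFunLike.finite _
  have h1 : orderOf α ≠ 1 := fun h => hne (orderOf_eq_one_iff.1 h)
  obtain ⟨p, hp, hpd⟩ := Nat.exists_prime_and_dvd h1
  have hp2 : p ≠ 2 := by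
    rintro rfl
    have h2 := Nat.eq_one_of_dvd_coprimes hc hpd (even_card hna)
    omega
  obtain ⟨k, hk⟩ := hpd
  have hk0 : 0 < k := Nat.pos_of_ne_zero (by rintro rfl; exact (orderOf_pos α).ne' (by rw [hk, mul_zero]))
  have h2 : orderOf (α ^ k) = p := by
    rw [orderOf_pow_of_dvd hk0.ne' (by rw [hk]; exact Dvd.intro_left _ rfl), hk, Nat.mul_div_cancel _ hk0]
  obtain ⟨g, hg⟩ := h p hp hp2 (α ^ k) h2
  have h3 : MulAut.conj g = 1 := conj_eq_one g (by
    rw [← hg, h2]
    exact hc.coprime_dvd_left (by rw [hk]; exact Dvd.intro _ rfl))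
  rw [← hg] at h3
  rw [h3, orderOf_one] at h2
  exact hp.one_lt.ne h2

/-- **Groups of Lie type of characteristic two.** -/
theorem eq_one_lie_two {K : Type*} [Group K] [Finite K] [IsSimpleGroup K] (h : IsLieTypeChar 2 K) (α : MulAut K)
    (hc : (orderOf α).Coprime (Nat.card K)) (ho : OddC α) : α = 1 :=
  SplitRes.eq_one_two (Omega.ML.LieRow.hasSplit_of_lie h) α hc ho

theorem triv_lie_two {K : Type*} [Group K] [Finite K] [IsSimpleGroup K] (h : IsLieTypeChar 2 K) : Triv K :=
  fun _ α hc ho => eq_one_lie_two h α hc ho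

/-- **Alternating groups.** -/
theorem triv_alt {K : Type*} [Group K] [Finite K] [IsSimpleGroup K] (hna : ¬ IsMulCommutative K)
    (h : IsAlternating K) : Triv K := by
  obtain ⟨n, hn, ⟨e⟩⟩ := h
  by_cases hn6 : n = 6
  · subst hn6
    let i1 : Fintype (GaloisField 3 2) := Fintype.ofFinite _
    have hc : Fintype.card (GaloisField 3 2) = 9 := by
      rw [← Nat.card_eq_fintype_card, GaloisField.card 3 2 (by norm_num)]; norm_num
    obtain ⟨f⟩ := Cfsg.Agent.S0254.result hc
    refine LieTriv.triv_odd (p := 3) (by norm_num) (Or.inl ⟨GaloisField 3 2, inferInstance, inferInstance,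
      inferInstance, 2, le_rfl, fun _ => (by rw [hc]; try norm_num), ⟨e.trans f.symm⟩⟩)
  · exact fun _ α hc _ => eq_one_of_oddInn hna (OddInn.congr e (H505.OddInn.oddInn_alt hn hn6)) α hc

/-- **The known simple groups.** -/
theorem triv_of_known {K : Type*} [Group K] [Finite K] [IsSimpleGroup K] (hna : ¬ IsMulCommutative K)
    (h : IsKnownSimple' K) : Triv K := by
  rcases OddHalf.Known.classify hna h with h | ⟨p, -, hp2, h⟩ | (h | h) | h
  · exact triv_alt hna h
  · exact LieTriv.triv_odd hp2 h
  · exact triv_lie_two h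
  · exact fun _ α hc _ => eq_one_of_oddInn hna (H505.OddInn.oddInn_tits h) α hc
  · exact fun _ α hc _ => eq_one_of_oddInn hna (H505.OddInn.oddInn_sporadic h) α hc

end Cfsg.Agent.H519.KnownTriv
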