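import Cfsg.Agent.CpAut.Psl
import Cfsg.Agent.H519.CopRed
import Mathlib.NumberTheory.LegendreSymbol.QuadraticChar.Basic

/-!
# Coprime automorphisms of `PSL₂(F)`, `F` of odd order, with commutators of odd order

* `exists_conj'` : a coprime automorphism of `PSL₂(F)` is conjugate to a field automorphism `fld σ`;
* `exists_two` : for `σ ≠ 1` of odd order there is a `g` such that `g⁻¹ g^σ` is an involution of `PSL₂(F)`;
* `eq_one` : a coprime automorphism with commutators of odd order is trivial.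
-/

set_option autoImplicit false
set_option linter.unusedSectionVars false

namespace Cfsg.Agent.H519.PslTwo

open Matrix Cfsg
open Cfsg.Agent.ClassicalGeometry.AutPSL.Root
open Cfsg.Agent.ClassicalGeometry.AutPSL.Auto
open Cfsg.Agent.ClassicalGeometry.AutPSL.Main
open Cfsg.Agent.CpAut.Descent Cfsg.Agent.CpAut.Psl
open Cfsg.Agent.H519.CopRed

theorem OddC.conj {G : Type*} [Group G] {α : MulAut G} (h : OddC α) (β : MulAut G) : OddC (β⁻¹ * α * β) := by
  intro g
  have h1 : g⁻¹ * (β⁻¹ * α * β) g = β⁻¹ ((β g)⁻¹ * α (β g)) := by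
    rw [map_mul, map_inv, MulAut.inv_apply_self]
    rfl
  rw [h1, MulEquiv.orderOf_eq]
  exact h (β g)

theorem eq_one_of_odd {G : Type*} [Group G] {x : G} (h : Odd (orderOf x)) (h2 : x ^ 2 = 1) : x = 1 := by
  rw [← orderOf_eq_one_iff]
  exact Nat.eq_one_of_dvd_coprimes (Nat.coprime_two_right.2 h) dvd_rfl (orderOf_dvd_of_pow_eq_one h2)

section Field

variable {F : Type*} [Field F] {σ : F ≃+* F}

theorem neg_pow_apply {b : F} (h : σ b = -b) (n : ℕ) : (σ ^ n) b = (-1) ^ n * b := by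
  induction n with
  | zero => simp
  | succ n ih =>
    rw [pow_succ', RingAut.mul_apply, ih, map_mul, map_pow, map_neg, map_one, h, pow_succ]
    ring

/-- `b ↦ b + σ b` is injective for `σ` of odd order -/
theorem eq_zero_of_neg (h2 : (2 : F) ≠ 0) (ho : Odd (orderOf σ)) {b : F} (h : σ b = -b) : b = 0 := by
  have h1 := neg_pow_apply h (orderOf σ)
  rw [pow_orderOf_eq_one, ho.neg_one_pow] at h1
  change b = -1 * b at h1
  have h3 : (2 : F) * b = 0 := by linear_combination h1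
  exact (mul_eq_zero.1 h3).resolve_left h2

theorem exists_add [Finite F] (h2 : (2 : F) ≠ 0) (ho : Odd (orderOf σ)) (z : F) : ∃ b, b + σ b = z := by
  let f : F →+ F := AddMonoidHom.id F + (σ : F →+ F)
  have hf : Function.Injective f := by
    rw [injective_iff_map_eq_zero]
    intro b hb
    apply eq_zero_of_neg h2 ho
    change b + σ b = 0 at hb
    linear_combination hb
  obtain ⟨b, hb⟩ := (Finite.injective_iff_surjective.1 hf) z
  exact ⟨b, hb⟩

/-- every element is a fixed element times a square -/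
theorem exists_mul_sq [Fintype F] (h2 : (2 : F) ≠ 0) (ho : Odd (orderOf σ)) {d : F} (hd : d ≠ 0) :
    ∃ v y : F, σ v = v ∧ v ≠ 0 ∧ y ≠ 0 ∧ v * d = y ^ 2 := by
  classical
  by_cases hs : IsSquare d
  · obtain ⟨y, hy⟩ := hs
    refine ⟨1, y, map_one σ, one_ne_zero, ?_, by rw [one_mul, hy, pow_two]⟩
    rintro rfl
    rw [zero_mul] at hy
    exact hd hy
  · have hchar : ringChar (fixf σ) ≠ 2 := by
      intro h
      apply h2
      have h3 : ((2 : ℕ) : fixf σ) = 0 := by rw [← h]; exact ringChar.Nat.cast_ringChar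
      have h4 := congrArg (fixf σ).subtype h3
      rw [map_zero, map_natCast] at h4
      exact_mod_cast h4
    obtain ⟨v, hv⟩ := FiniteField.exists_nonsquare hchar
    have hvF : ¬ IsSquare (v : F) := by
      rintro ⟨y, hy⟩
      have h3 : σ y * σ y = y * y := by rw [← map_mul, ← hy]; exact v.2
      rcases mul_self_eq_mul_self_iff.1 h3 with h4 | h4
      · exact hv ⟨⟨y, h4⟩, Subtype.ext hy⟩
      · have h5 := eq_zero_of_neg h2 ho h4
        rw [h5, mul_zero] at hy
        apply hv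
        rw [show v = 0 from Subtype.ext hy]
        exact ⟨0, by rw [mul_zero]⟩
    have hv0 : (v : F) ≠ 0 := fun h => hvF (by rw [h]; exact ⟨0, by rw [mul_zero]⟩)
    have h5 : quadraticChar F ((v : F) * d) = 1 := by
      rw [map_mul, quadraticChar_neg_one_iff_not_isSquare.2 hvF, quadraticChar_neg_one_iff_not_isSquare.2 hs]
      norm_num
    obtain ⟨y, hy⟩ := (quadraticChar_one_iff_isSquare (mul_ne_zero hv0 hd)).1 h5
    refine ⟨v, y, v.2, hv0, ?_, by rw [hy, pow_two]⟩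
    rintro rfl
    rw [zero_mul] at hy
    exact mul_ne_zero hv0 hd hy

end Field

section Two

variable {F : Type*} [Field F]

/-- a matrix of trace zero in `SL₂` is an involution modulo the centre -/
theorem pr_sq {m : Matrix.SpecialLinearGroup (Fin 2) F} (h : (m : Matrix (Fin 2) (Fin 2) F) 0 0 + (m : Matrix (Fin 2) (Fin 2) F) 1 1 = 0) :
    (pr m) ^ 2 = 1 := by
  rw [← map_pow]
  apply (QuotientGroup.eq_one_iff _).2
  rw [Matrix.SpecialLinearGroup.mem_center_iff]
  refine ⟨-1, by simp, ?_⟩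
  have hdet := m.2
  rw [det_fin_two] at hdet
  have h11 : (m : Matrix (Fin 2) (Fin 2) F) 1 1 = - (m : Matrix (Fin 2) (Fin 2) F) 0 0 := by linear_combination h
  rw [Matrix.SpecialLinearGroup.coe_pow, pow_two]
  ext i j
  rw [mul_apply, Fin.sum_univ_two]
  fin_cases i <;> fin_cases j
  · simp only [Fin.zero_eta, scalar_apply, diagonal_apply_eq]
    rw [h11] at hdet
    linear_combination hdet
  · simp only [Fin.zero_eta, Fin.mk_one, scalar_apply]
    rw [diagonal_apply_ne _ (by decide), h11]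
    ring
  · simp only [Fin.zero_eta, Fin.mk_one, scalar_apply]
    rw [diagonal_apply_ne _ (by decide), h11]
    ring
  · simp only [Fin.mk_one, scalar_apply, diagonal_apply_eq]
    rw [h11] at hdet ⊢
    linear_combination hdet

theorem pr_ne_one (h2 : (2 : F) ≠ 0) {m : Matrix.SpecialLinearGroup (Fin 2) F}
    (h : (m : Matrix (Fin 2) (Fin 2) F) 0 0 + (m : Matrix (Fin 2) (Fin 2) F) 1 1 = 0) : pr m ≠ 1 := by
  intro h1
  have h3 := (QuotientGroup.eq_one_iff _).1 h1
  rw [Matrix.SpecialLinearGroup.mem_center_iff] at h3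
  obtain ⟨r, hr, hm⟩ := h3
  rw [← hm] at h
  simp only [scalar_apply, diagonal_apply_eq] at h
  have h4 : (2 : F) * r = 0 := by linear_combination h
  have h5 : r = 0 := (mul_eq_zero.1 h4).resolve_left h2
  rw [h5, Fintype.card_fin, zero_pow (by norm_num)] at hr
  exact zero_ne_one hr

theorem tr_inv_mul (g h : Matrix.SpecialLinearGroup (Fin 2) F) :
    ((g⁻¹ * h : Matrix.SpecialLinearGroup (Fin 2) F) : Matrix (Fin 2) (Fin 2) F) 0 0 +
        ((g⁻¹ * h : Matrix.SpecialLinearGroup (Fin 2) F) : Matrix (Fin 2) (Fin 2) F) 1 1 =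
      (g : Matrix (Fin 2) (Fin 2) F) 1 1 * (h : Matrix (Fin 2) (Fin 2) F) 0 0 -
      (g : Matrix (Fin 2) (Fin 2) F) 0 1 * (h : Matrix (Fin 2) (Fin 2) F) 1 0 -
      (g : Matrix (Fin 2) (Fin 2) F) 1 0 * (h : Matrix (Fin 2) (Fin 2) F) 0 1 +
      (g : Matrix (Fin 2) (Fin 2) F) 0 0 * (h : Matrix (Fin 2) (Fin 2) F) 1 1 := by
  rw [Matrix.SpecialLinearGroup.coe_mul, Matrix.SpecialLinearGroup.coe_inv, adjugate_fin_two, mul_apply, mul_apply,
      Fin.sum_univ_two, Fin.sum_univ_two]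
  simp only [of_apply, cons_val', cons_val_zero, cons_val_one, cons_val_fin_one]
  ring

/-- **an involution `g⁻¹ g^σ`** -/
theorem exists_two [Fintype F] (h2 : (2 : F) ≠ 0) {σ : F ≃+* F} (ho : Odd (orderOf σ)) (hσ : σ ≠ 1) :
    ∃ g : Matrix.SpecialLinearGroup (Fin 2) F,
      ((g⁻¹ * fld σ g : Matrix.SpecialLinearGroup (Fin 2) F) : Matrix (Fin 2) (Fin 2) F) 0 0 +
        ((g⁻¹ * fld σ g : Matrix.SpecialLinearGroup (Fin 2) F) : Matrix (Fin 2) (Fin 2) F) 1 1 = 0 := by
  obtain ⟨x, hx⟩ : ∃ x, σ x ≠ x := by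
    by_contra hcon
    push Not at hcon
    exact hσ (RingEquiv.ext hcon)
  obtain ⟨b, hb⟩ := exists_add h2 ho (2 * (x * σ x))
  have hd : x ^ 2 - b ≠ 0 := by
    intro h
    have hb1 : b = x ^ 2 := by linear_combination -h
    rw [hb1, map_pow] at hb
    have h3 : (x - σ x) ^ 2 = 0 := by linear_combination hb
    have h4 := pow_eq_zero_iff (two_ne_zero) |>.1 h3
    exact hx (by linear_combination -h4)
  obtain ⟨v, y, hv, hv0, hy0, hvy⟩ := exists_mul_sq h2 ho hd
  have hσy : σ y ≠ 0 := fun h => hy0 ((map_eq_zero_iff σ σ.injective).1 h)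
  have hdet : (!![x / y, b / y; v / y, v * x / y] : Matrix (Fin 2) (Fin 2) F).det = 1 := by
    rw [det_fin_two_of]
    field_simp
    linear_combination hvy
  obtain ⟨g, hg⟩ : ∃ g : Matrix.SpecialLinearGroup (Fin 2) F,
      (g : Matrix (Fin 2) (Fin 2) F) = !![x / y, b / y; v / y, v * x / y] := ⟨⟨_, hdet⟩, rfl⟩
  refine ⟨g, ?_⟩
  rw [tr_inv_mul, coe_fld_apply, coe_fld_apply, coe_fld_apply, coe_fld_apply, hg]
  change (v * x / y) * σ (x / y) - (b / y) * σ (v / y) - (v / y) * σ (b / y) + (x / y) * σ (v * x / y) = 0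
  rw [map_div₀, map_div₀, map_div₀, map_div₀, map_mul, hv]
  field_simp
  linear_combination -v * hb

end Two

section Main

variable {F : Type*} [Field F] [Fintype F]

theorem even_card (h2 : (2 : F) ≠ 0) : 2 ∣ Nat.card (Matrix.ProjectiveSpecialLinearGroup (Fin 2) F) := by
  let w : Matrix.SpecialLinearGroup (Fin 2) F := ⟨!![0, 1; -1, 0], by rw [det_fin_two_of]; ring⟩
  have hw : (w : Matrix (Fin 2) (Fin 2) F) 0 0 + (w : Matrix (Fin 2) (Fin 2) F) 1 1 = 0 := by
    change (0 : F) + 0 = 0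
    rw [add_zero]
  have hfin : Finite (Matrix.ProjectiveSpecialLinearGroup (Fin 2) F) := Quotient.finite _
  have h1 : orderOf (pr w) = 2 := orderOf_eq_prime (pr_sq hw) (pr_ne_one h2 hw)
  have h3 := orderOf_dvd_natCard (pr w)
  exact (dvd_of_eq h1.symm).trans h3

/-- the square of a linear automorphism of `PSL₂(F)` is inner -/
theorem cj_sq (A : GL (Fin 2) F) : ∃ e : Matrix.SpecialLinearGroup (Fin 2) F,
    (lift (cj A)) ^ 2 = MulAut.conj (pr e) := by
  have hdA : (A : Matrix (Fin 2) (Fin 2) F).det ≠ 0 := by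
    have h1 : IsUnit (A : Matrix (Fin 2) (Fin 2) F) := A.isUnit
    rw [Matrix.isUnit_iff_isUnit_det] at h1
    exact h1.ne_zero
  let c : Fˣ := Units.mk0 _ hdA
  have hB : (((scg (ι := Fin 2) c)⁻¹ * A ^ 2 : GL (Fin 2) F) : Matrix (Fin 2) (Fin 2) F).det = 1 := by
    have h1 : ((scg (ι := Fin 2) c)⁻¹ * A ^ 2 : GL (Fin 2) F) = scg (c⁻¹) * A ^ 2 := by
      congr 1
    rw [h1, Units.val_mul, det_mul, Units.val_pow_eq_pow_val, det_pow]
    have h3 : ((scg (ι := Fin 2) c⁻¹ : GL (Fin 2) F) : Matrix (Fin 2) (Fin 2) F) =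
        scalar (Fin 2) (((c⁻¹ : Fˣ) : F)) := rfl
    rw [h3, scalar_apply, det_diagonal, Fin.prod_univ_two]
    have h4 : ((c⁻¹ : Fˣ) : F) * (A : Matrix (Fin 2) (Fin 2) F).det = 1 := by
      have h5 : (c : F) = (A : Matrix (Fin 2) (Fin 2) F).det := rfl
      rw [← h5, Units.inv_mul]
    calc ((c⁻¹ : Fˣ) : F) * ((c⁻¹ : Fˣ) : F) * (A : Matrix (Fin 2) (Fin 2) F).det ^ 2
        = (((c⁻¹ : Fˣ) : F) * (A : Matrix (Fin 2) (Fin 2) F).det) ^ 2 := by ring
      _ = 1 := by rw [h4, one_pow]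
  refine ⟨⟨_, hB⟩, ?_⟩
  have h3 : cj (A ^ 2) = cj ((scg (ι := Fin 2) c)⁻¹ * A ^ 2) := by
    rw [map_mul, map_inv, cj_scg, inv_one, one_mul]
  rw [← map_pow, ← map_pow, h3]
  apply MulEquiv.ext
  intro x
  obtain ⟨x, rfl⟩ := pr_surjective x
  set b : Matrix.SpecialLinearGroup (Fin 2) F := ⟨_, hB⟩ with hb
  set B : GL (Fin 2) F := (scg (ι := Fin 2) c)⁻¹ * A ^ 2 with hBd
  have hbB : (b : Matrix (Fin 2) (Fin 2) F) = B := rfl
  have h6 : cj B x = b * x * b⁻¹ := by
    apply Subtype.ext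
    rw [coe_cj, Matrix.SpecialLinearGroup.coe_mul, Matrix.SpecialLinearGroup.coe_mul, hbB]
    congr 1
    have h4 : ((B⁻¹ : GL (Fin 2) F) : Matrix (Fin 2) (Fin 2) F) * (B : Matrix (Fin 2) (Fin 2) F) = 1 := by
      rw [← Units.val_mul, inv_mul_cancel, Units.val_one]
    have h5 : (B : Matrix (Fin 2) (Fin 2) F) *
        ((b⁻¹ : Matrix.SpecialLinearGroup (Fin 2) F) : Matrix (Fin 2) (Fin 2) F) = 1 := by
      rw [← hbB, ← Matrix.SpecialLinearGroup.coe_mul, mul_inv_cancel, Matrix.SpecialLinearGroup.coe_one]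
    exact left_inv_eq_right_inv h4 h5
  rw [lift_pr, h6, map_mul, map_mul, map_inv]
  rfl

/-- a linear automorphism of order prime to the order of the group is trivial -/
theorem lin_eq_one (h2 : (2 : F) ≠ 0) {A : GL (Fin 2) F} {n : ℕ}
    (hn : (lift (cj A)) ^ n = 1) (hc : n.Coprime (Nat.card (Matrix.ProjectiveSpecialLinearGroup (Fin 2) F))) :
    lift (cj A) = 1 := by
  obtain ⟨e, he⟩ := cj_sq A
  have hfin : Finite (Matrix.ProjectiveSpecialLinearGroup (Fin 2) F) := Quotient.finite _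
  -- the inner automorphism has order prime to itself
  have h3 : (MulAut.conj (pr e)) ^ n = 1 := by rw [← he, ← pow_mul, mul_comm, pow_mul, hn, one_pow]
  have h4 : orderOf (MulAut.conj (pr e)) = 1 := by
    apply Nat.eq_one_of_dvd_coprimes hc (orderOf_dvd_of_pow_eq_one h3)
    exact (orderOf_map_dvd _ _).trans (orderOf_dvd_natCard (pr e))
  rw [orderOf_eq_one_iff, ← he] at h4
  -- the order divides `2` and `n`
  have h5 : orderOf (lift (cj A)) = 1 := by
    refine Nat.eq_one_of_dvd_coprimes (hc.coprime_dvd_right (even_card h2)) (orderOf_dvd_of_pow_eq_one hn)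
      (orderOf_dvd_of_pow_eq_one h4)
  exact orderOf_eq_one_iff.1 h5

/-- **conjugation to a field automorphism** -/
theorem exists_conj' {ℓ : ℕ} {A : GL (Fin 2) F} {σ : F ≃+* F} (hord : orderOf σ = ℓ)
    (h : (lift (cj A * fld σ)) ^ ℓ = 1) : ∃ B : GL (Fin 2) F,
      (cj A * fld σ : MulAut (Matrix.SpecialLinearGroup (Fin 2) F)) = cj B * fld σ * (cj B)⁻¹ := by
  have hℓ : 0 < ℓ := by
    rw [← hord]
    have : Finite (F ≃+* F) := Finite.of_injective (fun e : F ≃+* F => (e : F → F)) DFunLike.coe_injective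
    exact orderOf_pos σ
  obtain ⟨D, hD, hD'⟩ := exists_pow A σ ℓ
  rw [← map_pow, hD] at h
  have h1 : lift (cj D * fld (σ ^ ℓ)) = lift (fld (1 : F ≃+* F)) := by rw [h, map_one, map_one]
  obtain ⟨⟨r, hr⟩, h2⟩ := injective_aux h1
  have hr0 := scalar_ne_zero hr
  have hscal : ∀ v, (perm A σ ^ ℓ) v = r • v := by
    intro v
    rw [hD', perm_apply, scalar_apply_eq hr, h2]
    rfl
  obtain ⟨c, hc⟩ := exists_scale (semi_perm A σ) hord hℓ hr0 hscal
    ⟨fun _ => 1, fun h => one_ne_zero (congrFun h 0)⟩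
  rw [scal_mul_perm] at hc
  obtain ⟨B, hB⟩ := perm_conj hord hℓ hc
  refine ⟨B, ?_⟩
  have h3 : A = (scg c)⁻¹ * B * (fgl σ B)⁻¹ := by
    rw [eq_mul_inv_iff_mul_eq, eq_inv_mul_iff_mul_eq, ← mul_assoc, hB]
  have h4 : (cj A : MulAut (Matrix.SpecialLinearGroup (Fin 2) F)) = cj B * (cj (fgl σ B))⁻¹ := by
    rw [h3, map_mul, map_mul, map_inv, map_inv, cj_scg, inv_one, one_mul]
  have h5 : fld σ * (cj B)⁻¹ = (cj (fgl σ B))⁻¹ * (fld σ : MulAut (Matrix.SpecialLinearGroup (Fin 2) F)) := by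
    rw [eq_inv_mul_iff_mul_eq, ← mul_assoc, ← fld_mul_cj, mul_inv_cancel_right]
  rw [h4, mul_assoc, mul_assoc, h5]

/-- **`PSL₂(F)`** -/
theorem eq_one (h2 : (2 : F) ≠ 0)
    (α : MulAut (Matrix.ProjectiveSpecialLinearGroup (Fin 2) F))
    (hc : (orderOf α).Coprime (Nat.card (Matrix.ProjectiveSpecialLinearGroup (Fin 2) F))) (ho : OddC α) : α = 1 := by
  have hodd : Odd (orderOf α) := Nat.coprime_two_right.1 (hc.coprime_dvd_right (even_card h2))
  obtain ⟨A, σ, hα⟩ := exists_of_odd le_rfl hodd (pow_orderOf_eq_one α)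
  -- the order of `σ` divides that of `α`
  have hσn : σ ^ orderOf α = 1 := by
    obtain ⟨D, hD, -⟩ := exists_pow A σ (orderOf α)
    have h1 : lift (cj D * fld (σ ^ orderOf α)) = lift (fld (1 : F ≃+* F)) := by
      rw [← hD, map_pow, ← hα, pow_orderOf_eq_one, map_one, map_one]
    exact (injective_aux h1).2
  have hσo : Odd (orderOf σ) := Odd.of_dvd_nat hodd (orderOf_dvd_of_pow_eq_one hσn)
  have hk : α ^ orderOf σ = 1 := by
    obtain ⟨D, hD, -⟩ := exists_pow A σ (orderOf σ)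
    rw [pow_orderOf_eq_one, map_one, mul_one] at hD
    have h1 : α ^ orderOf σ = lift (cj D) := by rw [hα, ← map_pow, hD]
    rw [h1]
    refine lin_eq_one h2 (n := orderOf α) ?_ hc
    rw [← h1, ← pow_mul, mul_comm, pow_mul, pow_orderOf_eq_one, one_pow]
  by_contra hne
  have hσ1 : σ ≠ 1 := by
    rintro rfl
    apply hne
    rwa [orderOf_one, pow_one] at hk
  obtain ⟨B, hB⟩ := exists_conj' (A := A) (σ := σ) rfl (by rw [← hα]; exact hk)
  have h3 : (lift (cj B))⁻¹ * α * lift (cj B) = lift (fld σ) := by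
    rw [hα, hB, map_mul, map_mul, map_inv]
    group
  have ho' := OddC.conj ho (lift (cj B))
  rw [h3] at ho'
  obtain ⟨g, hg⟩ := exists_two h2 hσo hσ1
  have h4 : (pr g)⁻¹ * lift (fld σ) (pr g) = pr (g⁻¹ * fld σ g) := by
    rw [lift_pr, map_mul, map_inv]
  have h5 := ho' (pr g)
  rw [h4] at h5
  exact pr_ne_one h2 hg (eq_one_of_odd h5 (pr_sq hg))

end Main

end Cfsg.Agent.H519.PslTwo
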