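import Cfsg.Agent.H519.Tr
import Cfsg.Agent.H519.Glaub
import Cfsg.Agent.H519.SplitRes
import Cfsg.Agent.FixOdd.TwOf
import Cfsg.Agent.FixBN.RankOneRee

/-!
# Coprime automorphisms with commutators of odd order: the small Ree groups
-/

set_option autoImplicit false

namespace Cfsg.Agent.H519.ReeRes

open Cfsg Cfsg.Agent.LieRecognition.ReeAbs Cfsg.Agent.LieRecognition.ReeSylowThree Cfsg.Agent.FixBN.ReeSplit
open Cfsg.Agent.FixBN Cfsg.Agent.FixBN.RankOneRee Cfsg.Agent.H519.CopRed Cfsg.Agent.Tits.Core Cfsg.Agent.Tits.OfBN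
open Cfsg.Agent.LieRecognition

section Grp

variable {K : Type*} [Field K] [Fintype K] {G : Type*} [Group G] {m : ℕ} {U : K → K → K → G} {h : Kˣ → G} {n : G}

omit [Fintype K] in
theorem cop_fix {β : MulAut G} {N : ℕ} (hN : β ^ N = 1) (hc3 : Nat.Coprime 3 N) {g d : G} (h1 : β g = g * d)
    (h2 : β d = d) (h3 : d * d * d = 1) : d = 1 := by
  have h4 : ∀ k : ℕ, (β ^ k) g = g * d ^ k := by
    intro k
    induction k with
    | zero => rw [pow_zero, pow_zero, mul_one]; rfl
    | succ k ih =>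
      rw [pow_succ', MulAut.mul_apply, ih, map_mul, map_pow, h1, h2, pow_succ', mul_assoc]
  have h5 := h4 N
  rw [hN, MulAut.one_apply] at h5
  have h6 : d ^ N = 1 := mul_eq_left.1 h5.symm
  have h7 : d ^ 3 = 1 := by rw [pow_succ, pow_two]; exact h3
  exact orderOf_eq_one_iff.1
    (Nat.eq_one_of_dvd_coprimes hc3 (orderOf_dvd_of_pow_eq_one h7) (orderOf_dvd_of_pow_eq_one h6))

/-- A good automorphism of order prime to three is trivial. -/
theorem good_eq_one (hm : 1 ≤ m) (hK : Fintype.card K = 3 ^ (2 * m + 1)) {D : Data m U h n}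
    (hcore : (bSub D).normalCore = ⊥) {β : MulAut G} (hβ : Good U h n (bSub D) β) {N : ℕ} (hl : β ^ N = 1)
    (hc3 : Nat.Coprime 3 N) :
    β = 1 := by
  classical
  have hchar := charP_three hK
  have h30 : (3 : K) = 0 := by exact_mod_cast CharP.cast_eq_zero K 3
  -- the action on `[U,U]`
  choose x y hxy using hβ.unip
  have eU : ∀ u v, β (U 0 u v) = U 0 (x 0 u v) (y 0 u v) := fun u v => hxy 0 u v
  -- on the centre
  have hz : ∀ v, x 0 0 v = 0 := by
    intro v
    have h1 : U 0 0 v * U 1 0 0 = U 1 0 0 * U 0 0 v := by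
      rw [D.U_mul, D.U_mul]; congr 1 <;> simp
    have h2 := congrArg β h1
    rw [map_mul, map_mul, hxy 0 0 v, hxy 1 0 0, D.U_mul, D.U_mul] at h2
    obtain ⟨-, -, h3⟩ := U_injective D h2
    rw [one_pow, zero_pow'] at h3
    linear_combination -h3
  have hxv : ∀ u v, x 0 u v = x 0 u 0 := by
    intro u v
    have h1 : U 0 u v = U 0 u 0 * U 0 0 v := by rw [U_split' D, zero_add]
    have h2 := congrArg β h1
    rw [map_mul, hxy, hxy, hxy, hz, D.U_mul] at h2
    obtain ⟨-, h3, -⟩ := U_injective D h2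
    rw [h3]; ring
  have hxadd : ∀ u u', x 0 (u + u') 0 = x 0 u 0 + x 0 u' 0 := by
    intro u u'
    have h1 : U 0 (u + u') 0 = U 0 u 0 * U 0 u' 0 := D.U_add u u'
    have h2 := congrArg β h1
    rw [map_mul, hxy, hxy, hxy, D.U_mul] at h2
    obtain ⟨-, h3, -⟩ := U_injective D h2
    rw [h3]; ring
  have hcomm : ∀ t a b t' a' b' : K, ∃ z, U t a b * U t' a' b' =
      U t' a' b' * U t a b * U 0 (t' * t ^ 3 ^ (m + 1) - t * t' ^ 3 ^ (m + 1)) z := by
    intro t a b t' a' b'
    rw [D.U_mul, D.U_mul]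
    refine ⟨(b + b' - a * t' - t ^ 2 * t' ^ (3 ^ (m + 1)) + t * t' * t' ^ (3 ^ (m + 1))) -
      (b' + b - a' * t - t' ^ 2 * t ^ (3 ^ (m + 1)) + t' * t * t ^ (3 ^ (m + 1))), ?_⟩
    rw [D.U_mul]
    congr 1
    · ring
    · rw [zero_pow']; ring
    · rw [zero_pow']; ring
  have he1 : ∀ u, x 0 u 0 = u := by
    intro u
    refine add_trivial hm hK (fun u => x 0 u 0) hxadd ?_ u
    intro t t'
    show x 0 _ 0 = _
    obtain ⟨z, hz1⟩ := hcomm t 0 0 t' 0 0
    obtain ⟨z', hz2⟩ := hcomm t (x t 0 0) (y t 0 0) t' (x t' 0 0) (y t' 0 0)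
    have h2 := congrArg β hz1
    rw [map_mul, map_mul, map_mul, hxy, hxy, hxy, hz2] at h2
    have h3 := mul_left_cancel h2
    obtain ⟨-, h4, -⟩ := U_injective D h3
    rw [← hxv _ z, ← h4]
  have hU0 : ∀ u v, β (U 0 u v) = U 0 u (y 0 u v) := fun u v => by rw [hxy, hxv, he1]
  have hZ : ∀ v, β (U 0 0 v) = U 0 0 v := by
    intro v
    have hc : ∀ a b c : K, U 1 a b * U 0 v c = U 0 v c * U 1 a b * U 0 0 v := by
      intro a b c
      rw [D.U_mul, D.U_mul, D.U_mul]
      congr 1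
      · ring
      · rw [zero_pow']; ring
      · rw [zero_pow']; ring
    have h2 := congrArg β (hc 0 0 0)
    rw [map_mul, map_mul, map_mul, hxy 1 0 0, hU0 v 0, hc] at h2
    exact (mul_left_cancel h2).symm
  have hfix0 : ∀ u, β (U 0 u 0) = U 0 u 0 := by
    intro u
    have h1 : β (U 0 u 0) = U 0 u 0 * U 0 0 (y 0 u 0) := by rw [hU0, U_split' D, zero_add]
    have h2 := cop_fix hl hc3 h1 (hZ _) ((cube_eq_one hK D _ _ _).2 rfl)
    rw [h1, h2, mul_one]
  have hfix1 : ∀ u v, β (U 0 u v) = U 0 u v := by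
    intro u v
    have h1 : U 0 u v = U 0 u 0 * U 0 0 v := by rw [U_split' D, zero_add]
    rw [h1, map_mul, hfix0, hZ]
  have hfix2 : ∀ t, β (U t 0 0) = U t 0 0 := by
    intro t
    have h1 : β (U t 0 0) = U t 0 0 * U 0 (x t 0 0) (y t 0 0) := by rw [hxy, U_split D]
    have h2 := cop_fix hl hc3 h1 (hfix1 _ _) ((cube_eq_one hK D _ _ _).2 rfl)
    rw [h1, h2, mul_one]
  have hfix : ∀ t u v, β (U t u v) = U t u v := by
    intro t u v
    rw [U_split D, map_mul, hfix1, hfix2]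
  -- all cosets are fixed
  have hcos : ∀ g, ∃ b ∈ bSub D, β g = g * b := by
    intro g
    obtain ⟨b, hb, hbn⟩ := hβ.refl
    rcases D.bruhat g with ⟨t, u, v, a, rfl⟩ | ⟨t, u, v, a, t', u', v', rfl⟩
    · exact ⟨1, one_mem _, by rw [map_mul, hfix, hβ.torus, mul_one]⟩
    · refine ⟨(U t' u' v')⁻¹ * b * U t' u' v', mul_mem (mul_mem (inv_mem ?_) hb) ?_, ?_⟩
      · exact uSub_le_bSub D ⟨t', u', v', rfl⟩
      · exact uSub_le_bSub D ⟨t', u', v', rfl⟩
      · rw [map_mul, map_mul, map_mul, hfix, hfix, hβ.torus, hbn]; group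
  ext g
  have h1 : g⁻¹ * β g ∈ (bSub D).normalCore := by
    intro c
    obtain ⟨b₁, hb₁, h1⟩ := hcos (g * c⁻¹)
    obtain ⟨b₂, hb₂, h2⟩ := hcos c⁻¹
    have h3 : c * (g⁻¹ * β g) * c⁻¹ = b₁ * b₂⁻¹ := by
      rw [map_mul, h2] at h1
      have h4 : β g * c⁻¹ = g * c⁻¹ * b₁ * b₂⁻¹ := by
        rw [eq_mul_inv_iff_mul_eq, ← h1, mul_assoc]
      calc c * (g⁻¹ * β g) * c⁻¹ = c * g⁻¹ * (β g * c⁻¹) := by group
        _ = _ := by rw [h4]; group
    rw [h3]
    exact mul_mem hb₁ (inv_mem hb₂)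
  rw [hcore, Subgroup.mem_bot] at h1
  rw [MulAut.one_apply]
  exact (inv_mul_eq_one.1 h1).symm


/-- The quotient of `G` by `B` acted on by an automorphism preserving `B`. -/
theorem exists_n (D : Data m U h n) {β : MulAut G}
    (hB : ∀ b, β b ∈ bSub D ↔ b ∈ bSub D) (hU : ∀ u ∈ uSub D, β u ∈ uSub D)
    (hc : (orderOf β).Coprime (Nat.card G)) : ∃ u ∈ uSub D, ∃ b ∈ bSub D, β (u * n) = u * n * b := by
  classical
  have hfin : Finite G := finite D
  let σ : Equiv.Perm (G ⧸ bSub D) := Quotient.congr β.toEquiv (by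
    intro a b
    show (QuotientGroup.leftRel (bSub D)) a b ↔ (QuotientGroup.leftRel (bSub D)) (β a) (β b)
    rw [QuotientGroup.leftRel_apply, QuotientGroup.leftRel_apply, ← map_inv, ← map_mul, hB])
  have hσ : ∀ g : G, σ (QuotientGroup.mk g) = QuotientGroup.mk (β g) := fun g => rfl
  have hσk : ∀ (k : ℕ) (g : G), (σ ^ k) (QuotientGroup.mk g) = QuotientGroup.mk ((β ^ k) g) := by
    intro k
    induction k with
    | zero => intro g; rfl
    | succ k ih => intro g; rw [pow_succ, Equiv.Perm.mul_apply, hσ, ih, pow_succ, MulAut.mul_apply]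
  have hσl : σ ^ orderOf β = 1 := by
    ext x
    obtain ⟨g, rfl⟩ := QuotientGroup.mk_surjective x
    rw [hσk, pow_orderOf_eq_one]; rfl
  have hx : ∃ u ∈ uSub D, σ (QuotientGroup.mk n) = u • (QuotientGroup.mk n : G ⧸ bSub D) := by
    rw [hσ]
    rcases D.bruhat (β n) with ⟨t, u, v, a, he⟩ | ⟨t, u, v, a, t', u', v', he⟩
    · exfalso
      apply n_not_mem_bSub D
      rw [← hB n, he]
      exact ⟨_, ⟨t, u, v, rfl⟩, a, rfl⟩
    · refine ⟨U t u v, ⟨t, u, v, rfl⟩, ?_⟩
      show (QuotientGroup.mk (β n) : G ⧸ bSub D) = QuotientGroup.mk (U t u v * n)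
      rw [he, eq_comm, QuotientGroup.eq]
      have e1 : (U t u v * n)⁻¹ * (U t u v * h a * n * U t' u' v') = (n * (h a * n)) * U t' u' v' := by
        rw [mul_inv_rev, D.n_inv]; group
      rw [e1, D.n_h', ← mul_assoc, D.n_n, one_mul]
      exact mul_mem (h_mem_bSub D _) (uSub_le_bSub D ⟨t', u', v', rfl⟩)
  obtain ⟨u, hu, he⟩ := Glaub.exists_fixed_in_orbit β σ (by
      intro g c
      obtain ⟨c, rfl⟩ := QuotientGroup.mk_surjective c
      show (QuotientGroup.mk (β (g * c)) : G ⧸ bSub D) = QuotientGroup.mk (β g * β c)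
      rw [map_mul]) (uSub D) (map_eq_of_le β hU)
    (hc.coprime_dvd_right (Subgroup.card_subgroup_dvd_card _)) hσl _ hx
  refine ⟨u, hu, (u * n)⁻¹ * β (u * n), ?_, by group⟩
  have h1 : (QuotientGroup.mk (β (u * n)) : G ⧸ bSub D) = QuotientGroup.mk (u * n) := he
  rw [eq_comm, QuotientGroup.eq] at h1
  exact h1

/-- The torus is centralised by the automorphism: the automorphism is trivial. -/
theorem eq_one_of_pres (hm : 1 ≤ m) (hK : Fintype.card K = 3 ^ (2 * m + 1)) (D : Data m U h n) {β : MulAut G}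
    (hB : ∀ b, β b ∈ bSub D ↔ b ∈ bSub D) (hn : ∃ b ∈ bSub D, β n = n * b)
    (hc : (orderOf β).Coprime (Nat.card G))
    (hC : ∀ t : G, t ≠ 1 → t * t = 1 → β t = t → ∀ x, x * t = t * x → β x = x) : β = 1 := by
  classical
  have hchar := charP_three hK
  have hp3 : Fact (Nat.Prime 3) := ⟨Nat.prime_three⟩
  have hfin : Finite G := finite D
  have S := split hK D
  obtain ⟨b, hb, hbn⟩ := id hn
  -- the torus
  have htor : ∀ a, ∃ a', β (h a) = h a' := by
    intro a
    obtain ⟨u', hu', a', he⟩ := (hB (h a)).2 (h_mem_bSub D a)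
    refine ⟨a', ?_⟩
    have h1 : β n = b⁻¹ * n := by
      have h2 : (β n)⁻¹ = β n := by rw [← map_inv, D.n_inv]
      rw [← h2, hbn, mul_inv_rev, D.n_inv]
    have h2 : b⁻¹ * (n * (u' * h a') * n) * b ∈ bSub D := by
      have h3 : b⁻¹ * (n * (u' * h a') * n) * b = β (h a⁻¹) := by
        have h4 : h a⁻¹ = n * h a * n := by rw [D.n_h, mul_assoc, D.n_n, mul_one]
        calc b⁻¹ * (n * (u' * h a') * n) * b = b⁻¹ * n * (u' * h a') * (n * b) := by simp only [mul_assoc]
          _ = β n * β (h a) * β n := by rw [he, ← hbn, ← h1]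
          _ = _ := by rw [h4, map_mul, map_mul]
      rw [h3, hB]
      exact h_mem_bSub D _
    have h3 : n * (u' * h a') * n ∈ bSub D := by
      have := mul_mem (mul_mem hb h2) (inv_mem hb)
      have e : b * (b⁻¹ * (n * (u' * h a') * n) * b) * b⁻¹ = n * (u' * h a') * n := by group
      rwa [e] at this
    have h4 : n * u' * n ∈ bSub D := by
      have e : n * (u' * h a') * n = n * u' * n * h a'⁻¹ := by
        calc n * (u' * h a') * n = n * u' * (h a' * n) := by simp only [mul_assoc]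
          _ = _ := by rw [D.n_h']; simp only [mul_assoc]
      rw [e] at h3
      have := mul_mem h3 (inv_mem (h_mem_bSub D a'⁻¹))
      rwa [mul_inv_cancel_right] at this
    rw [he, eq_one_of_conj D hu' h4, one_mul]
  -- the involution of the torus
  have hm1 : (-1 : Kˣ) ≠ 1 := by
    intro h0
    have h1 : (-1 : K) = 1 := congrArg Units.val h0
    have h30 : (3 : K) = 0 := by exact_mod_cast CharP.cast_eq_zero K 3
    have h2 : (1 : K) = 0 := by linear_combination h30 + h1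
    exact one_ne_zero h2
  have ht1 : h (-1) ≠ 1 := by
    intro h0
    rw [← D.h_one] at h0
    exact hm1 (h_inj D h0)
  have ht2 : h (-1) * h (-1) = 1 := by
    rw [← D.h_mul, neg_mul_neg, one_mul, D.h_one]
  have htf : β (h (-1)) = h (-1) := by
    obtain ⟨a', ha'⟩ := htor (-1)
    have h1 : h (a' * a') = h 1 := by
      rw [D.h_mul, ← ha', ← map_mul, ht2, map_one, D.h_one]
    have h2 := h_inj D h1
    have h3 : ((a' : K) - 1) * ((a' : K) + 1) = 0 := by
      have h4 : (a' : K) * a' = 1 := congrArg Units.val h2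
      linear_combination h4
    rcases mul_eq_zero.1 h3 with h4 | h4
    · exfalso
      have h5 : a' = 1 := Units.ext (sub_eq_zero.1 h4)
      rw [h5, D.h_one] at ha'
      apply ht1
      apply β.injective
      rw [ha', map_one]
    · have h5 : a' = -1 := Units.ext (eq_neg_of_add_eq_zero_left h4)
      rw [ha', h5]
  have hCt := hC _ ht1 ht2 htf
  have hh : ∀ a, β (h a) = h a := fun a => hCt _ (D.h_comm _ _)
  have huni : ∀ t u v, ∃ t' u' v', β (U t u v) = U t' u' v' := by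
    intro t u v
    have hx : U t u v ∈ uSub D := ⟨t, u, v, rfl⟩
    obtain ⟨k, hk⟩ := S.isP ⟨U t u v, hx⟩
    have hk' : (U t u v) ^ 3 ^ k = 1 := congrArg Subtype.val hk
    exact S.mem_of_pow (n := k) ((hB _).2 (uSub_le_bSub D hx)) (by rw [← map_pow, hk', map_one])
  choose F X Y hF using huni
  have hF0 : ∀ u v, F 0 u v = 0 := by
    intro u v
    have h1 := congrArg β ((cube_eq_one hK D 0 u v).2 rfl)
    rw [map_mul, map_mul, map_one, hF] at h1
    exact (cube_eq_one hK D _ _ _).1 h1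
  have hFt : ∀ t u v, F t u v = F t 0 0 := by
    intro t u v
    have h1 := congrArg β (U_split D t u v)
    rw [map_mul, hF, hF, hF, D.U_mul] at h1
    obtain ⟨h2, -, -⟩ := U_injective D h1
    rw [h2, hF0, add_zero]
  have hmul : ∀ (a : Kˣ) t, F ((a : K) ^ 3 ^ (m + 1) * t) 0 0 = (a : K) ^ 3 ^ (m + 1) * F t 0 0 := by
    intro a t
    have h1 := congrArg β (D.h_U a t 0 0)
    rw [map_mul, map_mul, hF, hF, hh, D.h_U] at h1
    obtain ⟨h2, -, -⟩ := U_injective D (mul_right_cancel h1)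
    exact (hFt _ _ _).symm.trans h2.symm
  have hone : F 1 0 0 ≠ 0 := by
    intro h0
    have h1 : β (U 1 0 0 * U 1 0 0 * U 1 0 0) = 1 := by
      rw [map_mul, map_mul, hF]
      exact (cube_eq_one hK D _ _ _).2 h0
    have h2 : U 1 0 0 * U 1 0 0 * U 1 0 0 = 1 := by
      apply β.injective
      rw [h1, map_one]
    exact one_ne_zero ((cube_eq_one hK D _ _ _).1 h2)
  have hroot : ∀ s : K, s ≠ 0 → ∃ a : Kˣ, (a : K) ^ 3 ^ (m + 1) = s := by
    intro s hs
    refine ⟨(Units.mk0 s hs) ^ 3 ^ m, ?_⟩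
    have h1 := congrArg Units.val (units_pow_card hK (Units.mk0 s hs))
    rw [Units.val_pow_eq_pow_val, Units.val_mk0] at h1
    rw [Units.val_pow_eq_pow_val, Units.val_mk0, ← pow_mul, ← pow_add, show m + (m + 1) = 2 * m + 1 by ring, h1]
  have hlin : ∀ t, F t 0 0 = F 1 0 0 * t := by
    intro t
    by_cases ht : t = 0
    · rw [ht, mul_zero, hF0]
    · obtain ⟨a, rfl⟩ := hroot t ht
      have h1 := hmul a 1
      rw [mul_one] at h1
      rw [h1, mul_comm]
  -- the factor is one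
  have hit : ∀ j : ℕ, ∃ u v, (β ^ j) (U 1 0 0) = U (F 1 0 0 ^ j) u v := by
    intro j
    induction j with
    | zero => exact ⟨0, 0, by rw [pow_zero, pow_zero]; rfl⟩
    | succ j ih =>
      obtain ⟨u, v, he⟩ := ih
      refine ⟨X (F 1 0 0 ^ j) u v, Y (F 1 0 0 ^ j) u v, ?_⟩
      rw [pow_succ', MulAut.mul_apply, he, hF, hFt, hlin, pow_succ']
  have hF1 : F 1 0 0 = 1 := by
    obtain ⟨u, v, he⟩ := hit (orderOf β)
    rw [pow_orderOf_eq_one, MulAut.one_apply] at he
    obtain ⟨h1, -, -⟩ := U_injective D he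
    have h2 : (Units.mk0 _ hone) ^ orderOf β = 1 := by
      apply Units.ext
      rw [Units.val_pow_eq_pow_val, Units.val_mk0, ← h1, Units.val_one]
    have h3 : Nat.card Kˣ ∣ Nat.card G := by
      have h4 : Nat.card (bSub D) ∣ Nat.card G := Subgroup.card_subgroup_dvd_card _
      rw [card_bSub] at h4
      rw [Nat.card_units, Nat.card_eq_fintype_card]
      exact (Dvd.intro_left _ rfl).trans h4
    have h4 : orderOf (Units.mk0 _ hone) = 1 :=
      Nat.eq_one_of_dvd_coprimes hc (orderOf_dvd_of_pow_eq_one h2) ((orderOf_dvd_natCard _).trans h3)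
    have h5 := orderOf_eq_one_iff.1 h4
    exact congrArg Units.val h5
  have hgood : Good U h n (bSub D) β := by
    refine ⟨hh, fun t u v => ⟨X t u v, Y t u v, ?_⟩, hn⟩
    rw [hF, hFt, hlin, hF1, one_mul]
  refine good_eq_one hm hK S.core hgood (pow_orderOf_eq_one β) ?_
  have h3 : 3 ∣ Nat.card G := by
    have h4 : Nat.card (bSub D) ∣ Nat.card G := Subgroup.card_subgroup_dvd_card _
    rw [card_bSub, hK] at h4
    refine (Dvd.dvd.mul_right ?_ _).trans h4
    rw [← pow_mul]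
    exact dvd_pow_self _ (by positivity)
  exact (hc.coprime_dvd_right h3).symm


omit [Fintype K] in
theorem fix_conj {α : MulAut G}
    (hC : ∀ t : G, t ≠ 1 → t * t = 1 → α t = t → ∀ x, x * t = t * x → α x = x) (g : G) :
    ∀ t : G, t ≠ 1 → t * t = 1 → ((MulAut.conj g)⁻¹ * α * MulAut.conj g) t = t → ∀ x, x * t = t * x →
      ((MulAut.conj g)⁻¹ * α * MulAut.conj g) x = x := by
  have hap : ∀ x, ((MulAut.conj g)⁻¹ * α * MulAut.conj g) x = g⁻¹ * α (g * x * g⁻¹) * g := by
    intro x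
    rw [MulAut.mul_apply, MulAut.mul_apply, MulAut.conj_apply, ← map_inv, MulAut.conj_apply, inv_inv]
  intro t ht1 ht2 htf x hx
  rw [hap] at htf ⊢
  have h1 := hC (g * t * g⁻¹)
    (fun h => ht1 (by
      have h2 : t = g⁻¹ * (g * t * g⁻¹) * g := by group
      rw [h2, h]; group))
    (by
      have h2 : g * t * g⁻¹ * (g * t * g⁻¹) = g * (t * t) * g⁻¹ := by group
      rw [h2, ht2]; group)
    (by
      have h2 : α (g * t * g⁻¹) = g * (g⁻¹ * α (g * t * g⁻¹) * g) * g⁻¹ := by group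
      rw [h2, htf]) (g * x * g⁻¹)
    (by
      have h2 : g * x * g⁻¹ * (g * t * g⁻¹) = g * (x * t) * g⁻¹ := by group
      rw [h2, hx]; group)
  rw [h1]
  group

theorem eq_one_of_data (hm : 1 ≤ m) (hK : Fintype.card K = 3 ^ (2 * m + 1)) (D : Data m U h n) {α : MulAut G}
    (hc : (orderOf α).Coprime (Nat.card G))
    (hC : ∀ t : G, t ≠ 1 → t * t = 1 → α t = t → ∀ x, x * t = t * x → α x = x) : α = 1 := by
  classical
  have hp3 : Fact (Nat.Prime 3) := ⟨Nat.prime_three⟩
  have hfin : Finite G := finite D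
  have S := split hK D
  have hN := normal_subgroupOf (bnPair D)
  obtain ⟨M, cs, hcs⟩ := S0320.result (bnPair D)
  obtain ⟨t, ht, hto⟩ := FixOdd.exists_tw S (Equiv.refl (bnPair D).S) cs hcs α
  have hI : Finite (bnPair D).S := OfBN.finite_I (Equiv.refl (bnPair D).S)
  have hth := thick (bnPair D) (Equiv.refl (bnPair D).S) cs hcs
  have hc' : (orderOf t.τ).Coprime (Nat.card G) := by rw [ht]; exact hc
  obtain ⟨x0, hx0⟩ := Bld.exists_fixed (S := OfBN.sys (Equiv.refl (bnPair D).S) cs hcs S) hth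
    (SplitRes.utrans _ cs hcs S) t hc'
  have hθ := t.θ_smul
  rw [ht] at hθ
  induction x0 using QuotientGroup.induction_on with
  | _ g =>
  have hap : ∀ (α : MulAut G) (g x : G), ((MulAut.conj g)⁻¹ * α * MulAut.conj g) x = g⁻¹ * α (g * x * g⁻¹) * g := by
    intro α g x
    rw [MulAut.mul_apply, MulAut.mul_apply, MulAut.conj_apply, ← map_inv, MulAut.conj_apply, inv_inv]
  -- the conjugate preserves `B`
  set β := (MulAut.conj g)⁻¹ * α * MulAut.conj g with hβ
  have hB1 : ∀ b ∈ bSub D, β b ∈ bSub D := by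
    intro b hb
    have h1 := hθ (g * b * g⁻¹) (QuotientGroup.mk g)
    have h2 : (g * b * g⁻¹) • (QuotientGroup.mk g : G ⧸ (bnPair D).B) = QuotientGroup.mk g := by
      rw [OfBN.smul_mk_eq]
      have h3 : g⁻¹ * (g * b * g⁻¹) * g = b := by group
      rw [h3]
      exact hb
    rw [h2, hx0, eq_comm, OfBN.smul_mk_eq] at h1
    rw [hβ, hap]
    exact h1
  have hB : ∀ b, β b ∈ bSub D ↔ b ∈ bSub D := by
    intro b
    refine ⟨fun hb => ?_, hB1 b⟩
    have h1 := map_eq_of_le β hB1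
    rw [← h1] at hb
    obtain ⟨c, hc, he⟩ := hb
    rwa [← β.injective he]
  have hU : ∀ u ∈ uSub D, β u ∈ uSub D := by
    intro u hx
    obtain ⟨k, hk⟩ := S.isP ⟨u, hx⟩
    have hk' : u ^ 3 ^ k = 1 := congrArg Subtype.val hk
    exact S.mem_of_pow (n := k) ((hB _).2 (uSub_le_bSub D hx)) (by rw [← map_pow, hk', map_one])
  have hoβ : orderOf β = orderOf α := by
    have h1 : β = MulAut.conj (MulAut.conj g)⁻¹ α := by rw [hβ, MulAut.conj_apply, inv_inv]
    rw [h1, MulEquiv.orderOf_eq]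
  obtain ⟨u, hu, b, hb, hub⟩ := exists_n D hB hU (by rw [hoβ]; exact hc)
  set γ := (MulAut.conj u)⁻¹ * β * MulAut.conj u with hγ
  have hoγ : orderOf γ = orderOf α := by
    have h1 : γ = MulAut.conj (MulAut.conj u)⁻¹ β := by rw [hγ, MulAut.conj_apply, inv_inv]
    rw [h1, MulEquiv.orderOf_eq, hoβ]
  have hu' := uSub_le_bSub D hu
  have hβu : β u ∈ bSub D := (hB u).2 hu'
  have hg1 : γ = 1 := by
    refine eq_one_of_pres hm hK D ?_ ?_ (by rw [hoγ]; exact hc) (fix_conj (fix_conj hC g) u)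
    · intro x
      rw [hγ, hap]
      have h1 : u⁻¹ * β (u * x * u⁻¹) * u ∈ bSub D ↔ β (u * x * u⁻¹) ∈ bSub D := by
        rw [Subgroup.mul_mem_cancel_right _ hu', Subgroup.mul_mem_cancel_left _ (inv_mem hu')]
      rw [h1, hB, Subgroup.mul_mem_cancel_right _ (inv_mem hu'), Subgroup.mul_mem_cancel_left _ hu']
    · refine ⟨b * (β u)⁻¹ * u, mul_mem (mul_mem hb (inv_mem hβu)) hu', ?_⟩
      rw [hγ, hap, map_mul, hub, map_inv]
      group
  have hβ1 : β = 1 := by
    have h1 : β = MulAut.conj u * γ * (MulAut.conj u)⁻¹ := by rw [hγ]; group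
    rw [h1, hg1]; group
  have h1 : α = MulAut.conj g * β * (MulAut.conj g)⁻¹ := by rw [hβ]; group
  rw [h1, hβ1]; group

end Grp

section Final

/-- The centraliser condition from the statement for the subgroups. -/
theorem fix_of {G : Type*} [Group G] [Finite G] (hcen : Subgroup.center G = ⊥)
    {L : Type*} [Group L] [Finite L] [IsSimpleGroup L] (heL : Even (Nat.card L)) {a : G}
    (e : ↥(Subgroup.centralizer ({a} : Set G)) ≃* Multiplicative (ZMod 2) × L)
    (hconj : ∀ g : G, g ≠ 1 → g * g = 1 → ∃ c, c * a * c⁻¹ = g)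
    (IH : ∀ H : Subgroup G, H ≠ ⊤ → Res H) {α : MulAut G} (hc : (orderOf α).Coprime (Nat.card G)) (ho : OddC α)
    (t : G) (ht1 : t ≠ 1) (ht2 : t * t = 1) (htf : α t = t) (x : G) (hx : x * t = t * x) : α x = x := by
  set C := Subgroup.centralizer ({t} : Set G) with hCd
  have hCtop : C ≠ ⊤ := by
    intro h0
    apply ht1
    have h1 : t ∈ Subgroup.center G := by
      rw [Subgroup.mem_center_iff]
      intro y
      have h2 : y ∈ C := by rw [h0]; trivial
      exact Subgroup.mem_centralizer_singleton_iff.1 h2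
    rwa [hcen] at h1
  have hinv : C.map α.toMonoidHom = C := by
    apply map_eq_of_le
    intro y hy
    rw [hCd, Subgroup.mem_centralizer_singleton_iff] at hy ⊢
    have h1 := congrArg α hy
    rwa [map_mul, map_mul, htf] at h1
  have hxC : x ∈ C := Subgroup.mem_centralizer_singleton_iff.2 hx
  obtain ⟨z, hz, hz'⟩ := Res.sub (IH C hCtop) hc ho hinv hxC
  -- the odd core is trivial
  obtain ⟨c, hc'⟩ := hconj t ht1 ht2
  have hmem : ∀ x, x ∈ C ↔ c⁻¹ * x * c ∈ Subgroup.centralizer ({a} : Set G) := by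
    intro x
    rw [Subgroup.mem_centralizer_singleton_iff, Subgroup.mem_centralizer_singleton_iff, ← hc']
    constructor
    · intro h1
      calc c⁻¹ * x * c * a = c⁻¹ * (x * (c * a * c⁻¹)) * c := by group
        _ = c⁻¹ * (c * a * c⁻¹ * x) * c := by rw [h1]
        _ = _ := by group
    · intro h1
      calc x * (c * a * c⁻¹) = c * (c⁻¹ * x * c * a) * c⁻¹ := by group
        _ = c * (a * (c⁻¹ * x * c)) * c⁻¹ := by rw [h1]
        _ = _ := by group
  let f : ↥C →* ↥(Subgroup.centralizer ({a} : Set G)) :=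
    { toFun := fun x => ⟨c⁻¹ * x * c, (hmem x).1 x.2⟩
      map_one' := Subtype.ext (by simp)
      map_mul' := fun x y => Subtype.ext (by
        show c⁻¹ * ((x : G) * y) * c = c⁻¹ * x * c * (c⁻¹ * y * c)
        group) }
  have hf : Function.Bijective f := by
    constructor
    · intro x y hxy
      have h1 : c⁻¹ * (x : G) * c = c⁻¹ * y * c := congrArg Subtype.val hxy
      exact Subtype.ext (mul_left_cancel (mul_right_cancel h1))
    · rintro ⟨y, hy⟩
      refine ⟨⟨c * y * c⁻¹, (hmem _).2 ?_⟩, Subtype.ext ?_⟩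
      · have : c⁻¹ * (c * y * c⁻¹) * c = y := by group
        rw [this]; exact hy
      · show c⁻¹ * (c * y * c⁻¹) * c = y
        group
  let E : ↥C ≃* Multiplicative (ZMod 2) × L := (MulEquiv.ofBijective f hf).trans e
  have h1 : pPrimeCore 2 (Multiplicative (ZMod 2) × L) = ⊥ :=
    odd_normal_prod heL _ (Lib.Cores.pPrimeCore_normal 2)
      (Nat.coprime_two_right.1 (Lib.Cores.pPrimeCore_coprime 2))
  have h2 : (pPrimeCore 2 ↥C).map E.toMonoidHom = ⊥ := by rw [Lib.Cores.map_equiv_pPrimeCore, h1]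
  have h3 : pPrimeCore 2 ↥C = ⊥ := (Subgroup.map_eq_bot_iff_of_injective _ E.injective).1 h2
  rw [h3] at hz
  have h4 : z = 1 := hz
  rw [h4, map_one] at hz'
  exact (inv_mul_eq_one.1 hz'.symm).symm

theorem triv_twistedG2 {K : Type*} [Field K] [Fintype K] {m : ℕ} (hm : 1 ≤ m)
    (hK : Fintype.card K = 3 ^ (2 * m + 1)) : Triv ↥(Cfsg.Lie.twistedG2 K (3 ^ m)) := by
  classical
  intro IH α hcop ho
  have hchar := charP_three hK
  obtain ⟨U, h, n, D⟩ := Cfsg.Agent.ChevalleyStructure.Ree.Data.exists_data hK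
  have hfin : Finite ↥(Cfsg.Lie.twistedG2 K (3 ^ m)) := finite D
  obtain ⟨hs, hc⟩ := Cfsg.Agent.S1073.result hm hK
  obtain ⟨a, haH, ha1, ha2⟩ := Cfsg.Agent.S1157.exists_involution hK
  obtain ⟨⟨e⟩, hS⟩ := Cfsg.Agent.S1152.result hK a haH ha1 ha2
  have hcd := ReeCent.centData ha1 ha2 e ReePSL.klein
  have hL : IsSimpleGroup (Matrix.ProjectiveSpecialLinearGroup (Fin 2) K) := by
    apply Matrix.ProjectiveSpecialLinearGroup.rank_two_simple
    rw [Nat.card_eq_fintype_card, hK]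
    have : 3 ^ 3 ≤ 3 ^ (2 * m + 1) := Nat.pow_le_pow_right (by norm_num) (by omega)
    omega
  exact eq_one_of_data hm hK D hcop (fix_of (BTheorem.center_eq_bot hc) (even_card_psl hK) e
    (fun g hg1 hg2 => ReeInv.isConj_involution hcd ReePSL.klein (Cfsg.Agent.S1116.result hK hm) hS hg1 hg2) IH hcop ho)

/-- **The small Ree groups.** -/
theorem triv_of_isoRee {G : Type*} [Group G] (h : Cfsg.Lie.IsoRee G) : Triv G := by
  obtain ⟨K, _, _, m, hm, hK, ⟨e⟩⟩ := h
  exact Triv.of_equiv e.symm (triv_twistedG2 hm hK)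

end Final

end Cfsg.Agent.H519.ReeRes
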