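import Cfsg.Agent.H519.PsuRes
import Cfsg.Agent.H519.PslTwo
import Cfsg.Agent.H519.LieRank
import Cfsg.Agent.H519.ReeRes

/-!
# Coprime automorphisms with commutators of odd order: groups of Lie type of odd characteristic
-/

set_option autoImplicit false

namespace Cfsg.Agent.H519.LieTriv

open Cfsg Cfsg.Agent.FixBN Cfsg.Agent.H519.CopRed Cfsg.Agent.H519.LieRank

/-- **Groups of Lie type of odd characteristic.** -/
theorem triv_odd {p : ℕ} (hp2 : p ≠ 2) {K : Type*} [Group K] [Finite K] [IsSimpleGroup K]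
    (hK : IsLieTypeChar p K) : Triv K := by
  rcases cases_odd hp2 hK with ⟨hp, P, U, hS, h2⟩ | ⟨F, i1, i2, i3, ⟨e⟩⟩ | ⟨F, i1, i2, i3, q, hF, ⟨e⟩⟩ | h
  · have : Fact p.Prime := ⟨hp⟩
    exact fun IH α hc ho => SplitRes.eq_one_rank hp2 hS h2 IH α hc ho
  · refine Triv.of_equiv e.symm fun _ α hc ho => ?_
    have h2 : (2 : F) ≠ 0 := by
      intro h2
      have h3 : CharP F 2 := CharTwo.of_one_ne_zero_of_two_eq_zero one_ne_zero h2
      exact hp2 (CharP.eq F i3 h3)
    exact PslTwo.eq_one h2 α hc ho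
  · refine Triv.of_equiv e.symm fun IH α hc ho => ?_
    have hp : Fact p.Prime := ⟨CharP.char_is_prime F p⟩
    have hs : IsSimpleGroup (PSU 3 F q) := e.symm.isSimpleGroup
    have hfin : Finite (PSU 3 F q) := Finite.of_equiv _ e.toEquiv
    obtain ⟨P, U, V, s, σ, _, h1, hS, Nd, hUF, ⟨N⟩⟩ := PsuNode.exists_uNode hF (hp.1.odd_of_ne_two hp2)
    exact PsuRes.eq_one_of_uNode h1 hS Nd hUF N IH α hc ho
  · exact ReeRes.triv_of_isoRee h

end Cfsg.Agent.H519.LieTriv
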