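import Cfsg.Agent.FixBN.WittNodeC

/-!
# `PSU₃(q)`, `q` odd: the split (B,N)-pair of rank one with its unitary node

`exists_uNode` (the proof of `WittNodeC.hasGoodSplit_PSU`, keeping the rank).
-/

set_option autoImplicit false

namespace Cfsg.Agent.H519.PsuNode

open Cfsg Cfsg.Agent.FixBN Cfsg.Agent.LieClassical.HermBasic Cfsg.Agent.LieClassical.HermGen
open Cfsg.Agent.ChevalleyStructure.CoxeterGeom Cfsg.Agent.Tits.Roots Cfsg.Agent.Nodes.TypeC
open Cfsg.Agent.Nodes.Comb Cfsg.Agent.Nodes.Reps Cfsg.Agent.Nodes.WittRoot Cfsg.Agent.Nodes.BNOf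
open Cfsg.Agent.Nodes.WittRGD Cfsg.Agent.Nodes.RGDLib Cfsg.Agent.Nodes.WittModel Cfsg.Agent.Nodes.WittU
open Cfsg.Agent.TitsThree Cfsg.Agent.TitsThree.Siegel Cfsg.Agent.TitsThree.SiegelGen
  Cfsg.Agent.TitsThree.WittFrame Cfsg.Agent.TitsThree.WBridge Cfsg.Agent.TitsThree.WittWeyl
  Cfsg.Agent.TitsThree.FrameCN Cfsg.Agent.TitsThree.KSideU Cfsg.Agent.TitsThree.KSideUDesc
open Cfsg.Agent.FixBN.WittNodeA Cfsg.Agent.FixBN.WittNodeB Cfsg.Agent.FixBN.WittNodeC
open Cfsg.Agent.FixBN.U3Model Cfsg.Agent.FixBN.UNode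

section Good

variable {F : Type} [Field F] {V : Type*} [AddCommGroup V] [Module F V] {H : HForm F V} {n : ℕ}
  {Fr : Frame H (Fin n)} {K : Type*} [Group K] {M : Model Fr K} (hA : Amb Fr M.I)
  {p0 : Fr.Adm} (hp0 : p0.c ≠ 0) {W : Type*} [Group W]
  {cs : CoxeterSystem (CoxeterMatrix.B n) W} {p : ℕ} (R : RGD cs (isCartan n) p (T M) (nw M hA p0) (X M))

include hp0 R in
/-- The last node: a unitary parametrisation of the admissible pairs. -/
theorem uAt {i : Fin n} (hi : ¬ (i : ℕ) + 1 < n) {E : Type} [Field E] {σ : E →+* E} [Inv2 σ]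
    (f : Pt σ → Fr.Adm) (hf : ∀ a b, f (a * b) = f a * f b) (hs : Function.Surjective f)
    (hc : ∀ a, (f a).c = 0 → a = 1)
    (hJw : ∀ a, a ≠ 1 → (H.ε⁻¹ * H.σ p0.c * (f a).c⁻¹) • (refl Fr p0 hp0 (f a)).w = (f (J a)).w)
    (hJc : ∀ a, a ≠ 1 → H.ε⁻¹ * (p0.c * H.σ p0.c) * (f a).c⁻¹ = (f (J a)).c) :
    ∃ x : Pt σ → K, (∀ a b, x (a * b) = x a * x b) ∧
    (∀ a, x a ∈ X M (sr i)) ∧ (∀ u ∈ X M (sr i), ∃ a, u = x a) ∧ (∀ a, x a = 1 → a = 1) ∧
    ∀ a, a ≠ 1 → (x (J a) * nw M hA p0 i)⁻¹ * (nw M hA p0 i * x a * nw M hA p0 i) ∈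
      RGD.B cs (isCartan n) (T M) (X M) := by
  refine ⟨fun a => M.Z (i, true) (f a), fun a b => ?_,
    fun a => (mem_X_last hi).2 ⟨_, rfl⟩, fun u hu => ?_, fun a ha => ?_, fun a ha => ?_⟩
  · show M.Z (i, true) (f (a * b)) = M.Z (i, true) (f a) * M.Z (i, true) (f b)
    rw [hf, Z_mul']
  · obtain ⟨q, rfl⟩ := (mem_X_last hi).1 hu
    obtain ⟨a, rfl⟩ := hs q
    exact ⟨a, rfl⟩
  · have h1 := Z_eq_one M ha
    exact hc a (by rw [h1]; rfl)
  · have hca : (f a).c ≠ 0 := fun h => ha (hc a h)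
    have h1 := inv_Z hA hp0 R hi hca
    have h3 : Jm Fr p0 hp0 (f a) = f (J a) := by
      apply Frame.Adm.ext
      · rw [Jm_w, hJw a ha]
      · rw [Jm_c Fr p0 hp0 _ hca, hJc a ha]
    rw [h3] at h1
    exact h1

end Good

section Unitary

variable {F : Type} [Field F] [Fintype F] {q : ℕ} (hF : Fintype.card F = q ^ 2) {p : ℕ} [Fact p.Prime]
  [CharP F p]

include hF in
/-- **The split (B,N)-pair of `PSU₃(q)`.** -/
theorem exists_uNode [IsSimpleGroup (PSU 3 F q)] (hp2 : Odd p) :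
    ∃ (P : Cfsg.BNPair (PSU 3 F q)) (U V : Subgroup (PSU 3 F q)) (s : PSU 3 F q) (σ : F →+* F) (_ : Inv2 σ),
      P.S = {s} ∧ Split P p U ∧ Schreier.BNSch.Node P U s V ∧ UF σ ∧ Nonempty (UNode P U s V σ) := by
  have hN : 3 ≤ 3 := le_rfl
  obtain ⟨W, d, hd, hW⟩ := exists_wframe_odd hF (N := 3) (m := 1) rfl
  have hfin : Finite (PSU 3 F q) := Quotient.finite _
  have h2 := two_ne_zero_of_odd (F := F) hp2
  obtain ⟨a0, ha0, hn⟩ := exists_norm_eq_ne hF (c := (-2 : F)) (by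
    rw [neg_pow_q hF, show (2 : F) = 1 + 1 by norm_num, add_pow_q hF, one_pow]) (neg_ne_zero.2 h2)
  let σ : F →+* F := ((conj hF : F ≃+* F) : F →+* F)
  have hσ : ∀ x, σ x = x ^ q := fun x => rfl
  have hI : U3Model.Inv2 σ := ⟨fun x => pow_q_pow_q hF x⟩
  have hd0 : d ∈ W.V0 := by rw [hW]; exact Submodule.mem_span_singleton_self d
  let p0 : (toFrame W).Adm := ⟨a0 • d, 1, W.V0.smul_mem _ hd0, by
    rw [ok_iff, herm_smul_left, herm_smul_right, hd, mul_one, hn, one_pow]; ring⟩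
  have hp0 : p0.c ≠ 0 := one_ne_zero
  have hUF := UNode.uf_of_card hF (odd_q hF hp2) σ hσ
  have hne : Nonempty (Fin 1) := ⟨0⟩
  have hfinW : Finite (CoxeterMatrix.B 1).Group := finite_W (CoxeterMatrix.B 1).toCoxeterSystem
  have R := Nodes.WittModel.rgd (KInstU.model hF hN W) (amb_U hF W) hp2 hp0 (CoxeterMatrix.B 1).toCoxeterSystem
  have hgen := NodeRGD.gen_of_top R (Nodes.WittModel.G1_eq_top (KInstU.model hF hN W) one_pos
    (CoxeterMatrix.B 1).toCoxeterSystem)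
  obtain ⟨x, h3, h4, h5, h6, h7⟩ := uAt (M := KInstU.model hF hN W) (amb_U hF W) hp0 R (i := (0 : Fin 1))
      (by decide) (σ := σ)
      (fun x => ⟨x.a • d, x.b, W.V0.smul_mem _ hd0, by
        rw [ok_iff, herm_smul_left, herm_smul_right, hd, mul_one]
        have := x.h
        rw [hσ, hσ] at this
        linear_combination this⟩)
      (by
        intro x y
        apply Frame.Adm.ext
        · show (x.a + y.a) • d = x.a • d + y.a • d
          rw [add_smul]
        · show x.b + y.b - σ x.a * y.a = x.b + y.b - (1 : F)⁻¹ * hermForm 3 F q (y.a • d) (x.a • d)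
          rw [herm_smul_left, herm_smul_right, hd, hσ, inv_one]
          ring)
      (by
        rintro ⟨w, c, hw, hok'⟩
        obtain ⟨a, rfl⟩ : ∃ a : F, a • d = w := by
          rw [hW] at hw
          exact Submodule.mem_span_singleton.1 hw
        rw [ok_iff, herm_smul_left, herm_smul_right, hd, mul_one] at hok'
        exact ⟨⟨a, c, by rw [hσ, hσ]; linear_combination hok'⟩, rfl⟩)
      (by
        intro x hx
        by_contra hne
        exact U3Model.b_ne_zero hne hx)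
      (by
        intro x hx
        have hb := U3Model.b_ne_zero hx
        show ((1 : F)⁻¹ * (1 : F) ^ q * x.b⁻¹) • (x.a • d + ((1 : F)⁻¹ * (1 : F)⁻¹ *
          hermForm 3 F q (x.a • d) (a0 • d)) • (a0 • d)) = (U3Model.J x).a • d
        rw [U3Model.J_a hx, herm_smul_left, herm_smul_right, hd, smul_smul, ← add_smul, smul_smul, one_pow]
        congr 1
        have h3 : x.a * (a0 ^ q * 1) * a0 = -2 * x.a := by linear_combination x.a * hn
        field_simp
        linear_combination h3)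
      (by
        intro x hx
        have hb := U3Model.b_ne_zero hx
        show (1 : F)⁻¹ * (1 * (1 : F) ^ q) * x.b⁻¹ = (U3Model.J x).b
        rw [U3Model.J_b hx, one_pow]
        field_simp)
  have hS : (R.bnPair hgen).S = {nw (KInstU.model hF hN W) (amb_U hF W) p0 0} := by
    change Set.range _ = _
    rw [Set.range_unique]
    rfl
  refine ⟨R.bnPair hgen, _, _, _, σ, hI, hS, SplitRGD.split_of_rgd (Fact.out : p.Prime) R hgen
    (Cfsg.Agent.Tits.OfBN.normalCore_eq_bot (R.bnPair hgen) (by rw [hS]; exact Set.singleton_nonempty _)),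
    NodeRGD.node R hgen 0, hUF, ⟨uNode R hgen 0 x h3 h4 h5 h6 h7⟩⟩

end Unitary

end Cfsg.Agent.H519.PsuNode
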