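import Cfsg.Agent.FixBN.U3Core
import Cfsg.Agent.H519.CopRed

/-!
# Coprime automorphisms with commutators of odd order: rank one groups of unitary type

The group `G` acts on the set `C`, identified with the isotropic points `Om σ`; it contains the translations `X a` and the
standard involution `s`. The automorphism `τ` of `G` comes with its action `θ` on `C`, which fixes the points `∞` and `0`.
-/

set_option autoImplicit false
set_option linter.unusedSectionVars false

namespace Cfsg.Agent.H519.RankU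

open Cfsg Cfsg.Agent.FixBN.U3Model Cfsg.Agent.FixBN.U3Core Cfsg.Agent.H519.CopRed
open scoped Pointwise

/-! ### Counting -/

section Count

variable {F : Type*} [Field F] {σ : F →+* F} [H : Inv2 σ]

/-- the elements of trace zero -/
def ZZ (σ : F →+* F) : AddSubgroup F where
  carrier := {b | b + σ b = 0}
  add_mem' := fun {a b} (ha : a + σ a = 0) (hb : b + σ b = 0) => by
    change a + b + σ (a + b) = 0
    rw [map_add]
    linear_combination ha + hb
  zero_mem' := by
    change (0 : F) + σ 0 = 0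
    rw [map_zero, add_zero]
  neg_mem' := fun {a} (ha : a + σ a = 0) => by
    change -a + σ (-a) = 0
    rw [map_neg]
    linear_combination -ha

theorem mem_ZZ {b : F} : b ∈ ZZ σ ↔ b + σ b = 0 := Iff.rfl

/-- the fixed elements -/
def FF (σ : F →+* F) : AddSubgroup F where
  carrier := {b | σ b = b}
  add_mem' := fun {a b} (ha : σ a = a) (hb : σ b = b) => by
    change σ (a + b) = a + b
    rw [map_add, ha, hb]
  zero_mem' := map_zero σ
  neg_mem' := fun {a} (ha : σ a = a) => by
    change σ (-a) = -a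
    rw [map_neg, ha]

theorem mem_FF {b : F} : b ∈ FF σ ↔ σ b = b := Iff.rfl

/-- a nonzero element of trace zero -/
theorem exists_skew (hF : UF σ) : ∃ b : F, b ≠ 0 ∧ b + σ b = 0 := by
  obtain ⟨k, hk⟩ := hF.ne
  refine ⟨k - σ k, fun h => hk (sub_eq_zero.1 h).symm, ?_⟩
  rw [map_sub, H.invol]
  ring

theorem card_FF (hF : UF σ) : Nat.card (FF σ) = Nat.card (ZZ σ) := by
  obtain ⟨b, hb0, hb⟩ := exists_skew hF
  have hσb : σ b = -b := by linear_combination hb
  refine Nat.card_congr ⟨fun r => ⟨r.1 * b, ?_⟩, fun z => ⟨z.1 / b, ?_⟩, fun r => ?_, fun z => ?_⟩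
  · rw [mem_ZZ, map_mul, hσb, (r.2 : σ r.1 = r.1)]
    ring
  · rw [mem_FF, map_div₀, hσb]
    have h1 : z.1 + σ z.1 = 0 := z.2
    have h2 : σ z.1 = -z.1 := by linear_combination h1
    rw [h2, neg_div_neg_eq]
  · apply Subtype.ext
    change r.1 * b / b = r.1
    field_simp
  · apply Subtype.ext
    change z.1 / b * b = z.1
    field_simp

theorem card_F (hF : UF σ) : Nat.card F = Nat.card (ZZ σ) ^ 2 := by
  have h2 := hF.two
  have e : F ≃ ZZ σ × FF σ :=
    { toFun := fun x => (⟨(x - σ x) / 2, by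
        rw [mem_ZZ, map_div₀, map_sub, H.invol, map_ofNat]
        field_simp
        ring⟩, ⟨(x + σ x) / 2, by
        rw [mem_FF, map_div₀, map_add, H.invol, map_ofNat, add_comm]⟩)
      invFun := fun z => z.1.1 + z.2.1
      left_inv := fun x => by
        change (x - σ x) / 2 + (x + σ x) / 2 = x
        field_simp
        ring
      right_inv := fun z => by
        have h3 : z.1.1 + σ z.1.1 = 0 := z.1.2
        have h4 : σ z.2.1 = z.2.1 := z.2.2
        have h5 : σ z.1.1 = -z.1.1 := by linear_combination h3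
        apply Prod.ext
        · apply Subtype.ext
          change (z.1.1 + z.2.1 - σ (z.1.1 + z.2.1)) / 2 = z.1.1
          rw [map_add, h4, h5]
          field_simp
          ring
        · apply Subtype.ext
          change (z.1.1 + z.2.1 + σ (z.1.1 + z.2.1)) / 2 = z.2.1
          rw [map_add, h4, h5]
          field_simp
          ring }
  rw [Nat.card_congr e, Nat.card_prod, card_FF hF, pow_two]

theorem card_Pt (hF : UF σ) : Nat.card (Pt σ) = Nat.card (ZZ σ) ^ 3 := by
  have h2 := hF.two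
  have e : Pt σ ≃ F × ZZ σ :=
    { toFun := fun x => (x.a, ⟨x.b + x.a * σ x.a / 2, by
        have h3 := x.h
        rw [mem_ZZ, map_add, map_div₀, map_mul, H.invol, map_ofNat]
        field_simp
        linear_combination 2 * h3⟩)
      invFun := fun z => ⟨z.1, z.2.1 - z.1 * σ z.1 / 2, by
        have h3 : z.2.1 + σ z.2.1 = 0 := z.2.2
        rw [map_sub, map_div₀, map_mul, H.invol, map_ofNat]
        field_simp
        linear_combination 2 * h3⟩
      left_inv := fun x => by
        apply ext'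
        · rfl
        · change x.b + x.a * σ x.a / 2 - x.a * σ x.a / 2 = x.b
          ring
      right_inv := fun z => by
        apply Prod.ext
        · rfl
        · apply Subtype.ext
          change z.2.1 - z.1 * σ z.1 / 2 + z.1 * σ z.1 / 2 = z.2.1
          ring }
  rw [Nat.card_congr e, Nat.card_prod, card_F hF, ← pow_succ]

/-- the number of the elements of trace zero is odd -/
theorem odd_ZZ [Finite F] (hF : UF σ) : Odd (Nat.card (ZZ σ)) := by
  rw [← Nat.not_even_iff_odd, even_iff_two_dvd]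
  intro hd
  have : Fact (Nat.Prime 2) := ⟨Nat.prime_two⟩
  obtain ⟨x, hx⟩ := exists_prime_addOrderOf_dvd_card' 2 hd
  have h1 : (2 : ℕ) • x = 0 := by rw [← hx]; exact addOrderOf_nsmul_eq_zero x
  have h2 : (2 : F) * x.1 = 0 := by
    have h3 : ((2 • x : ZZ σ) : F) = 0 := congrArg Subtype.val h1
    rw [AddSubmonoidClass.coe_nsmul, nsmul_eq_mul] at h3
    exact_mod_cast h3
  have h3 : x.1 = 0 := (mul_eq_zero.1 h2).resolve_left hF.two
  have h4 : x = 0 := Subtype.ext h3
  rw [h4, addOrderOf_zero] at hx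
  exact absurd hx (by norm_num)

/-- elements of norm one and of order prime to the number of points are trivial -/
theorem eq_one_of_norm [Finite F] (hF : UF σ) {c : F} (hc : c * σ c = 1) {n : ℕ} (hn : c ^ n = 1) (hodd : Odd n)
    (hcop : n.Coprime (Nat.card (Om σ))) : c = 1 := by
  have hc0 : c ≠ 0 := left_ne_zero_of_mul_eq_one hc
  set u : Fˣ := Units.mk0 c hc0 with hu
  by_contra hne
  have hu1 : orderOf u ≠ 1 := by
    rw [Ne, orderOf_eq_one_iff]
    intro h
    apply hne
    have h1 := congrArg Units.val h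
    exact h1
  obtain ⟨r, hr, hrd⟩ := Nat.exists_prime_and_dvd hu1
  have hun : u ^ n = 1 := Units.ext hn
  have hrn : r ∣ n := hrd.trans (orderOf_dvd_of_pow_eq_one hun)
  have hr2 : r ≠ 2 := by
    rintro rfl
    exact (Nat.not_even_iff_odd.2 hodd) (even_iff_two_dvd.2 hrn)
  have : Fact r.Prime := ⟨hr⟩
  -- `m² - 1`
  set m := Nat.card (ZZ σ) with hm
  have hmF := card_F hF
  have hunits : Nat.card Fˣ = m ^ 2 - 1 := by rw [Nat.card_units, hmF]
  have hfin : Finite Fˣ := inferInstance
  have h1 : r ∣ (m - 1) * (m + 1) := by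
    have h2 : r ∣ Nat.card Fˣ := hrd.trans (orderOf_dvd_natCard u)
    rw [hunits] at h2
    have h3 : m ^ 2 - 1 = (m - 1) * (m + 1) := by
      rw [mul_comm, ← Nat.sq_sub_sq, one_pow]
    rwa [h3] at h2
  -- the order `r` part of `u`
  obtain ⟨k, hk⟩ := hrd
  have hk0 : k ≠ 0 := by
    rintro rfl
    have h2 : 0 < orderOf u := orderOf_pos u
    rw [hk, mul_zero] at h2
    exact absurd h2 (lt_irrefl 0)
  have hordk : orderOf (u ^ k) = r := by
    rw [orderOf_pow_of_dvd hk0 ⟨r, by rw [hk, mul_comm]⟩, hk, Nat.mul_div_cancel _ (Nat.pos_of_ne_zero hk0)]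
  have huk : ((u ^ k : Fˣ) : F) * σ ((u ^ k : Fˣ) : F) = 1 := by
    rw [Units.val_pow_eq_pow_val, map_pow, ← mul_pow]
    have h3 : ((u : Fˣ) : F) = c := rfl
    rw [h3, hc, one_pow]
  rcases (Nat.Prime.dvd_mul hr).1 h1 with h2 | h2
  · -- `r` divides the order of the multiplicative group of the fixed field
    let E : Subfield F := RingHom.eqLocusField σ (RingHom.id F)
    have hE : Nat.card E = m := by
      rw [hm, ← card_FF hF]
      exact Nat.card_congr (Equiv.refl _)
    have hEu : Nat.card Eˣ = m - 1 := by rw [Nat.card_units, hE]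
    have hfE : Finite Eˣ := inferInstance
    obtain ⟨d, hd⟩ := exists_prime_orderOf_dvd_card' (G := Eˣ) r (by rw [hEu]; exact h2)
    set v : Fˣ := Units.map (E.subtype : E →* F) d with hv
    have hvo : orderOf v = r := by
      rw [hv, orderOf_injective (Units.map (E.subtype : E →* F)) (Units.map_injective Subtype.val_injective), hd]
    have hprim : IsPrimitiveRoot ((v : Fˣ) : F) r := by
      rw [IsPrimitiveRoot.coe_units_iff, ← hvo]
      exact IsPrimitiveRoot.orderOf v
    have hne0 : NeZero r := ⟨hr.ne_zero⟩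
    obtain ⟨j, -, hj⟩ := hprim.eq_pow_of_pow_eq_one (ξ := ((u ^ k : Fˣ) : F)) (by
      rw [← Units.val_pow_eq_pow_val, ← hordk, pow_orderOf_eq_one, Units.val_one])
    have hfix : σ ((u ^ k : Fˣ) : F) = ((u ^ k : Fˣ) : F) := by
      rw [← hj, map_pow]
      congr 1
      exact ((d : E)).2
    rw [hfix] at huk
    have h3 : (u ^ k) ^ 2 = 1 := by
      apply Units.ext
      rw [pow_two, Units.val_mul]
      exact huk
    have h4 := orderOf_dvd_of_pow_eq_one h3
    rw [hordk] at h4
    exact hr2 ((Nat.prime_dvd_prime_iff_eq hr Nat.prime_two).1 h4)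
  · have h3 : r ∣ Nat.card (Om σ) := by
      have hfP : Finite (Pt σ) := Nat.finite_of_card_ne_zero (by
        rw [card_Pt hF]
        have h4 := (odd_ZZ hF).pos
        positivity)
      rw [Finite.card_option, card_Pt hF, ← hm]
      have h4 : m ^ 3 + 1 = (m + 1) * (m ^ 2 - m + 1) := by
        have h5 : m ≤ m ^ 2 := by nlinarith [(odd_ZZ hF).pos]
        zify [h5]
        ring
      rw [h4]
      exact h2.mul_right _
    have h4 := Nat.dvd_gcd hrn h3
    rw [hcop] at h4
    exact hr.one_lt.ne' (Nat.dvd_one.1 h4)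

end Count

/-! ### The main theorem -/

section Main

variable {F : Type*} [Field F] {σ : F →+* F} [H : Inv2 σ]
variable {G C : Type*} [Group G] [MulAction G C]

local notation "tl" => Cfsg.Agent.FixBN.U3Model.tr

/-- The situation: `G` acts on the isotropic points, and contains the translations and the standard involution. -/
structure Mod (φ : Om σ ≃ C) (X : Pt σ → G) (s : G) : Prop where
  X : ∀ a z, X a • φ z = φ (tl a z)
  s : ∀ z, s • φ z = φ (jj z)

/-- The automorphism and its action. -/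
structure Act (φ : Om σ ≃ C) (X : Pt σ → G) (s : G) (τ : MulAut G) (θ : Equiv.Perm C) : Prop where
  smul : ∀ (g : G) (c : C), θ (g • c) = τ g • θ c
  none : θ (φ none) = φ none
  one : θ (φ (some 1)) = φ (some 1)
  trX : ∀ a, ∃ b, τ (X a) = X b
  trX' : ∀ a, ∃ b, τ (s * X a * s⁻¹) = s * X b * s⁻¹

variable {φ : Om σ ≃ C} {X : Pt σ → G} {s : G} {τ : MulAut G} {θ : Equiv.Perm C}

/-- the permutation of the isotropic points -/
def bet (φ : Om σ ≃ C) (θ : Equiv.Perm C) : Equiv.Perm (Om σ) := φ.trans (θ.trans φ.symm)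

theorem φ_bet (φ : Om σ ≃ C) (θ : Equiv.Perm C) (z : Om σ) : φ (bet φ θ z) = θ (φ z) := by
  change φ (φ.symm (θ (φ z))) = _
  rw [φ.apply_symm_apply]

theorem Mod.s_inv (m : Mod φ X s) (z : Om σ) : s⁻¹ • φ z = φ (jj z) := by
  rw [inv_smul_eq_iff, m.s, jj_jj]

theorem exists_auX (m : Mod φ X s) (t : Act φ X s τ θ) : ∃ f f' : Pt σ → Pt σ, Au (bet φ θ) f f' := by
  refine Cfsg.Agent.FixBN.U3Core.exists_au (bet φ θ) ?_ ?_ ?_ ?_
  · apply φ.injective
    rw [φ_bet, t.none]
  · apply φ.injective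
    rw [φ_bet, t.one]
  · intro x
    obtain ⟨y, hy⟩ := t.trX x
    refine ⟨y, ?_⟩
    rw [mul_inv_eq_iff_eq_mul]
    apply Equiv.ext
    intro z
    apply φ.injective
    rw [Equiv.Perm.mul_apply, Equiv.Perm.mul_apply, φ_bet, ← m.X, t.smul, hy, ← φ_bet, m.X]
  · intro x
    obtain ⟨y, hy⟩ := t.trX' x
    refine ⟨y, ?_⟩
    rw [mul_inv_eq_iff_eq_mul]
    have h1 : bet φ θ * (jj * tl x * jj) = (jj * tl y * jj) * bet φ θ := by
      apply Equiv.ext
      intro z
      apply φ.injective
      simp only [Equiv.Perm.mul_apply]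
      rw [φ_bet, ← m.s, ← m.X, ← m.s_inv, ← m.s, ← m.X, ← m.s_inv, φ_bet, ← mul_smul, ← mul_smul, ← mul_smul,
        ← mul_smul, t.smul, hy]
    calc jj * bet φ θ * jj * tl x = jj * bet φ θ * (jj * tl x * (jj * jj)) := by
          rw [jj_mul_jj, mul_one]; simp only [mul_assoc]
      _ = jj * (bet φ θ * (jj * tl x * jj)) * jj := by simp only [mul_assoc]
      _ = jj * ((jj * tl y * jj) * bet φ θ) * jj := by rw [h1]
      _ = (jj * jj) * tl y * (jj * bet φ θ * jj) := by simp only [mul_assoc]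
      _ = tl y * (jj * bet φ θ * jj) := by rw [jj_mul_jj, one_mul]

/-- the points with `a = 0` -/
def LL (σ : F →+* F) : Set (Om σ) := {z | ∀ x, z = some x → x.a = 0}

omit H in
theorem none_mem_LL : (none : Om σ) ∈ LL σ := fun _ h => by cases h

omit H in
theorem some_mem_LL {x : Pt σ} : some x ∈ LL σ ↔ x.a = 0 :=
  ⟨fun h => h x rfl, fun h y hy => by rw [← Option.some_injective _ hy]; exact h⟩

theorem tr_mem_LL {x : Pt σ} (hx : x.a = 0) {z : Om σ} (hz : z ∈ LL σ) : tl x z ∈ LL σ := by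
  rcases z with _ | y
  · exact none_mem_LL
  · rw [tr_some, some_mem_LL, mul_a, hx, some_mem_LL.1 hz, add_zero]

theorem jj_mem_LL {z : Om σ} (hz : z ∈ LL σ) : jj z ∈ LL σ := by
  rcases z with _ | y
  · rw [jj_none, some_mem_LL, one_a]
  · by_cases hy : y = 1
    · rw [hy, jj_one]; exact none_mem_LL
    · rw [jj_some hy, some_mem_LL, J_a hy, some_mem_LL.1 hz, neg_zero, zero_div]

/-- the stabiliser of the points with `a = 0` -/
def HH (G : Type*) [Group G] [MulAction G C] (φ : Om σ ≃ C) : Subgroup G := MulAction.stabilizer G (φ '' LL σ)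

omit H in
theorem mem_HH [Finite C] {g : G} (h : ∀ z ∈ LL σ, g • φ z ∈ φ '' LL σ) : g ∈ HH G φ := by
  rw [HH, MulAction.mem_stabilizer_iff]
  have hsub : g • (φ '' LL σ) ⊆ φ '' LL σ := by
    rintro _ ⟨_, ⟨z, hz, rfl⟩, rfl⟩
    exact h z hz
  apply Set.eq_of_subset_of_ncard_le hsub _ (Set.toFinite _)
  exact le_of_eq (Set.ncard_image_of_injective (φ '' LL σ) (MulAction.injective g)).symm

omit H in
theorem smul_mem_of_HH {g : G} (h : g ∈ HH G φ) {z : Om σ} (hz : z ∈ LL σ) : ∃ w ∈ LL σ, g • φ z = φ w := by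
  rw [HH, MulAction.mem_stabilizer_iff] at h
  have h1 : g • φ z ∈ φ '' LL σ := by
    rw [← h]
    exact ⟨_, ⟨z, hz, rfl⟩, rfl⟩
  obtain ⟨w, hw, hw2⟩ := h1
  exact ⟨w, hw, hw2.symm⟩

theorem X_mem_HH [Finite C] (m : Mod φ X s) {x : Pt σ} (hx : x.a = 0) : X x ∈ HH G φ :=
  mem_HH fun z hz => ⟨_, tr_mem_LL hx hz, (m.X x z).symm⟩

theorem s_mem_HH [Finite C] (m : Mod φ X s) : s ∈ HH G φ :=
  mem_HH fun z hz => ⟨_, jj_mem_LL hz, (m.s z).symm⟩

theorem ncard_LL [Finite F] : (φ '' LL σ).ncard = Nat.card (ZZ σ) + 1 := by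
  rw [Set.ncard_image_of_injective _ φ.injective]
  have h1 : LL σ = insert none (some '' {x : Pt σ | x.a = 0}) := by
    ext z
    rcases z with _ | x
    · exact ⟨fun _ => Or.inl rfl, fun _ => none_mem_LL⟩
    · rw [some_mem_LL]
      constructor
      · intro h
        exact Or.inr ⟨x, h, rfl⟩
      · rintro (h | ⟨y, hy, hyx⟩)
        · cases h
        · rw [← Option.some_injective _ hyx]; exact hy
  have e : {x : Pt σ | x.a = 0} ≃ ZZ σ :=
    { toFun := fun x => ⟨x.1.b, by
        have h2 := x.1.h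
        rw [mem_ZZ]
        rw [x.2, zero_mul, add_zero] at h2
        exact h2⟩
      invFun := fun z => ⟨⟨0, z.1, by
        have h2 : z.1 + σ z.1 = 0 := z.2
        rw [zero_mul, add_zero]
        exact h2⟩, rfl⟩
      left_inv := fun x => by
        apply Subtype.ext
        exact ext' x.2.symm rfl
      right_inv := fun z => rfl }
  have hfin : Finite {x : Pt σ | x.a = 0} := Finite.of_equiv _ e.symm
  rw [h1, Set.ncard_insert_of_notMem (by rintro ⟨x, -, hx⟩; cases hx) (Set.toFinite _),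
    Set.ncard_image_of_injective _ (Option.some_injective _), ← Nat.card_coe_set_eq, Nat.card_congr e]

/-- a subgroup of odd order of the stabiliser, normalised by the translations, fixes `∞` -/
theorem fix_none [Finite G] [Finite C] [Finite F] (hF : UF σ) (m : Mod φ X s) {R : Subgroup G}
    (hodd : (Nat.card R).Coprime 2)
    (hR : R ≤ HH G φ) (hn : ∀ x : Pt σ, x.a = 0 → ∀ r ∈ R, X x * r * (X x)⁻¹ ∈ R) {r : G} (hr : r ∈ R) :
    r • φ none = φ none := by
  by_contra hne
  obtain ⟨w, hw, hrw⟩ := smul_mem_of_HH (hR hr) (none_mem_LL (σ := σ))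
  rcases w with _ | y
  · exact hne hrw
  rw [some_mem_LL] at hw
  have hXinv : ∀ x : Pt σ, (X x)⁻¹ • φ none = φ none := by
    intro x
    rw [inv_smul_eq_iff, m.X, tr_none]
  have horb : MulAction.orbit R (φ none) = φ '' LL σ := by
    ext c
    constructor
    · rintro ⟨⟨r', hr'⟩, rfl⟩
      obtain ⟨w, hw, hw2⟩ := smul_mem_of_HH (hR hr') (none_mem_LL (σ := σ))
      exact ⟨w, hw, hw2.symm⟩
    · rintro ⟨z, hz, rfl⟩
      rcases z with _ | t
      · exact MulAction.mem_orbit_self _
      · rw [some_mem_LL] at hz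
        have h1 : (t * y⁻¹).a = 0 := by rw [mul_a, inv_a, hz, hw]; ring
        refine ⟨⟨X (t * y⁻¹) * r * (X (t * y⁻¹))⁻¹, hn _ h1 r hr⟩, ?_⟩
        change (X (t * y⁻¹) * r * (X (t * y⁻¹))⁻¹) • φ none = φ (some t)
        rw [mul_smul, mul_smul, hXinv, hrw, m.X, tr_some, inv_mul_cancel_right]
  have h1 : (φ '' LL σ).ncard ∣ Nat.card R := by
    rw [← horb, ← MulAction.index_stabilizer]
    exact Subgroup.index_dvd_card _
  rw [ncard_LL] at h1
  have h2 : 2 ∣ Nat.card (ZZ σ) + 1 := by
    obtain ⟨k, hk⟩ := odd_ZZ hF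
    exact ⟨k + 1, by rw [hk]; ring⟩
  have h3 := Nat.dvd_gcd (h2.trans h1) (dvd_refl 2)
  rw [hodd] at h3
  omega

/-- **Rank one, unitary type.** -/
theorem eq_one [Finite G] [Finite C] [Finite F] [hf : FaithfulSMul G C] (hF : UF σ) (m : Mod φ X s)
    (t : Act φ X s τ θ) (hG : ∀ x y : C, ∃ g : G, g • x = y)
    (hc : (orderOf τ).Coprime (Nat.card G)) (ho : OddC τ) (hθ : θ ^ orderOf τ = 1)
    (IH : ∀ H : Subgroup G, H ≠ ⊤ → Res H) : τ = 1 := by
  obtain ⟨f, f', A⟩ := exists_auX m t
  obtain ⟨c, ρ, hc0, hcρ⟩ := A.semilinear hF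
  have hβ : ∀ x, θ (φ (some x)) = φ (some (f x)) := by
    intro x
    rw [← φ_bet, A.val]
  -- `τ` on the translations
  have hτX : ∀ x, τ (X x) = X (f x) := by
    intro x
    apply hf.eq_of_smul_eq_smul (α := C)
    intro c
    obtain ⟨z, rfl⟩ := φ.surjective c
    obtain ⟨w, rfl⟩ := (bet φ θ).surjective z
    rw [m.X, ← A.tr, φ_bet, φ_bet, ← m.X, t.smul]
  -- the stabiliser `H`
  have hinv : (HH G φ).map τ.toMonoidHom = HH G φ := by
    apply map_eq_of_le
    intro g hg
    apply mem_HH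
    intro z hz
    -- `z = bet w`
    have hθS : θ '' (φ '' LL σ) = φ '' LL σ := by
      have hsub : θ '' (φ '' LL σ) ⊆ φ '' LL σ := by
        rintro _ ⟨_, ⟨z, hz, rfl⟩, rfl⟩
        rcases z with _ | x
        · rw [t.none]; exact ⟨_, none_mem_LL, rfl⟩
        · rw [hβ]
          refine ⟨_, some_mem_LL.2 ?_, rfl⟩
          rw [(hcρ x).1, some_mem_LL.1 hz, map_zero, mul_zero]
      apply Set.eq_of_subset_of_ncard_le hsub _ (Set.toFinite _)
      exact le_of_eq (Set.ncard_image_of_injective (φ '' LL σ) θ.injective).symm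
    have h1 : φ z ∈ θ '' (φ '' LL σ) := by rw [hθS]; exact ⟨z, hz, rfl⟩
    obtain ⟨_, ⟨w, hw, rfl⟩, hwz⟩ := h1
    obtain ⟨v, hv, hgv⟩ := smul_mem_of_HH hg hw
    rw [← hwz, ← t.smul, hgv, ← hθS]
    exact ⟨_, ⟨v, hv, rfl⟩, rfl⟩
  have hne : HH G φ ≠ ⊤ := by
    intro h
    obtain ⟨x, hx⟩ := exists_pt (σ := σ) hF 1
    obtain ⟨g, hg⟩ := hG (φ none) (φ (some x))
    have h1 : g ∈ HH G φ := h ▸ Subgroup.mem_top g
    obtain ⟨w, hw, hgw⟩ := smul_mem_of_HH h1 (none_mem_LL (σ := σ))
    rw [hg] at hgw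
    have h2 := φ.injective hgw
    rw [← h2, some_mem_LL, hx] at hw
    exact one_ne_zero hw
  set R := (pPrimeCore 2 (HH G φ)).map (HH G φ).subtype with hRd
  have hRodd : (Nat.card R).Coprime 2 := by
    rw [hRd, Subgroup.card_map_of_injective (HH G φ).subtype_injective]
    exact Lib.Cores.pPrimeCore_coprime 2
  have hRle : R ≤ HH G φ := Subgroup.map_subtype_le _
  have hRn : ∀ h ∈ HH G φ, ∀ r ∈ R, h * r * h⁻¹ ∈ R := by
    rintro h hh _ ⟨r, hr, rfl⟩
    exact ⟨_, (Lib.Cores.pPrimeCore_normal (G := HH G φ) 2).conj_mem r hr ⟨h, hh⟩, rfl⟩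
  have hfixn : ∀ r ∈ R, r • φ none = φ none := fun r hr =>
    fix_none hF m hRodd hRle (fun x hx r hr => hRn _ (X_mem_HH m hx) r hr) hr
  have hfix0 : ∀ r ∈ R, r • φ (some 1) = φ (some 1) := by
    intro r hr
    have h1 := hfixn _ (hRn s⁻¹ (inv_mem (s_mem_HH m)) r hr)
    rw [inv_inv, mul_smul, mul_smul, m.s, jj_none, inv_smul_eq_iff, m.s, jj_none] at h1
    exact h1
  -- `τ` centralises the translations with `a = 0`
  have hfx : ∀ x : Pt σ, x.a = 0 → f x = x := by
    intro x hx
    have h1 : (X x)⁻¹ * τ (X x) ∈ R := (IH _ hne).sub hc ho hinv (X_mem_HH m hx)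
    have h2 := hfix0 _ h1
    rw [hτX, mul_smul, inv_smul_eq_iff, m.X, m.X, tr_some, tr_some, mul_one, mul_one] at h2
    exact Option.some_injective _ (φ.injective h2)
  -- consequences for the semilinear map
  have hNb : ∀ b : F, b + σ b = 0 → c * σ c * ρ b = b := by
    intro b hb
    have h1 := hfx ⟨0, b, by rw [zero_mul, add_zero]; exact hb⟩ rfl
    have h2 := (hcρ ⟨0, b, by rw [zero_mul, add_zero]; exact hb⟩).2
    rw [h1] at h2
    exact h2.symm
  obtain ⟨b₀, hb0, hb₀⟩ := exists_skew hF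
  have hσb : σ b₀ = -b₀ := by linear_combination hb₀
  have hN0 : c * σ c ≠ 0 := mul_ne_zero hc0 fun h => hc0 ((map_eq_zero σ).1 h)
  have hρb := hNb b₀ hb₀
  have hρb0 : ρ b₀ ≠ 0 := fun h => hb0 (by rw [h, mul_zero] at hρb; exact hρb.symm)
  have hρF : ∀ r, σ r = r → ρ r = r := by
    intro r hr
    have h1 := hNb (r * b₀) (by rw [map_mul, hr, hσb]; ring)
    rw [map_mul] at h1
    have h2 : (ρ r - r) * b₀ = 0 := by
      linear_combination h1 - ρ r * hρb
    exact sub_eq_zero.1 ((mul_eq_zero.1 h2).resolve_right hb0)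
  have hsq : (c * σ c) ^ 2 = 1 := by
    have h1 : ρ (b₀ ^ 2) = b₀ ^ 2 := hρF _ (by rw [map_pow, hσb]; ring)
    rw [map_pow] at h1
    have h2 : ((c * σ c) ^ 2 - 1) * b₀ ^ 2 = 0 := by
      linear_combination ((c * σ c) * ρ b₀ + b₀) * hρb - (c * σ c) ^ 2 * h1
    exact sub_eq_zero.1 ((mul_eq_zero.1 h2).resolve_right (pow_ne_zero 2 hb0))
  -- the order of `τ` is odd
  have hcardC : Nat.card C = Nat.card (ZZ σ) ^ 3 + 1 := by
    have hfP : Finite (Pt σ) := Finite.of_injective (fun x => φ (some x)) fun x y h =>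
      Option.some_injective _ (φ.injective h)
    rw [← Nat.card_congr φ, Finite.card_option, card_Pt hF]
  have hCG : Nat.card C ∣ Nat.card G := by
    have h1 : MulAction.orbit G (φ none) = Set.univ := by
      ext x
      refine ⟨fun _ => trivial, fun _ => ?_⟩
      obtain ⟨g, hg⟩ := hG (φ none) x
      exact ⟨g, hg⟩
    have h2 := MulAction.index_stabilizer G (φ none)
    rw [h1, Set.ncard_univ] at h2
    rw [← h2]
    exact Subgroup.index_dvd_card _
  have hn2 : Odd (orderOf τ) := by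
    rw [← Nat.coprime_two_right]
    refine hc.coprime_dvd_right (dvd_trans ?_ hCG)
    rw [hcardC]
    obtain ⟨k, hk⟩ := (odd_ZZ hF).pow (n := 3)
    exact ⟨k + 1, by rw [hk]; ring⟩
  -- powers of `θ`
  have hconcl : ∀ g : Equiv.Perm C, g = 1 → g = θ → τ = 1 := by
    intro g hg1 hg
    ext k
    apply hf.eq_of_smul_eq_smul (α := C)
    intro x
    have h1 := t.smul k x
    rw [← hg, hg1] at h1
    exact h1.symm
  rcases mul_self_eq_one_iff.1 ((pow_two _).symm.trans hsq) with hN | hN
  · -- `N = 1`, `ρ = 1`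
    have hρ1 : ∀ x, ρ x = x := by
      intro x
      have h1 : ρ b₀ = b₀ := by rw [hN, one_mul] at hρb; exact hρb
      have h2 := hρF ((x + σ x) / 2) (by rw [map_div₀, map_add, H.invol, map_ofNat, add_comm])
      have h3 := hρF ((x - σ x) / 2 / b₀) (by
        rw [map_div₀, map_div₀, map_sub, H.invol, map_ofNat, hσb]
        have := hF.two
        field_simp
        ring)
      have h4 : x = (x + σ x) / 2 + (x - σ x) / 2 / b₀ * b₀ := by
        have := hF.two
        field_simp
        ring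
      rw [h4, map_add, map_mul, h2, h3, h1]
    have hf1 : ∀ x : Pt σ, (f x).a = c * x.a ∧ (f x).b = x.b := by
      intro x
      refine ⟨by rw [(hcρ x).1, hρ1], by rw [(hcρ x).2, hN, one_mul, hρ1]⟩
    have hpow : ∀ (n : ℕ) (x : Pt σ), ∃ y : Pt σ, (θ ^ n) (φ (some x)) = φ (some y) ∧ y.a = c ^ n * x.a := by
      intro n x
      induction n with
      | zero => exact ⟨x, rfl, by rw [pow_zero, one_mul]⟩
      | succ n ih =>
        obtain ⟨y, hy1, hy2⟩ := ih
        refine ⟨f y, ?_, ?_⟩
        · rw [pow_succ', Equiv.Perm.mul_apply, hy1, hβ]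
        · rw [(hf1 y).1, hy2, pow_succ']; ring
    have hcn : c ^ orderOf τ = 1 := by
      obtain ⟨x, hx⟩ := exists_pt (σ := σ) hF 1
      obtain ⟨y, hy1, hy2⟩ := hpow (orderOf τ) x
      rw [hθ] at hy1
      have h1 : x = y := Option.some_injective _ (φ.injective hy1)
      rw [← h1, hx, mul_one] at hy2
      exact hy2.symm
    have hc1 : c = 1 := by
      refine eq_one_of_norm hF hN hcn hn2 ?_
      rw [Nat.card_congr φ]
      exact hc.coprime_dvd_right hCG
    refine hconcl θ ?_ rfl
    ext y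
    obtain ⟨z, rfl⟩ := φ.surjective y
    rcases z with _ | x
    · exact t.none
    · rw [hβ]
      have h1 : f x = x := ext' (by rw [(hf1 x).1, hc1, one_mul]) (hf1 x).2
      rw [h1]
      rfl
  · -- `N = -1`, `ρ = σ`
    have hρσ : ∀ x, ρ x = σ x := by
      intro x
      have h1 : ρ b₀ = -b₀ := by rw [hN] at hρb; linear_combination -hρb
      have h2 := hρF ((x + σ x) / 2) (by rw [map_div₀, map_add, H.invol, map_ofNat, add_comm])
      have h3 := hρF ((x - σ x) / 2 / b₀) (by
        rw [map_div₀, map_div₀, map_sub, H.invol, map_ofNat, hσb]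
        have := hF.two
        field_simp
        ring)
      have h4 : x = (x + σ x) / 2 + (x - σ x) / 2 / b₀ * b₀ := by
        have := hF.two
        field_simp
        ring
      have h5 : ρ x = (x + σ x) / 2 + (x - σ x) / 2 / b₀ * (-b₀) := by
        conv_lhs => rw [h4]
        rw [map_add, map_mul, h2, h3, h1]
      rw [h5]
      have := hF.two
      field_simp
      ring
    have hf4 : ∀ x : Pt σ, f (f (f (f x))) = x := by
      intro x
      have ha : ∀ y : Pt σ, (f (f y)).a = - y.a := by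
        intro y
        rw [(hcρ _).1, (hcρ _).1, hρσ, hρσ, map_mul, H.invol]
        linear_combination y.a * hN
      have hb : ∀ y : Pt σ, (f (f y)).b = y.b := by
        intro y
        rw [(hcρ _).2, (hcρ _).2, hρσ, hρσ, map_mul, H.invol, hN, map_neg, map_one]
        ring
      apply ext'
      · rw [ha, ha, neg_neg]
      · rw [hb, hb]
    have h4 : θ ^ 4 = 1 := by
      ext y
      obtain ⟨z, rfl⟩ := φ.surjective y
      rcases z with _ | x
      · change θ (θ (θ (θ (φ none)))) = φ none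
        rw [t.none, t.none, t.none, t.none]
      · change θ (θ (θ (θ (φ (some x))))) = φ (some x)
        rw [hβ, hβ, hβ, hβ, hf4]
    have h5 : orderOf θ = 1 := by
      have h6 : (orderOf τ).Coprime (2 ^ 2) := Nat.Coprime.pow_right 2 (Nat.coprime_two_right.2 hn2)
      exact Nat.eq_one_of_dvd_coprimes h6 (orderOf_dvd_of_pow_eq_one hθ) (orderOf_dvd_of_pow_eq_one h4)
    exact hconcl θ (orderOf_eq_one_iff.1 h5) rfl

end Main

end Cfsg.Agent.H519.RankU
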