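import Cfsg.Agent.H519.PsuNode
import Cfsg.Agent.H519.RankU
import Cfsg.Agent.H519.Glaub
import Cfsg.Agent.H519.SplitRes

/-!
# Coprime automorphisms of `PSU₃(q)`, `q` odd, with commutators of odd order are trivial

`eq_one_of_uNode` : for a simple group with a split (B,N)-pair of rank one and unitary type.
-/

set_option autoImplicit false
set_option linter.unusedSectionVars false

namespace Cfsg.Agent.H519.PsuRes

open Cfsg Cfsg.Agent.LieExceptional.BNPairCore Cfsg.Agent.Tits.Core Cfsg.Agent.Tits.Core.Bldg Cfsg.Agent.Tits.OfBN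
  Cfsg.Agent.Schreier.BNSch Cfsg.Agent.FixBN Cfsg.Agent.FixBN.OfBN Cfsg.Agent.FixBN.U3Model
  Cfsg.Agent.FixBN.U3Core Cfsg.Agent.FixBN.UNode Cfsg.Agent.H519.CopRed Cfsg.Agent.H519.RankU

local notation "tl" => Cfsg.Agent.FixBN.U3Model.tr

section

variable {K : Type*} [Group K] {P : Cfsg.BNPair K} {U V : Subgroup K} {s : K} {F : Type*} [Field F]
  {σ : F →+* F} [Inv2 σ]
variable [hN : ((P.B ⊓ P.N).subgroupOf P.N).Normal] {p : ℕ} (S : Split P p U)
variable {I : Type*} {M : CoxeterMatrix I} (e : I ≃ P.S) (cs : CoxeterSystem M (WP P))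
  (hcs : ∀ i, cs.simple i = QuotientGroup.mk (⟨(e i : K), P.subset (e i).2⟩ : P.N)) (i : I)

/-- rank one: a panel contains all the chambers -/
theorem pan_eq_univ (hI : ∀ j : I, j = i) (x : K ⧸ P.B) : (bldg P e cs hcs).Pan i x = Set.univ := by
  rw [Bldg.Pan_eq_Res, ← Bldg.Res_univ (bldg P e cs hcs) x]
  congr 1
  ext j
  rw [hI j]
  simp

/-- the parametrisation of the chambers -/
noncomputable def phi (S : Split P p U) (Nd : Node P U (e i : K) V) (N : UNode P U (e i : K) V σ)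
    (hI : ∀ j : I, j = i) (g : K) : Om σ ≃ K ⧸ P.B :=
  (UNode.par e cs hcs i S Nd N g).trans ((Equiv.setCongr (pan_eq_univ e cs hcs i hI _)).trans (Equiv.Set.univ _))

variable (Nd : Node P U (e i : K) V) (N : UNode P U (e i : K) V σ) (hI : ∀ j : I, j = i)

theorem phi_none (g : K) : phi e cs hcs i S Nd N hI g none = QuotientGroup.mk g := rfl

theorem phi_some (g : K) (a : Pt σ) :
    phi e cs hcs i S Nd N hI g (some a) = QuotientGroup.mk (g * N.x a * (e i : K)) := rfl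

include S in
theorem mod_phi (g : K) :
    Mod (phi e cs hcs i S Nd N hI g) (fun a => g * N.x a * g⁻¹) (g * (e i : K) * g⁻¹) where
  X := by
    have hBx : ∀ a, N.x a ∈ P.B := fun a => S.le (N.mem a)
    rintro a (_ | t)
    · rw [U3Model.tr_none, phi_none, smul_mk, mk_eq]
      have h1 : (g * N.x a * g⁻¹ * g)⁻¹ * g = (N.x a)⁻¹ := by group
      rw [h1]
      exact inv_mem (hBx a)
    · rw [U3Model.tr_some, phi_some, phi_some, smul_mk, N.mul]
      congr 1
      group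
  s := by
    rintro (_ | t)
    · rw [jj_none, phi_none, phi_some, smul_mk, N.x_one]
      congr 1
      group
    · by_cases ht : t = 1
      · subst ht
        rw [jj_one, phi_none, phi_some, smul_mk, mk_eq, N.x_one]
        have h1 : (g * (e i : K) * g⁻¹ * (g * 1 * (e i : K)))⁻¹ * g = ((e i : K) * (e i : K))⁻¹ := by group
        rw [h1]
        exact inv_mem (P.sq_mem _ (e i).2)
      · rw [jj_some ht, phi_some, phi_some, smul_mk, mk_eq]
        have h1 : (g * (e i : K) * g⁻¹ * (g * N.x t * (e i : K)))⁻¹ * (g * N.x (J t) * (e i : K)) =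
            ((N.x (J t) * (e i : K))⁻¹ * ((e i : K) * N.x t * (e i : K)))⁻¹ := by group
        rw [h1]
        exact inv_mem (N.inv t ht)

include S in
theorem exists_of_mem_UU (g : K) {u : K} (hu : u ∈ UU P U (QuotientGroup.mk g)) :
    ∃ a : Pt σ, ∀ z, u • phi e cs hcs i S Nd N hI g z = phi e cs hcs i S Nd N hI g (tl a z) := by
  have hBx : ∀ a, N.x a ∈ P.B := fun a => S.le (N.mem a)
  rw [mem_UU S] at hu
  obtain ⟨a, ha⟩ := N.cover _ hu
  refine ⟨a, fun z => ?_⟩
  have h1 : u = (g * N.x a * g⁻¹) * (g * ((N.x a)⁻¹ * (g⁻¹ * u * g)) * g⁻¹) := by group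
  have h2 : (g * ((N.x a)⁻¹ * (g⁻¹ * u * g)) * g⁻¹) • phi e cs hcs i S Nd N hI g z =
      phi e cs hcs i S Nd N hI g z := by
    rcases z with _ | t
    · rw [phi_none, smul_mk_eq]
      have h3 : g⁻¹ * (g * ((N.x a)⁻¹ * (g⁻¹ * u * g)) * g⁻¹) * g = (N.x a)⁻¹ * (g⁻¹ * u * g) := by group
      rw [h3]
      exact S.le (Nd.le ha)
    · rw [phi_some, smul_mk]
      have h3 : g * ((N.x a)⁻¹ * (g⁻¹ * u * g)) * g⁻¹ * (g * N.x t * (e i : K)) =
          g * ((N.x a)⁻¹ * (g⁻¹ * u * g)) * N.x t * (e i : K) := by group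
      rw [h3, mk_eq]
      have h4 : (g * ((N.x a)⁻¹ * (g⁻¹ * u * g)) * N.x t * (e i : K))⁻¹ * (g * N.x t * (e i : K)) =
          ((e i : K)⁻¹ * ((N.x t)⁻¹ * ((N.x a)⁻¹ * (g⁻¹ * u * g)) * (N.x t)⁻¹⁻¹) * (e i : K))⁻¹ := by group
      rw [h4]
      exact inv_mem (S.le (Nd.le (Nd.conj_s _ (Nd.conj_B _ (inv_mem (hBx t)) _ ha))))
  rw [h1, mul_smul, h2]
  exact (mod_phi S e cs hcs i Nd N hI g).X a z

end

/-- **Simple groups with a split (B,N)-pair of rank one and unitary type.** -/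
theorem eq_one_of_uNode {K : Type*} [Group K] [Finite K] {p : ℕ} [hp : Fact p.Prime]
    {P : Cfsg.BNPair K} {U V : Subgroup K} {s : K} {F : Type*} [Field F] {σ : F →+* F} [Inv2 σ]
    (hs : P.S = {s}) (S : Split P p U) (Nd : Node P U s V) (hF : UF σ) (N : UNode P U s V σ)
    [Finite F] (IH : ∀ H : Subgroup K, H ≠ ⊤ → Res H) (α : MulAut K)
    (hc : (orderOf α).Coprime (Nat.card K)) (ho : OddC α) : α = 1 := by
  have hN : ((P.B ⊓ P.N).subgroupOf P.N).Normal := normal_subgroupOf P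
  obtain ⟨M, cs, hcs⟩ := S0320.result P
  have hsS : s ∈ P.S := by rw [hs]; rfl
  set e : P.S ≃ P.S := Equiv.refl P.S with he
  set i : P.S := ⟨s, hsS⟩ with hi
  have hI : ∀ j : P.S, j = i := by
    rintro ⟨j, hj⟩
    apply Subtype.ext
    have h1 : j ∈ ({s} : Set K) := hs ▸ hj
    exact h1
  have Nd' : Node P U (e i : K) V := Nd
  let N' : UNode P U (e i : K) V σ := N
  obtain ⟨t, ht, hto⟩ := FixOdd.exists_tw S e cs hcs α
  have hfI : Finite P.S := OfBN.finite_I e
  have hth := thick P e cs hcs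
  have hf : FaithfulSMul K (K ⧸ P.B) := faithful P S.core
  have hfC : Finite (K ⧸ P.B) := inferInstance
  have hθn : t.θ ^ orderOf t.τ = 1 := hto _ (by rw [ht]; exact pow_orderOf_eq_one α)
  have hc' : (orderOf t.τ).Coprime (Nat.card K) := by rw [ht]; exact hc
  set Sy := OfBN.sys e cs hcs S with hSy
  obtain ⟨x0, hx0⟩ := Bld.exists_fixed (S := Sy) hth (SplitRes.utrans e cs hcs S) t hc'
  have hUτ : ∀ x : K ⧸ P.B, ∀ u ∈ UU P U x, t.τ u ∈ UU P U (t.θ x) := fun x u hu =>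
    Bld.τ_mem_U (S := Sy) t hu
  have hUc : ∀ (g : K) (x : K ⧸ P.B), ∀ u ∈ UU P U x, g * u * g⁻¹ ∈ UU P U (g • x) := fun g x u hu =>
    (smul_UU S).2 hu
  induction x0 using QuotientGroup.induction_on with
  | _ g =>
  -- the second fixed point
  have m := mod_phi S e cs hcs i Nd' N' hI g
  set φ := phi e cs hcs i S Nd' N' hI g with hφ
  have hXU : ∀ a, g * N'.x a * g⁻¹ ∈ UU P U (QuotientGroup.mk g) := by
    intro a
    rw [mem_UU S]
    have h1 : g⁻¹ * (g * N'.x a * g⁻¹) * g = N'.x a := by group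
    rw [h1]
    exact N'.mem a
  obtain ⟨b, hb⟩ : ∃ b, t.θ (φ (some 1)) = φ (some b) := by
    obtain ⟨z, hz⟩ := φ.surjective (t.θ (φ (some 1)))
    rcases z with _ | b
    · exfalso
      have h1 : t.θ (φ (some 1)) = t.θ (φ none) := by
        rw [← hz]
        exact hx0.symm
      have h2 := φ.injective (t.θ.injective h1)
      cases h2
    · exact ⟨b, hz.symm⟩
  have hinvU : (UU P U (QuotientGroup.mk g)).map t.τ.toMonoidHom = UU P U (QuotientGroup.mk g) := by
    apply map_eq_of_le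
    intro u hu
    have h1 := hUτ _ u hu
    rwa [hx0] at h1
  obtain ⟨u, hu, hu2⟩ := Glaub.exists_fixed_in_orbit t.τ t.θ t.θ_smul (UU P U (QuotientGroup.mk g)) hinvU
    (hc'.coprime_dvd_right (Subgroup.card_subgroup_dvd_card _)) hθn (φ (some 1))
    ⟨g * N'.x b * g⁻¹, hXU b, by rw [hb, m.X, U3Model.tr_some, mul_one]⟩
  obtain ⟨a, ha⟩ := exists_of_mem_UU S e cs hcs i Nd' N' hI g hu
  rw [← hφ] at ha
  rw [ha, U3Model.tr_some, mul_one] at hu2
  -- the new base point
  set g' := g * N'.x a with hg'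
  have m' := mod_phi S e cs hcs i Nd' N' hI g'
  set φ' := phi e cs hcs i S Nd' N' hI g' with hφ'
  have hmk : (QuotientGroup.mk g' : K ⧸ P.B) = QuotientGroup.mk g := by
    rw [mk_eq]
    have h1 : g'⁻¹ * g = (N'.x a)⁻¹ := by rw [hg']; group
    rw [h1]
    exact inv_mem (S.le (N'.mem a))
  have hn0 : φ' none = (QuotientGroup.mk g' : K ⧸ P.B) := phi_none S e cs hcs i Nd' N' hI g'
  have hnone' : t.θ (φ' none) = φ' none := by
    rw [hn0, hmk]
    exact hx0
  have hone : φ' (some 1) = φ (some a) := by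
    have h1 : φ' (some 1) = (QuotientGroup.mk (g' * N'.x 1 * (e i : K)) : K ⧸ P.B) :=
      phi_some S e cs hcs i Nd' N' hI g' 1
    have h2 : φ (some a) = (QuotientGroup.mk (g * N'.x a * (e i : K)) : K ⧸ P.B) :=
      phi_some S e cs hcs i Nd' N' hI g a
    rw [h1, h2, N'.x_one, hg', mul_one]
  have hone' : t.θ (φ' (some 1)) = φ' (some 1) := by
    rw [hone]
    exact hu2
  have hXU' : ∀ a, g' * N'.x a * g'⁻¹ ∈ UU P U (φ' none) := by
    intro a
    rw [hn0, mem_UU S]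
    have h1 : g'⁻¹ * (g' * N'.x a * g'⁻¹) * g' = N'.x a := by group
    rw [h1]
    exact N'.mem a
  have hXc : ∀ u ∈ UU P U (φ' none), ∃ b, u = g' * N'.x b * g'⁻¹ := by
    intro u hu
    obtain ⟨b, hb⟩ := exists_of_mem_UU S e cs hcs i Nd' N' hI g' hu
    refine ⟨b, ?_⟩
    apply hf.eq_of_smul_eq_smul (α := K ⧸ P.B)
    intro c
    obtain ⟨z, rfl⟩ := φ'.surjective c
    rw [m'.X]
    exact hb z
  have hact : Act φ' (fun a => g' * N'.x a * g'⁻¹) (g' * (e i : K) * g'⁻¹) t.τ t.θ := by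
    refine ⟨t.θ_smul, hnone', hone', fun a => ?_, fun a => ?_⟩
    · have h1 := hUτ _ _ (hXU' a)
      rw [hnone'] at h1
      exact hXc _ h1
    · set s' := g' * (e i : K) * g'⁻¹ with hs'
      have h1 := hUc s' _ _ (hXU' a)
      have hsn : s' • φ' none = φ' (some 1) := by rw [m'.s, jj_none]
      rw [hsn] at h1
      have h2 := hUτ _ _ h1
      rw [hone'] at h2
      have h3 := hUc s'⁻¹ _ _ h2
      have h4 : s'⁻¹ • φ' (some 1) = φ' none := by rw [inv_smul_eq_iff, hsn]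
      rw [h4, inv_inv] at h3
      obtain ⟨b, hb⟩ := hXc _ h3
      refine ⟨b, ?_⟩
      rw [← hb]
      group
  rw [← ht]
  exact RankU.eq_one hF m' hact SplitRes.homog hc' (by rw [ht]; exact ho) hθn IH

end Cfsg.Agent.H519.PsuRes
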