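import Cfsg.Agent.H519.CopRed

/-!
# Transport of the statements along isomorphisms

`Triv K` : with the statement for the proper subgroups, the coprime automorphisms with commutators of odd order are
trivial.
-/

set_option autoImplicit false

namespace Cfsg.Agent.H519.CopRed

open Subgroup Cfsg Cfsg.Agent.Lib.Cores

/-- The inductive statement for a simple group. -/
def Triv (K : Type*) [Group K] : Prop :=
  (∀ H : Subgroup K, H ≠ ⊤ → Res H) → ∀ α : MulAut K, (orderOf α).Coprime (Nat.card K) → OddC α → α = 1

section

variable {G H : Type*} [Group G] [Group H] (e : G ≃* H)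

theorem OddC.congr {α : MulAut G} (h : OddC α) : OddC (MulAut.congr e α) := by
  intro x
  have h1 : x⁻¹ * (MulAut.congr e α) x = e ((e.symm x)⁻¹ * α (e.symm x)) := by
    rw [map_mul, map_inv, e.apply_symm_apply]
    rfl
  rw [h1, MulEquiv.orderOf_eq]
  exact h _

theorem coprime_congr {α : MulAut G} (h : (orderOf α).Coprime (Nat.card G)) :
    (orderOf (MulAut.congr e α)).Coprime (Nat.card H) := by
  rw [MulEquiv.orderOf_eq, ← Nat.card_congr e.toEquiv]
  exact h

include e in
theorem Res.of_equiv (h : Res G) : Res H := by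
  intro α hc ho g
  have h1 := h (MulAut.congr e.symm α) (coprime_congr e.symm hc) (OddC.congr e.symm ho) (e.symm g)
  have h2 : (e.symm g)⁻¹ * (MulAut.congr e.symm α) (e.symm g) = e.symm (g⁻¹ * α g) := by
    rw [map_mul, map_inv]
    congr 1
    change e.symm (α (e (e.symm g))) = _
    rw [e.apply_symm_apply]
  rw [h2] at h1
  have h3 : e (e.symm (g⁻¹ * α g)) ∈ (pPrimeCore 2 G).map e.toMonoidHom := ⟨_, h1, rfl⟩
  rw [map_equiv_pPrimeCore, e.apply_symm_apply] at h3
  exact h3

include e in
theorem Triv.of_equiv (h : Triv G) : Triv H := by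
  intro IH α hc ho
  have h1 := h (fun K hK => by
    have h2 : K.map e.toMonoidHom ≠ ⊤ := by
      intro h3
      apply hK
      rw [eq_top_iff']
      intro x
      obtain ⟨y, hy, he⟩ : e x ∈ K.map e.toMonoidHom := by rw [h3]; trivial
      rwa [← e.injective he]
    exact Res.of_equiv (e.subgroupMap K).symm (IH _ h2)) (MulAut.congr e.symm α) (coprime_congr e.symm hc)
    (OddC.congr e.symm ho)
  apply (MulAut.congr e.symm).injective
  rw [h1, map_one]

end

end Cfsg.Agent.H519.CopRed
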