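import Cfsg.Agent.H991.TwFAb.EvenO
import Cfsg.Agent.Lib.FieldAutCard

/-!
# S5936, task D of helper857: the centraliser in `HO = C(X_5)` of an element of order three

`dd = o 4 1 * o 0 1`; `conj_nf` : conjugation by `dd` in the coordinates of `NO`; `gEg u w s` : the elements of `NO`
commuting with `dd` (every field); `gE u t s = gEg u (t ^ 2) s` when `σ (x ^ 2) = x` (`sig_sq_of_card` : `GF(8)`);
`gE_comm`, `of_NO`, `of_LO`, `of_HO`.
-/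

set_option autoImplicit false
set_option linter.unusedSectionVars false
set_option linter.unusedSimpArgs false

namespace Cfsg.Agent.H519.TwFE

open Cfsg.Agent.SplitTwo Cfsg.Agent.SplitTwo.ZS Cfsg.Agent.TitsThree.RankTwoZ Cfsg.Agent.KFacts.TwF4
open Cfsg.Agent.SplitTwo.RootSysZ

universe u

variable {F : Type*} [Field F] {σ : F →+* F} {G : Type u} [Group G] (S : Full σ G)

/-! ### collection rules -/

section rules

theorem tail {a b c : G} (h : a * b = c) (X : G) : a * (b * X) = c * X := by rw [← mul_assoc, h]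

include S in
theorem two_add (x : F) : x + x = 0 := S.add_self x

theorem m1 (u v : F) : S.e 1 0 u * S.e 1 0 v = S.e 1 0 (u + v) := by rw [S.e_mul, zero_mul, add_zero, add_zero]
theorem m4 (u v : F) : S.e 4 0 u * S.e 4 0 v = S.e 4 0 (u + v) := by rw [S.e_mul, zero_mul, add_zero, add_zero]
theorem mo (a : ZMod 8) (u v : F) : S.o a u * S.o a v = S.o a (u + v) := S.o_add a u v
theorem me (a : ZMod 8) (p u q v : F) : S.e a p u * S.e a q v = S.e a (p + q) (u + v + p * σ q) := S.e_mul a p u q v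

theorem B1A1 (t u : F) : S.o 1 t * S.e 1 0 u = S.e 1 0 u * S.o 1 t := (S.e_o0 1 0 u t).symm
theorem A2A1 (q v u : F) : S.e 2 q v * S.e 1 0 u = S.e 1 0 u * S.e 2 q v := by
  have h : S.e 1 0 u * S.e 2 q v = S.e 2 q v * S.e 1 0 u * S.o 1 (0 * q) := S.e_e1 1 0 u q v
  rw [zero_mul, S.o_zero, mul_one] at h
  exact h.symm
theorem A2B1 (q v t : F) : S.e 2 q v * S.o 1 t = S.o 1 t * S.e 2 q v := (S.o_e1 1 t q v).symm
theorem B2A1 (s u : F) : S.o 2 s * S.e 1 0 u = S.e 1 0 u * S.o 2 s := by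
  have h : S.e 1 0 u * S.o 2 s = S.o 2 s * S.e 1 0 u * S.e 2 0 (0 * s) := S.e_o1 1 0 u s
  rw [zero_mul, S.e_zero, mul_one] at h
  exact h.symm
theorem B2B1 (s t : F) : S.o 2 s * S.o 1 t = S.o 1 t * S.o 2 s := (S.o_o1 1 t s).symm
theorem B2A2 (s q v : F) : S.o 2 s * S.e 2 q v = S.e 2 q v * S.o 2 s := (S.e_o0 2 q v s).symm
theorem A3A1 (q v u : F) : S.e 3 q v * S.e 1 0 u = S.e 1 0 u * S.e 3 q v := (S.e_e2 1 0 u q v).symm
theorem A3B2 (q v t : F) : S.e 3 q v * S.o 2 t = S.o 2 t * S.e 3 q v := (S.o_e1 2 t q v).symm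
theorem A3A20 (q v u : F) : S.e 3 q v * S.e 2 0 u = S.e 2 0 u * S.e 3 q v := by
  have h : S.e 2 0 u * S.e 3 q v = S.e 3 q v * S.e 2 0 u * S.o 2 (0 * q) := S.e_e1 2 0 u q v
  rw [zero_mul, S.o_zero, mul_one] at h
  exact h.symm
theorem o_inv (a : ZMod 8) (t : F) : (S.o a t)⁻¹ = S.o a t :=
  inv_eq_of_mul_eq_one_left (by rw [S.o_add, S.add_self, S.o_zero])
theorem e0_inv (a : ZMod 8) (u : F) : (S.e a 0 u)⁻¹ = S.e a 0 u :=
  inv_eq_of_mul_eq_one_left (by rw [S.e_mul, zero_mul, add_zero, add_zero, S.add_self, S.e_zero])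
theorem e0_sq (a : ZMod 8) (u : F) : S.e a 0 u * S.e a 0 u = 1 := by
  rw [S.e_mul, zero_mul, add_zero, add_zero, S.add_self, S.e_zero]
theorem o_sq (a : ZMod 8) (t : F) : S.o a t * S.o a t = 1 := by rw [S.o_add, S.add_self, S.o_zero]

theorem swap {x y z : G} (h : x * y = y * x * z) (hz : z * z = 1) (hc : y * z = z * y) : y * x = x * (z * y) := by
  rw [← hc, ← mul_assoc, h, mul_assoc, mul_assoc, hz, mul_one]

theorem A3B1 (q v t : F) : S.e 3 q v * S.o 1 t = S.o 1 t * (S.e 2 0 (t * q) * S.e 3 q v) :=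
  swap (S.o_e2 1 t q v) (e0_sq S 2 _) (A3A20 S q v _)
theorem A3A2 (q v p u : F) : S.e 3 q v * S.e 2 p u = S.e 2 p u * (S.o 2 (p * q) * S.e 3 q v) :=
  swap (S.e_e1 2 p u q v) (o_sq S 2 _) (A3B2 S q v _)
theorem B3B1 (s t : F) : S.o 3 s * S.o 1 t = S.o 1 t * S.o 3 s := (S.o_o2 1 t s).symm
theorem B3A3 (s q v : F) : S.o 3 s * S.e 3 q v = S.e 3 q v * S.o 3 s := (S.e_o0 3 q v s).symm
theorem B3A2 (s p u : F) : S.o 3 s * S.e 2 p u = S.e 2 p u * (S.e 3 0 (p * s) * S.o 3 s) :=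
  swap (S.e_o1 2 p u s) (e0_sq S 3 _) (B3A3 S s _ _)
theorem B3A20 (s u : F) : S.o 3 s * S.e 2 0 u = S.e 2 0 u * S.o 3 s := by
  rw [B3A2, zero_mul, S.e_zero, one_mul]
theorem B3B2 (s t : F) : S.o 3 s * S.o 2 t = S.o 2 t * S.o 3 s := (S.o_o1 2 t s).symm
theorem B3A1 (s u : F) : S.o 3 s * S.e 1 0 u = S.e 1 0 u * (S.e 2 0 (u * s) * S.o 3 s) := by
  refine swap ?_ (e0_sq S 2 _) (B3A20 S s _)
  have h : S.e 1 0 u * S.o 3 s = S.o 3 s * S.e 1 0 u * S.e 2 0 (0 * σ 0 * s + u * s) * S.o 2 (σ 0 * s) * S.e 3 0 (0 * σ s) :=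
    S.e_o2 1 0 u s
  rw [h, map_zero, zero_mul, zero_mul, zero_mul, zero_add, S.o_zero, S.e_zero, mul_one, mul_one]
theorem A4A2 (v p u : F) : S.e 4 0 v * S.e 2 p u = S.e 2 p u * S.e 4 0 v := (S.e_e2 2 p u 0 v).symm
theorem A4B2 (v t : F) : S.e 4 0 v * S.o 2 t = S.o 2 t * S.e 4 0 v := by
  have h : S.o 2 t * S.e 4 0 v = S.e 4 0 v * S.o 2 t * S.e 3 0 (t * 0) := S.o_e2 2 t 0 v
  rw [mul_zero, S.e_zero, mul_one] at h
  exact h.symm
theorem A4A3 (v p u : F) : S.e 4 0 v * S.e 3 p u = S.e 3 p u * S.e 4 0 v := by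
  have h : S.e 3 p u * S.e 4 0 v = S.e 4 0 v * S.e 3 p u * S.o 3 (p * 0) := S.e_e1 3 p u 0 v
  rw [mul_zero, S.o_zero, mul_one] at h
  exact h.symm
theorem A4B3 (v t : F) : S.e 4 0 v * S.o 3 t = S.o 3 t * S.e 4 0 v := (S.o_e1 3 t 0 v).symm
theorem A4B1 (v t : F) : S.e 4 0 v * S.o 1 t = S.o 1 t * (S.e 3 0 (t * v) * S.e 4 0 v) := by
  refine swap ?_ (e0_sq S 3 _) (A4A3 S v _ _)
  have h : S.o 1 t * S.e 4 0 v = S.e 4 0 v * S.o 1 t * S.e 2 0 (σ t * 0) * S.o 2 (t * σ 0) * S.e 3 0 (t * 0 * σ 0 + t * v) :=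
    S.o_e3 1 t 0 v
  rw [h, map_zero, mul_zero, mul_zero, mul_zero, zero_add, S.o_zero, S.e_zero, mul_one, mul_one]
theorem A4A1 (v u : F) : S.e 4 0 v * S.e 1 0 u =
    S.e 1 0 u * (S.e 2 0 (σ u * v) * (S.o 2 (u * v) * (S.e 3 0 (u * σ v) * S.e 4 0 v))) := by
  have h : S.e 1 0 u * S.e 4 0 v = S.e 4 0 v * S.e 1 0 u * (S.e 2 0 (σ u * v) * S.o 2 (u * v) * S.e 3 0 (u * σ v)) := by
    have h0 := S.e_e3 1 0 u 0 v
    have e : (1 : ZMod 8) + 3 = 4 := by decide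
    have e1 : (1 : ZMod 8) + 1 = 2 := by decide
    have e2 : (1 : ZMod 8) + 2 = 3 := by decide
    rw [e, e1, e2] at h0
    simp only [map_zero, zero_mul, mul_zero, zero_add, add_zero, S.o_zero, S.e_zero, mul_one] at h0
    rw [h0]
    simp only [mul_assoc]
  have hz : (S.e 2 0 (σ u * v) * S.o 2 (u * v) * S.e 3 0 (u * σ v)) * (S.e 2 0 (σ u * v) * S.o 2 (u * v) * S.e 3 0 (u * σ v)) = 1 := by
    calc (S.e 2 0 (σ u * v) * S.o 2 (u * v) * S.e 3 0 (u * σ v)) * (S.e 2 0 (σ u * v) * S.o 2 (u * v) * S.e 3 0 (u * σ v)) =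
        S.e 2 0 (σ u * v) * S.o 2 (u * v) * (S.e 3 0 (u * σ v) * S.e 2 0 (σ u * v)) * (S.o 2 (u * v) * S.e 3 0 (u * σ v)) := by group
      _ = S.e 2 0 (σ u * v) * (S.o 2 (u * v) * S.e 2 0 (σ u * v)) * (S.e 3 0 (u * σ v) * S.o 2 (u * v)) * S.e 3 0 (u * σ v) := by
          rw [A3A20]; group
      _ = (S.e 2 0 (σ u * v) * S.e 2 0 (σ u * v)) * (S.o 2 (u * v) * S.o 2 (u * v)) * (S.e 3 0 (u * σ v) * S.e 3 0 (u * σ v)) := by
          rw [A3B2, B2A2]; group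
      _ = 1 := by rw [e0_sq, o_sq, e0_sq, one_mul, one_mul]
  have hc : S.e 4 0 v * (S.e 2 0 (σ u * v) * S.o 2 (u * v) * S.e 3 0 (u * σ v)) =
      (S.e 2 0 (σ u * v) * S.o 2 (u * v) * S.e 3 0 (u * σ v)) * S.e 4 0 v := by
    rw [← mul_assoc, ← mul_assoc, A4A2, mul_assoc _ (S.e 4 0 v), A4B2, mul_assoc _ _ (S.e 3 0 _), mul_assoc _ (S.e 4 0 v), A4A3]
    group
  rw [swap h hz hc]
  simp only [mul_assoc]

/-! #### moving `o 0 1` to the right -/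

theorem cA1 (u : F) : S.o 0 1 * S.e 1 0 u = S.e 1 0 u * S.o 0 1 := S.o_e1 0 1 0 u
theorem cB1 (t : F) : S.o 0 1 * S.o 1 t = S.o 1 t * S.o 0 1 := S.o_o1 0 1 t
theorem cA2 (q v : F) : S.o 0 1 * S.e 2 q v = S.e 1 0 q * (S.e 2 q v * S.o 0 1) := by
  have h : S.o 0 1 * S.e 2 q v = S.e 2 q v * S.o 0 1 * S.e 1 0 (1 * q) := S.o_e2 0 1 q v
  rw [one_mul] at h
  rw [h, mul_assoc, cA1, ← mul_assoc, A2A1, mul_assoc]
theorem cB2 (t : F) : S.o 0 1 * S.o 2 t = S.o 2 t * S.o 0 1 := S.o_o2 0 1 t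
theorem cA3 (q v : F) : S.o 0 1 * S.e 3 q v =
    S.e 3 q v * (S.o 0 1 * (S.e 1 0 q * (S.o 1 (σ q) * S.e 2 0 (q * σ q + v)))) := by
  have h : S.o 0 1 * S.e 3 q v = S.e 3 q v * S.o 0 1 * S.e 1 0 (σ 1 * q) * S.o 1 (1 * σ q) * S.e 2 0 (1 * q * σ q + 1 * v) :=
    S.o_e3 0 1 q v
  rw [h]
  simp only [map_one, one_mul, mul_assoc]
theorem cB3 (s : F) : S.o 0 1 * S.o 3 s = S.o 3 s * (S.o 0 1 * (S.o 1 s * S.o 2 (σ s))) := by
  have h : S.o 0 1 * S.o 3 s = S.o 3 s * S.o 0 1 * S.o 1 (σ 1 * s) * S.o 2 (1 * σ s) := S.o_o3 0 1 s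
  rw [h]
  simp only [map_one, one_mul, mul_assoc]
theorem cA4 (v : F) : S.o 0 1 * S.e 4 0 v = S.e 4 0 v * (S.o 0 1 * (S.e 1 0 v * (S.o 1 (σ v) * (S.e 2 v (v * σ v) *
    (S.o 2 (v * v) * (S.e 3 v 0 * S.o 3 (σ v))))))) := by
  have h0 := S.o_e4 0 1 0 v
  have e : (0 : ZMod 8) + 4 = 4 := by decide
  have e1 : (0 : ZMod 8) + 1 = 1 := by decide
  have e2 : (0 : ZMod 8) + 2 = 2 := by decide
  have e3 : (0 : ZMod 8) + 3 = 3 := by decide
  rw [e, e1, e2, e3] at h0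
  simp only [map_zero, map_one, zero_mul, mul_zero, zero_add, add_zero, mul_one, one_mul] at h0
  rw [h0]
  simp only [mul_assoc]

end rules

/-- the normal form of the elements of `NO` -/
def nf (u1 t1 p2 u2 t2 p3 u3 t3 u4 : F) : G :=
  S.e 1 0 u1 * (S.o 1 t1 * (S.e 2 p2 u2 * (S.o 2 t2 * (S.e 3 p3 u3 * (S.o 3 t3 * S.e 4 0 u4)))))

/-- conjugation of `nf` by `dd` -/
theorem conj_nf (u1 t1 p2 u2 t2 p3 u3 t3 u4 : F) :
    S.o 0 1 * (S.n1 * nf S u1 t1 p2 u2 t2 p3 u3 t3 u4 * S.n1⁻¹) =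
      nf S (p2 + p3 + u1 + u4) (σ p2 + t1 + t3 + σ u1) (p3 + u1)
        (p2 * t1 + p2 * t3 + p2 * σ u1 + p3 * t1 + p3 * σ u1 + t1 * u1 + t1 * u4 + t3 * u1 + u1 * σ u1 + u1 * σ u4 + σ u1 * u4 + u2 + u3)
        (p2 * p3 + p2 * u1 + σ t1 + t2 + u1 * u4 + u1 ^ 2) (p2 + u1)
        (p2 * σ u1 + p3 * t1 + t1 * u1 + t3 * u1 + σ u1 * u4 + u2) (t1 + σ u1) u1 * S.o 0 1 := by
  have h1 : S.n1 * nf S u1 t1 p2 u2 t2 p3 u3 t3 u4 * S.n1⁻¹ =
      S.e 4 0 u1 * (S.o 3 t1 * (S.e 3 p2 u2 * (S.o 2 t2 * (S.e 2 p3 u3 * (S.o 1 t3 * S.e 1 0 u4))))) := by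
    have hc : ∀ x y : G, S.n1 * (x * y) * S.n1⁻¹ = (S.n1 * x * S.n1⁻¹) * (S.n1 * y * S.n1⁻¹) := fun x y => by group
    have e1 := S.n1_e 1 0 u1
    have e2 := S.n1_o 1 t1
    have e3 := S.n1_e 2 p2 u2
    have e4 := S.n1_o 2 t2
    have e5 := S.n1_e 3 p3 u3
    have e6 := S.n1_o 3 t3
    have e7 := S.n1_e 4 0 u4
    rw [nf, hc, hc, hc, hc, hc, hc, e1, e2, e3, e4, e5, e6, e7]
    have k1 : (5 : ZMod 8) - 1 = 4 := by decide
    have k2 : (4 : ZMod 8) - 1 = 3 := by decide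
    have k3 : (5 : ZMod 8) - 2 = 3 := by decide
    have k4 : (4 : ZMod 8) - 2 = 2 := by decide
    have k5 : (5 : ZMod 8) - 3 = 2 := by decide
    have k6 : (4 : ZMod 8) - 3 = 1 := by decide
    have k7 : (5 : ZMod 8) - 4 = 1 := by decide
    rw [k1, k2, k3, k4, k5, k6, k7]
  rw [h1, nf]
  simp only [mul_assoc, cA1, cB1, cA2, cB2, cA3, cB3, cA4, tail (cA1 S _), tail (cB1 S _), tail (cA2 S _ _), tail (cB2 S _),
    tail (cA3 S _ _), tail (cB3 S _), tail (cA4 S _)]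
  simp only [mul_assoc, tail (B1A1 S _ _), tail (A2A1 S _ _ _), tail (A2B1 S _ _ _), tail (B2A1 S _ _), tail (B2B1 S _ _),
    tail (B2A2 S _ _ _), tail (A3A1 S _ _ _), tail (A3B2 S _ _ _), tail (A3B1 S _ _ _), tail (A3A2 S _ _ _ _),
    tail (B3B1 S _ _), tail (B3A3 S _ _ _), tail (B3A2 S _ _ _), tail (B3B2 S _ _), tail (B3A1 S _ _),
    tail (A4A2 S _ _ _), tail (A4B2 S _ _), tail (A4A3 S _ _ _), tail (A4B3 S _ _), tail (A4B1 S _ _), tail (A4A1 S _ _),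
    tail (m1 S _ _), tail (m4 S _ _), tail (mo S _ _ _), tail (me S _ _ _ _ _)]
  simp only [map_add, map_zero, S.sq]
  have h2 := S.two
  refine congrArg₂ (· * ·) (congrArg (S.e 1 0) ?_) (congrArg₂ (· * ·) (congrArg (S.o 1) ?_)
    (congrArg₂ (· * ·) (congrArg₂ (S.e 2) ?_ ?_) (congrArg₂ (· * ·) (congrArg (S.o 2) ?_)
    (congrArg₂ (· * ·) (congrArg₂ (S.e 3) ?_ ?_) (congrArg₂ (· * ·) (congrArg (S.o 3) ?_) rfl)))))
  all_goals grind

/-! ### uniqueness of the normal form -/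

theorem peel {k : ℤ} (hk : 1 ≤ k) {a a' X X' : G} (ha : a ∈ S.XZ k) (ha' : a' ∈ S.XZ k) (hX : X ∈ J S.XZ (k + 1) 8)
    (hX' : X' ∈ J S.XZ (k + 1) 8) (h : a * X = a' * X') : a = a' ∧ X = X' := by
  have h1 : a'⁻¹ * a = X' * X⁻¹ := by
    have : a'⁻¹ * (a * X) * X⁻¹ = a'⁻¹ * (a' * X') * X⁻¹ := by rw [h]
    simpa [mul_assoc] using this
  have h2 : a'⁻¹ * a = 1 := S.zsys8.inter k _ (mul_mem (inv_mem ha') ha) (by
    rw [h1]
    exact J_mono le_rfl (by omega) (mul_mem hX' (inv_mem hX)))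
  have h3 : a = a' := (inv_mul_eq_one.1 h2).symm
  subst h3
  exact ⟨rfl, mul_left_cancel h⟩

theorem nf_inj {u1 t1 p2 u2 t2 p3 u3 t3 u4 u1' t1' p2' u2' t2' p3' u3' t3' u4' : F}
    (h : nf S u1 t1 p2 u2 t2 p3 u3 t3 u4 = nf S u1' t1' p2' u2' t2' p3' u3' t3' u4') :
    u1 = u1' ∧ t1 = t1' ∧ p2 = p2' ∧ u2 = u2' ∧ t2 = t2' ∧ p3 = p3' ∧ u3 = u3' ∧ t3 = t3' ∧ u4 = u4' := by
  have j8 : ∀ u, S.e 4 0 u ∈ J S.XZ 8 8 := fun u => mem_J (S.mX8 0 u) (by norm_num) (by norm_num)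
  have j7 : ∀ t u, S.o 3 t * S.e 4 0 u ∈ J S.XZ 7 8 := fun t u =>
    mul_mem (mem_J (S.mX7 t) (by norm_num) (by norm_num)) (J_mono (by norm_num) le_rfl (j8 u))
  have j6 : ∀ p v t u, S.e 3 p v * (S.o 3 t * S.e 4 0 u) ∈ J S.XZ 6 8 := fun p v t u =>
    mul_mem (mem_J (S.mX6 p v) (by norm_num) (by norm_num)) (J_mono (by norm_num) le_rfl (j7 t u))
  have j5 : ∀ s p v t u, S.o 2 s * (S.e 3 p v * (S.o 3 t * S.e 4 0 u)) ∈ J S.XZ 5 8 := fun s p v t u =>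
    mul_mem (mem_J (S.mX5 s) (by norm_num) (by norm_num)) (J_mono (by norm_num) le_rfl (j6 p v t u))
  have j4 : ∀ q w s p v t u, S.e 2 q w * (S.o 2 s * (S.e 3 p v * (S.o 3 t * S.e 4 0 u))) ∈ J S.XZ 4 8 := fun q w s p v t u =>
    mul_mem (mem_J (S.mX4 q w) (by norm_num) (by norm_num)) (J_mono (by norm_num) le_rfl (j5 s p v t u))
  have j3 : ∀ x q w s p v t u, S.o 1 x * (S.e 2 q w * (S.o 2 s * (S.e 3 p v * (S.o 3 t * S.e 4 0 u)))) ∈ J S.XZ 3 8 :=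
    fun x q w s p v t u =>
    mul_mem (mem_J (S.mX3 x) (by norm_num) (by norm_num)) (J_mono (by norm_num) le_rfl (j4 q w s p v t u))
  obtain ⟨a1, h⟩ := peel S (k := 2) (by norm_num) (S.mX2 0 _) (S.mX2 0 _) (j3 _ _ _ _ _ _ _ _) (j3 _ _ _ _ _ _ _ _) h
  obtain ⟨a2, h⟩ := peel S (k := 3) (by norm_num) (S.mX3 _) (S.mX3 _) (j4 _ _ _ _ _ _ _) (j4 _ _ _ _ _ _ _) h
  obtain ⟨a3, h⟩ := peel S (k := 4) (by norm_num) (S.mX4 _ _) (S.mX4 _ _) (j5 _ _ _ _ _) (j5 _ _ _ _ _) h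
  obtain ⟨a4, h⟩ := peel S (k := 5) (by norm_num) (S.mX5 _) (S.mX5 _) (j6 _ _ _ _) (j6 _ _ _ _) h
  obtain ⟨a5, h⟩ := peel S (k := 6) (by norm_num) (S.mX6 _ _) (S.mX6 _ _) (j7 _ _) (j7 _ _) h
  obtain ⟨a6, h⟩ := peel S (k := 7) (by norm_num) (S.mX7 _) (S.mX7 _) (j8 _) (j8 _) h
  exact ⟨(S.injE _ _ _ _ _ a1).2, S.injO _ a2, (S.injE _ _ _ _ _ a3).1, (S.injE _ _ _ _ _ a3).2, S.injO _ a4,
    (S.injE _ _ _ _ _ a5).1, (S.injE _ _ _ _ _ a5).2, S.injO _ a6, (S.injE _ _ _ _ _ h).2⟩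

theorem exists_nf {r : G} (hr : r ∈ S.NO) : ∃ u1 t1 p2 u2 t2 p3 u3 t3 u4, r = nf S u1 t1 p2 u2 t2 p3 u3 t3 u4 := by
  obtain ⟨u1, u4, r', hr', e0⟩ := S.mem_NO_iff.1 hr
  have Z8 := S.zsys8
  obtain ⟨x3, h3, r4, hr4, e3⟩ := Z8.split_ll (a := 3) (b := 7) (by norm_num) (by norm_num) hr'
  have hr4' : r4 ∈ J S.XZ 4 7 := hr4
  obtain ⟨x4, h4, r5, hr5, e4⟩ := Z8.split_ll (a := 4) (b := 7) (by norm_num) (by norm_num) hr4'
  have hr5' : r5 ∈ J S.XZ 5 7 := hr5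
  obtain ⟨x5, h5, r6, hr6, e5⟩ := Z8.split_ll (a := 5) (b := 7) (by norm_num) (by norm_num) hr5'
  have hr6' : r6 ∈ J S.XZ 6 7 := hr6
  obtain ⟨x6, h6, x7, hr7, e6⟩ := Z8.split_ll (a := 6) (b := 7) (by norm_num) (by norm_num) hr6'
  have hr7' : x7 ∈ J S.XZ 7 7 := hr7
  have h7 : x7 ∈ S.XZ 7 := mem_of_J_self hr7' le_rfl
  obtain ⟨t1, k1⟩ := S.X3 h3
  obtain ⟨p2, u2, k2⟩ := S.X4 h4
  obtain ⟨t2, k3⟩ := S.X5 h5
  obtain ⟨p3, u3, k4⟩ := S.X6 h6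
  obtain ⟨t3, k5⟩ := S.X7 h7
  refine ⟨u1, t1, p2, u2, t2, p3, u3, t3, u4, ?_⟩
  rw [nf, e0, e3, e4, e5, e6, k1, k2, k3, k4, k5]
  simp only [mul_assoc]

/-! ### the centraliser of `dd` in `NO` -/

/-- an element of order three of `LO` -/
def dd : G := S.o 4 1 * S.o 0 1

theorem dd_eq : dd S = S.o 0 1 * S.n1 := by
  rw [dd, S.n1_word, ← mul_assoc, ← mul_assoc, o_sq, one_mul]

theorem dd_LO : dd S ∈ S.LO := mul_mem (Subgroup.mem_sup_right (S.mX9 1)) (Subgroup.mem_sup_left (S.mX1 1))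

/-- `nf` commutes with `dd` iff the coordinates agree -/
theorem comm_iff {r : G} : r * dd S = dd S * r ↔ S.o 0 1 * (S.n1 * r * S.n1⁻¹) = r * S.o 0 1 := by
  rw [dd_eq]
  constructor
  · intro h
    calc S.o 0 1 * (S.n1 * r * S.n1⁻¹) = (S.o 0 1 * S.n1 * r) * S.n1⁻¹ := by group
      _ = r * S.o 0 1 := by rw [← h]; group
  · intro h
    calc r * (S.o 0 1 * S.n1) = (r * S.o 0 1) * S.n1 := by group
      _ = S.o 0 1 * S.n1 * r := by rw [← h]; group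

/-- the elements of `NO` commuting with `dd` -/
def gEg (u w s : F) : G :=
  S.e 1 0 u * S.o 1 (σ w) * S.e 2 w (u * σ w + u * σ u) * S.o 2 s * S.e 3 (w + u) (w * σ w + w * σ u + u * σ u) *
    S.o 3 (σ w + σ u) * S.e 4 0 u

theorem gEg_eq (u w s : F) : gEg S u w s = nf S u (σ w) w (u * σ w + u * σ u) s (w + u) (w * σ w + w * σ u + u * σ u)
    (σ w + σ u) u := by
  rw [gEg, nf]
  simp only [mul_assoc]

theorem gEg_comm (u w s : F) : gEg S u w s * dd S = dd S * gEg S u w s := by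
  rw [comm_iff, gEg_eq, conj_nf]
  congr 1
  have h2 := S.two
  have hs := S.sq w
  congr 1 <;> grind

theorem of_NO_gen {r : G} (hr : r ∈ S.NO) (h : r * dd S = dd S * r) : ∃ u w s, r = gEg S u w s := by
  obtain ⟨u1, t1, p2, u2, t2, p3, u3, t3, u4, rfl⟩ := exists_nf S hr
  rw [comm_iff, conj_nf] at h
  obtain ⟨a1, a2, a3, a4, a5, a6, a7, a8, a9⟩ := nf_inj S (mul_right_cancel h)
  have h2 := S.two
  have b4 : u4 = u1 := a9.symm
  have b3 : p3 = p2 + u1 := a6.symm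
  have b8 : t3 = t1 + σ u1 := a8.symm
  subst b4 b3 b8
  have hs : σ t1 = σ (σ p2) := by
    rw [S.sq]
    grind
  have b1 : t1 = σ p2 := σ.injective hs
  subst b1
  have b7 : u3 = p2 * σ p2 + p2 * σ u4 + u4 * σ u4 := by grind
  have b2 : u2 = u4 * σ p2 + u4 * σ u4 := by grind
  exact ⟨u4, p2, t2, by rw [gEg_eq, ← b7, ← b2]⟩

/-! ### the natural module of `LO` -/

/-- the elements of `W46` -/
def ww (u v : F) : G := S.e 2 0 u * S.e 3 0 v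

theorem ww_inj {u v u' v' : F} (h : ww S u v = ww S u' v') : u = u' ∧ v = v' := by
  obtain ⟨a, h⟩ := peel S (k := 4) (by norm_num) (S.mX4 0 u) (S.mX4 0 u')
    (mem_J (S.mX6 0 v) (by norm_num) (by norm_num)) (mem_J (S.mX6 0 v') (by norm_num) (by norm_num)) h
  exact ⟨(S.injE _ _ _ _ _ a).2, (S.injE _ _ _ _ _ h).2⟩

/-- `l` acts by a matrix -/
def Acts (l : G) (p q r s : F) : Prop := ∀ u v, l * ww S u v = ww S (p * u + q * v) (r * u + s * v) * l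

variable {S}

theorem Acts.mul {l l' : G} {p q r s p' q' r' s' : F} (h : Acts S l p q r s) (h' : Acts S l' p' q' r' s') :
    Acts S (l * l') (p * p' + q * r') (p * q' + q * s') (r * p' + s * r') (r * q' + s * s') := by
  intro u v
  rw [mul_assoc, h', ← mul_assoc, h, mul_assoc]
  congr 2 <;> ring

theorem Acts.unique {l : G} {p q r s p' q' r' s' : F} (h : Acts S l p q r s) (h' : Acts S l p' q' r' s') :
    p = p' ∧ q = q' ∧ r = r' ∧ s = s' := by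
  have h1 := ww_inj S (mul_right_cancel ((h 1 0).symm.trans (h' 1 0)))
  have h2 := ww_inj S (mul_right_cancel ((h 0 1).symm.trans (h' 0 1)))
  simp only [mul_one, mul_zero, add_zero, zero_add] at h1 h2
  exact ⟨h1.1, h2.1, h1.2, h2.2⟩

variable (S)

theorem acts_o0 (t : F) : Acts S (S.o 0 t) 1 t 0 1 := by
  intro u v
  have c2 : S.o 0 t * S.e 2 0 u = S.e 2 0 u * S.o 0 t := by
    have h : S.o 0 t * S.e 2 0 u = S.e 2 0 u * S.o 0 t * S.e 1 0 (t * 0) := S.o_e2 0 t 0 u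
    rw [mul_zero, S.e_zero, mul_one] at h
    exact h
  have c2' : S.o 0 t * S.e 2 0 (t * v) = S.e 2 0 (t * v) * S.o 0 t := by
    have h : S.o 0 t * S.e 2 0 (t * v) = S.e 2 0 (t * v) * S.o 0 t * S.e 1 0 (t * 0) := S.o_e2 0 t 0 (t * v)
    rw [mul_zero, S.e_zero, mul_one] at h
    exact h
  have c3 : S.o 0 t * S.e 3 0 v = S.e 3 0 v * S.o 0 t * S.e 2 0 (t * v) := by
    have h : S.o 0 t * S.e 3 0 v = S.e 3 0 v * S.o 0 t * S.e 1 0 (σ t * 0) * S.o 1 (t * σ 0) * S.e 2 0 (t * 0 * σ 0 + t * v) :=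
      S.o_e3 0 t 0 v
    rw [h, map_zero, mul_zero, mul_zero, mul_zero, zero_add, S.o_zero, S.e_zero, mul_one, mul_one]
  have m : S.e 2 0 u * S.e 2 0 (t * v) = S.e 2 0 (u + t * v) := by rw [S.e_mul, zero_mul, add_zero, add_zero]
  rw [ww, ww, one_mul, zero_mul, zero_add, one_mul]
  calc S.o 0 t * (S.e 2 0 u * S.e 3 0 v) = S.e 2 0 u * (S.o 0 t * S.e 3 0 v) := by rw [← mul_assoc, c2, mul_assoc]
    _ = S.e 2 0 u * S.e 3 0 v * (S.o 0 t * S.e 2 0 (t * v)) := by rw [c3]; simp only [mul_assoc]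
    _ = S.e 2 0 u * (S.e 3 0 v * S.e 2 0 (t * v)) * S.o 0 t := by rw [c2']; simp only [mul_assoc]
    _ = S.e 2 0 (u + t * v) * S.e 3 0 v * S.o 0 t := by rw [A3A20, ← m]; simp only [mul_assoc]

theorem acts_o4 (t : F) : Acts S (S.o 4 t) 1 0 t 1 := by
  intro u v
  have c3 : ∀ v, S.o 4 t * S.e 3 0 v = S.e 3 0 v * S.o 4 t := by
    intro v
    have h : S.e 3 0 v * S.o 4 t = S.o 4 t * S.e 3 0 v * S.e 4 0 (0 * t) := S.e_o1 3 0 v t
    rw [zero_mul, S.e_zero, mul_one] at h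
    exact h.symm
  have c2 : S.o 4 t * S.e 2 0 u = S.e 2 0 u * S.e 3 0 (t * u) * S.o 4 t := by
    have h : S.e 2 0 u * S.o 4 t = S.o 4 t * S.e 2 0 u * S.e 3 0 (0 * σ 0 * t + u * t) * S.o 3 (σ 0 * t) * S.e 4 0 (0 * σ t) :=
      S.e_o2 2 0 u t
    rw [map_zero, zero_mul, zero_mul, zero_mul, zero_add, S.o_zero, S.e_zero, mul_one, mul_one] at h
    have h3 := swap h (e0_sq S 3 _) (c3 _)
    rw [h3, mul_comm u t, mul_assoc]
  have m : S.e 3 0 (t * u) * S.e 3 0 v = S.e 3 0 (t * u + v) := by rw [S.e_mul, zero_mul, add_zero, add_zero]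
  rw [ww, ww, one_mul, zero_mul, add_zero, one_mul]
  calc S.o 4 t * (S.e 2 0 u * S.e 3 0 v) = S.e 2 0 u * S.e 3 0 (t * u) * (S.o 4 t * S.e 3 0 v) := by
        rw [← mul_assoc, c2]; simp only [mul_assoc]
    _ = S.e 2 0 u * (S.e 3 0 (t * u) * S.e 3 0 v) * S.o 4 t := by rw [c3]; simp only [mul_assoc]
    _ = S.e 2 0 u * S.e 3 0 (t * u + v) * S.o 4 t := by rw [m]

theorem acts_dd : Acts S (dd S) 1 1 1 0 := by
  have h := (acts_o4 S 1).mul (acts_o0 S 1)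
  have h2 : (1 : F) + 1 = 0 := S.add_self 1
  simpa [h2, dd] using h

theorem acts_h (c : Fˣ) : Acts S (S.h c c) c 0 0 (c⁻¹ : Fˣ) := by
  intro u v
  have hc : (c : F) ≠ 0 := c.ne_zero
  have hs : σ (c : F) ≠ 0 := (map_ne_zero σ).2 hc
  have h1 : S.h c c * S.e 2 0 u * (S.h c c)⁻¹ = S.e 2 0 (c * u) := by
    rw [S.h_e, mul_zero]
    congr 1
    rw [chE_two]
    simp only [Units.val_div_eq_div_val, Units.coe_map, MonoidHom.coe_coe, map_div₀, S.sq]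
    field_simp
  have h2 : S.h c c * S.e 3 0 v * (S.h c c)⁻¹ = S.e 3 0 ((c⁻¹ : Fˣ) * v) := by
    rw [S.h_e, mul_zero]
    congr 1
    rw [chE_three]
    simp only [Units.val_div_eq_div_val, Units.coe_map, MonoidHom.coe_coe, map_div₀, S.sq, Units.val_inv_eq_inv_val]
    field_simp
  rw [ww, ww, zero_mul, zero_mul, add_zero, zero_add, ← h1, ← h2]
  group

/-- the rank one relation -/
theorem n1_h_eq [Finite F] (c : Fˣ) : S.n1 * S.h c c = S.o 0 (c⁻¹ : Fˣ) * S.o 4 c * S.o 0 (c⁻¹ : Fˣ) := by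
  obtain ⟨d, hd⟩ := H42.Deg.F4.exists_sq S c⁻¹
  have h := H42.Deg.F4.key_rel S d
  rw [hd, inv_inv] at h
  rw [h]
  calc S.n1 * S.h c c = (S.o 0 (c⁻¹ : Fˣ) * S.o 0 (c⁻¹ : Fˣ)) * S.n1 * S.h c c * (S.o 0 (c⁻¹ : Fˣ) * S.o 0 (c⁻¹ : Fˣ)) := by
        rw [o_sq, one_mul, mul_one]
    _ = _ := by simp only [mul_assoc]

/-- the elements of `LO` -/
theorem LO_form [Finite F] {l : G} (hl : l ∈ S.LO) : (∃ a, ∃ c : Fˣ, l = S.o 0 a * S.h c c) ∨
    ∃ a r d, r ≠ 0 ∧ l = S.o 0 a * S.o 4 r * S.o 0 d := by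
  rcases H42.Deg.F4.LO_bruhat S hl with hb | ⟨x, hx, b, hb, rfl⟩
  · left
    obtain ⟨x, hx, t, ⟨c, rfl⟩, rfl⟩ := H42.Deg.F4.BM_form S hb
    obtain ⟨a, rfl⟩ := S.X1 hx
    exact ⟨a, c, rfl⟩
  · right
    obtain ⟨y, hy, t, ⟨c, rfl⟩, rfl⟩ := H42.Deg.F4.BM_form S hb
    obtain ⟨a, rfl⟩ := S.X1 hx
    obtain ⟨z, hz⟩ := S.X1 ((S.T_conj' (t := S.h c c) (S.mem_T.2 ⟨c, c, rfl⟩) 1 hy))
    refine ⟨a + (c⁻¹ : Fˣ), c, (c⁻¹ : Fˣ) + z, c.ne_zero, ?_⟩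
    have e1 : y * S.h c c = S.h c c * S.o 0 z := by rw [hz]; group
    rw [e1, ← S.o_add, ← S.o_add]
    calc S.o 0 a * S.n1 * (S.h c c * S.o 0 z) = S.o 0 a * (S.n1 * S.h c c) * S.o 0 z := by group
      _ = _ := by rw [n1_h_eq]; simp only [mul_assoc]

/-- **D3** -/
theorem of_LO [Finite F] {l : G} (hl : l ∈ S.LO) (h : l * dd S = dd S * l) :
    l = 1 ∨ ∃ a : F, a ^ 2 + a + 1 ≠ 0 ∧ l = S.o 0 a * S.o 4 (a ^ 2 + a + 1)⁻¹ * S.o 0 (a + 1) := by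
  have h2 := S.two
  rcases LO_form S hl with ⟨a, c, rfl⟩ | ⟨a, r, d, hr, rfl⟩
  · left
    have h1 := (acts_o0 S a).mul (acts_h S c)
    have h3 := h1.mul (acts_dd S)
    have h4 := (acts_dd S).mul h1
    rw [h] at h3
    obtain ⟨k1, k2, k3, k4⟩ := h3.unique h4
    have hc : (c : F) ≠ 0 := c.ne_zero
    have hci : (c : F) * ((c⁻¹ : Fˣ) : F) = 1 := by rw [← Units.val_mul, mul_inv_cancel, Units.val_one]
    have ha : a = 0 := by
      have : a * ((c⁻¹ : Fˣ) : F) = 0 := by grind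
      rcases mul_eq_zero.1 this with h | h
      · exact h
      · exact absurd h (Units.ne_zero _)
    subst ha
    have hc1 : c = 1 := by
      apply Units.ext
      rw [Units.val_one]
      have h5 : ((c : F) - 1) * ((c : F) - 1) = 0 := by grind
      rcases mul_eq_zero.1 h5 with h | h <;> exact sub_eq_zero.1 h
    rw [hc1, S.h_one, S.o_zero, one_mul]
  · right
    have h1 := ((acts_o0 S a).mul (acts_o4 S r)).mul (acts_o0 S d)
    have h3 := h1.mul (acts_dd S)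
    have h4 := (acts_dd S).mul h1
    rw [h] at h3
    obtain ⟨k1, k2, k3, k4⟩ := h3.unique h4
    have hd : d = a + 1 := by
      have : r * (d - (a + 1)) = 0 := by grind
      rcases mul_eq_zero.1 this with h | h
      · exact absurd h hr
      · exact sub_eq_zero.1 h
    subst hd
    have hk : r * (a ^ 2 + a + 1) = 1 := by grind
    have hne : a ^ 2 + a + 1 ≠ 0 := by
      intro h0
      rw [h0, mul_zero] at hk
      exact zero_ne_one hk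
    exact ⟨a, hne, by rw [eq_inv_of_mul_eq_one_left hk]⟩

/-- **D4**, general field -/
theorem of_HO_gen [Finite F] [Finite G] (hF : ∃ c : Fˣ, c ≠ 1) {g : G} (hg : g ∈ S.HO) (h : g * dd S = dd S * g) :
    ∃ u w s, g = gEg S u w s ∨ ∃ a : F, a ^ 2 + a + 1 ≠ 0 ∧
      g = gEg S u w s * (S.o 0 a * S.o 4 (a ^ 2 + a + 1)⁻¹ * S.o 0 (a + 1)) := by
  obtain ⟨l, hl, n, hn, rfl⟩ := mem_sup_of_norm (A := S.LO) (B := S.NO) (fun l hl n hn =>
    H991.TwFAb.NO_norm S (Subgroup.mem_sup_left hl) hn) hg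
  set r := l * n * l⁻¹ with hr
  have hrN : r ∈ S.NO := H991.TwFAb.NO_norm S (Subgroup.mem_sup_left hl) hn
  have e : l * n = r * l := by rw [hr]; group
  rw [e] at h ⊢
  have hdH : dd S ∈ S.HO := Subgroup.mem_sup_left (dd_LO S)
  have h1 : (dd S * r * (dd S)⁻¹)⁻¹ * r = dd S * l * (dd S)⁻¹ * l⁻¹ := by
    have h2 : r * (l * dd S) = (dd S * r * (dd S)⁻¹) * (dd S * l) := by
      rw [← mul_assoc, h]; group
    calc (dd S * r * (dd S)⁻¹)⁻¹ * r = (dd S * r * (dd S)⁻¹)⁻¹ * (r * (l * dd S)) * (l * dd S)⁻¹ := by group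
      _ = _ := by rw [h2]; group
  have h2 : (dd S * r * (dd S)⁻¹)⁻¹ * r = 1 := H991.TwFAb.LO_inf_NO S hF
    (by rw [h1]; exact mul_mem (mul_mem (mul_mem (dd_LO S) hl) (inv_mem (dd_LO S))) (inv_mem hl))
    (mul_mem (inv_mem (H991.TwFAb.NO_norm S hdH hrN)) hrN)
  have h3 : r * dd S = dd S * r := by
    have h4 := inv_mul_eq_one.1 h2
    calc r * dd S = (dd S * r * (dd S)⁻¹) * dd S := by rw [h4]
      _ = dd S * r := by group
  have h4 : l * dd S = dd S * l := by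
    rw [h2] at h1
    calc l * dd S = (1 : G) * (l * dd S) := (one_mul _).symm
      _ = dd S * l := by rw [h1]; group
  obtain ⟨u, w, s, hu⟩ := of_NO_gen S hrN h3
  refine ⟨u, w, s, ?_⟩
  rcases of_LO S hl h4 with h5 | ⟨a, ha, h5⟩
  · left
    rw [h5, mul_one, hu]
  · right
    exact ⟨a, ha, by rw [hu, h5]⟩

/-! ### the statements for `F = GF(8)` -/

include S in
/-- over `GF(8)` the map `σ` is the inverse of the squaring map -/
theorem sig_sq_of_card (h8 : Nat.card F = 8) (x : F) : σ (x ^ 2) = x := by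
  have hfin : Finite F := Nat.finite_of_card_ne_zero (by omega)
  have : Fintype F := Fintype.ofFinite F
  have hb : Function.Bijective σ := Finite.injective_iff_bijective.1 σ.injective
  let τ : F ≃+* F := RingEquiv.ofBijective σ hb
  have hτ : ∀ x, τ x = σ x := fun _ => rfl
  have : Fact (Nat.Prime 2) := ⟨Nat.prime_two⟩
  have h3 : Nat.card (F ≃+* F) = 3 := Lib.FieldAutCard.card_ringAut (p := 2) (f := 3) (by norm_num)
    (by rw [← Nat.card_eq_fintype_card, h8]; norm_num)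
  have h4 : τ ^ 3 = 1 := by
    rw [← h3]
    exact pow_card_eq_one'
  have h5 : τ (τ (τ x)) = x := by
    have := congrArg (fun f : F ≃+* F => f x) h4
    simpa [pow_succ] using this
  rw [hτ, hτ, hτ, S.sq x] at h5
  exact h5

/-- the elements of `NO` commuting with `dd`, in the coordinates for `GF(8)` -/
def gE (u t s : F) : G :=
  S.e 1 0 u * S.o 1 t * S.e 2 (t ^ 2) (u * t + u * σ u) * S.o 2 s * S.e 3 (t ^ 2 + u) (t ^ 3 + σ u * t ^ 2 + u * σ u) *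
    S.o 3 (t + σ u) * S.e 4 0 u

variable (hσ : ∀ x : F, σ (x ^ 2) = x)

include hσ

theorem gE_eq (u t s : F) : gE S u t s = gEg S u (t ^ 2) s := by
  rw [gE, gEg, hσ]
  congr 5
  ring

theorem gEg_eq_gE (u w s : F) : gEg S u w s = gE S u (σ w) s := by
  have h : (σ w) ^ 2 = w := by rw [← map_pow, hσ]
  rw [gE_eq S hσ, h]

/-- **D1** -/
theorem gE_comm (u t s : F) : gE S u t s * dd S = dd S * gE S u t s := by
  rw [gE_eq S hσ]
  exact gEg_comm S _ _ _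

/-- **D2** -/
theorem of_NO {r : G} (hr : r ∈ S.NO) (h : r * dd S = dd S * r) : ∃ u t s, r = gE S u t s := by
  obtain ⟨u, w, s, e⟩ := of_NO_gen S hr h
  exact ⟨u, σ w, s, by rw [e, gEg_eq_gE S hσ]⟩

/-- **D4** -/
theorem of_HO [Finite F] [Finite G] (hF : ∃ c : Fˣ, c ≠ 1) {g : G} (hg : g ∈ S.HO) (h : g * dd S = dd S * g) :
    ∃ u t s, g = gE S u t s ∨ ∃ a : F, a ^ 2 + a + 1 ≠ 0 ∧
      g = gE S u t s * (S.o 0 a * S.o 4 (a ^ 2 + a + 1)⁻¹ * S.o 0 (a + 1)) := by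
  obtain ⟨u, w, s, e⟩ := of_HO_gen S hF hg h
  rw [gEg_eq_gE S hσ] at e
  exact ⟨u, σ w, s, e⟩

end Cfsg.Agent.H519.TwFE
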